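import Cfsg.Agent.H114.StRegular
import Cfsg.Agent.H167.AltRGD
import Cfsg.Agent.Nodes.LeviDec

/-!
# The Steinberg character of a finite group with a root group datum at the `p`-regular elements (helper114)

* `rep_w0_sr`, `rep_w0_apply` : the longest element on the simple roots;
* `mem_PJ_iff` : the parabolic subgroups as the stabilisers of the residues;
* `value` : the value of the alternating sum `∑ K, (-1) ^ |K| * 1_{P_K}^G` at an element `g` of order prime to `p` is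
  `± |C(g)|_p`.
-/

set_option autoImplicit false
set_option linter.unusedSectionVars false

namespace Cfsg.Agent.H114.StRGD

open Cfsg CoxeterSystem Cfsg.Agent.ChevalleyStructure.CoxeterGeom Cfsg.Agent.Tits.Roots Cfsg.Agent.Tits.Core
  Cfsg.Agent.Tits.Exchange Cfsg.Agent.Tits.OfBN Cfsg.Agent.LieExceptional.BNPairCore
  Cfsg.Agent.Nodes.Reps Cfsg.Agent.Nodes.BNOf Cfsg.Agent.Nodes.OppDec Cfsg.Agent.Nodes.StabComb
  Cfsg.Agent.Nodes.Bruhat Cfsg.Agent.Nodes.LeviDec Cfsg.Agent.H167.SteinbergMod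
  Cfsg.Agent.H167.SteinbergRGD Cfsg.Agent.H114.StValue Cfsg.Agent.H114.StRegular

section Comb

variable {I W : Type*} [Fintype I] [DecidableEq I] [Group W] {M : CoxeterMatrix I}
  {cs : CoxeterSystem M W} {A : I → I → ℤ} {h : IsCartan M A}

include h in
theorem simple_injective : Function.Injective cs.simple := by
  intro i j hij
  by_contra hne
  have h1 := rep_simple_sr cs h i
  rw [hij] at h1
  have h2 := congrFun h1 i
  rw [rep_simple_apply cs h j (sr i) i hne, Pi.neg_apply, sr_self] at h2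
  omega

variable [Finite W]

theorem rep_w0_sr (j : I) : rep cs h (w0 cs) (sr j) = - sr (op cs j) := by
  set z := - rep cs h (w0 cs) (sr j) with hz
  have hzr : IsRoot cs h z := ((isRoot_sr cs h j).act (w0 cs)).neg
  have hz0 : 0 ≤ z := neg_nonneg.2 (rep_w0_nonpos (isRoot_sr cs h j) (sr_nonneg j))
  have h1 : rep cs h (cs.simple (op cs j)) z = - z := by
    rw [hz, map_neg, ← rep_mul_apply, simple_op_mul_w0, rep_mul_apply, rep_simple_sr, map_neg]
  have h2 : z = sr (op cs j) := by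
    by_contra hne
    have h3 := hzr.simple_nonneg hz0 (op cs j) hne
    rw [h1] at h3
    exact hzr.not_pos_neg hz0 (neg_nonneg.1 h3)
  rw [← h2, hz, neg_neg]

theorem rep_w0_apply (x : I → ℤ) (k : I) : rep cs h (w0 cs) x (op cs k) = - x k := by
  have hx : x = ∑ i, x i • sr i := by
    funext k
    rw [Finset.sum_apply, Finset.sum_eq_single k]
    · rw [Pi.smul_apply, sr_self, smul_eq_mul, mul_one]
    · intro j _ hj
      rw [Pi.smul_apply, sr_ne (Ne.symm hj), smul_zero]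
    · intro hk
      exact absurd (Finset.mem_univ k) hk
  conv_lhs => rw [hx]
  rw [map_sum, Finset.sum_apply, Finset.sum_eq_single k]
  · rw [map_smul, rep_w0_sr, Pi.smul_apply, Pi.neg_apply, sr_self, smul_eq_mul]
    ring
  · intro j _ hj
    rw [map_smul, rep_w0_sr, Pi.smul_apply, Pi.neg_apply, sr_ne, neg_zero, smul_zero]
    intro h2
    apply hj
    rw [← op_op cs (simple_injective (h := h)) j, ← h2, op_op cs (simple_injective (h := h)) k]
  · intro hk
    exact absurd (Finset.mem_univ k) hk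

theorem RootsJ_w0 {J : Set I} {x : I → ℤ} (hx : x ∈ RootsJ cs h J) :
    rep cs h (w0 cs) x ∈ RootsJ cs h (op cs '' J) := by
  refine ⟨hx.1.act _, fun k hk => ?_⟩
  have h1 : op cs k ∉ J := fun h2 => hk ⟨op cs k, h2, op_op cs (simple_injective (h := h)) k⟩
  have h2 := rep_w0_apply (cs := cs) (h := h) x (op cs k)
  rw [op_op cs (simple_injective (h := h)) k] at h2
  rw [h2, hx.2 _ h1, neg_zero]

theorem NotJ_w0 {J : Set I} {x : I → ℤ} (hx : x ∈ NotJ cs h J) :
    rep cs h (w0 cs) x ∈ NotNJ cs h (op cs '' J) := by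
  obtain ⟨hxr, hx0, k, hk, hk0⟩ := hx
  refine ⟨(hxr.act _).neg, neg_nonneg.2 (rep_w0_nonpos hxr hx0), op cs k, ?_, ?_⟩
  · rintro ⟨j, hj, hjk⟩
    apply hk
    have : j = k := by
      rw [← op_op cs (simple_injective (h := h)) j, hjk, op_op cs (simple_injective (h := h)) k]
    rwa [← this]
  · rw [Pi.neg_apply, rep_w0_apply, neg_neg]
    exact hk0

end Comb

section Group

variable {I W Y : Type*} [Fintype I] [DecidableEq I] [Group W] [Group Y] {M : CoxeterMatrix I}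
  {cs : CoxeterSystem M W} {A : I → I → ℤ} {h : IsCartan M A} {p : ℕ} {T : Subgroup Y} {n : I → Y}
  {X : (I → ℤ) → Subgroup Y} [Finite W] (R : RGD cs h p T n X)

include R

theorem conj_LJ {k0 : Y} (hk0 : Rp cs R.nsys (w0 cs) k0) {J : Set I} {l : Y} (hl : l ∈ LJ cs h T X J) :
    k0⁻¹ * l * k0 ∈ LJ cs h T X (op cs '' J) := by
  have hk : Rp cs R.nsys (w0 cs) k0⁻¹ := by
    have := hk0.inv
    rwa [w0_inv] at this
  have h1 : cj k0⁻¹ (LJ cs h T X J) ≤ LJ cs h T X (op cs '' J) := by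
    unfold LJ
    rw [cj_sup, cj_T R hk]
    exact sup_le_sup_left (cj_Sup_le R hk (fun x hx => hx.1) fun x hx => RootsJ_w0 hx) _
  have h2 := h1 (conj_mem_cj.2 hl)
  rwa [inv_inv] at h2

theorem conj_VJ {k0 : Y} (hk0 : Rp cs R.nsys (w0 cs) k0) {J : Set I} {v : Y} (hv : v ∈ VJ cs h X J) :
    k0⁻¹ * v * k0 ∈ VNJ cs h X (op cs '' J) := by
  have hk : Rp cs R.nsys (w0 cs) k0⁻¹ := by
    have := hk0.inv
    rwa [w0_inv] at this
  have h2 := conj_mem_Sup R hk (fun x hx => hx.1) (fun x hx => NotJ_w0 hx) hv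
  rwa [inv_inv] at h2

variable (Δ : Bldg cs (Y ⧸ RGD.B cs h T X))
  (hδ : ∀ (a b k : Y) (w : W), Rp cs R.nsys w k → (Δ.δ (QuotientGroup.mk a) (QuotientGroup.mk b) = w ↔
        ∃ b₁ ∈ RGD.B cs h T X, ∃ b₂ ∈ RGD.B cs h T X, a⁻¹ * b = b₁ * k * b₂))

include hδ

/-- The parabolic subgroups and the residues. -/
theorem mem_WJ_iff {J : Set I} (a b : Y) :
    Δ.δ (QuotientGroup.mk a) (QuotientGroup.mk b) ∈ WJ cs J ↔ a⁻¹ * b ∈ PJ cs h T X J := by
  rw [mem_PJ_iff_cell R]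
  constructor
  · intro hw
    obtain ⟨k, hk⟩ := exists_rp cs R.nsys (Δ.δ (QuotientGroup.mk a) (QuotientGroup.mk b))
    obtain ⟨b₁, hb₁, b₂, hb₂, e⟩ := (hδ a b k _ hk).1 rfl
    exact ⟨_, hw, b₁, hb₁, k, hk, b₂, hb₂, e⟩
  · rintro ⟨w, hw, b₁, hb₁, k, hk, b₂, hb₂, e⟩
    rw [(hδ a b k w hk).2 ⟨b₁, hb₁, b₂, hb₂, e⟩]
    exact hw

variable (hiso : ∀ (g : Y) (x y : Y ⧸ RGD.B cs h T X), Δ.δ (g • x) (g • y) = Δ.δ x y)

theorem mem_stabRes_iff (k0 : Y) (K : Finset I) (g : Y) :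
    g ∈ stabRes Δ hiso (QuotientGroup.mk k0) (opK cs K) ↔
      k0⁻¹ * g * k0 ∈ PJ cs h T X (op cs '' (K : Set I)) := by
  rw [mem_stabRes, coe_opK]
  have e : g • (QuotientGroup.mk k0 : Y ⧸ RGD.B cs h T X) = QuotientGroup.mk (g * k0) := rfl
  rw [e, mem_WJ_iff R Δ hδ, mul_assoc]

end Group

section Main

variable {I W Y : Type*} [Fintype I] [DecidableEq I] [Group W] [Group Y] {M : CoxeterMatrix I}
  {cs : CoxeterSystem M W} {A : I → I → ℤ} {h : IsCartan M A} {p : ℕ} {T : Subgroup Y} {n : I → Y}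
  {X : (I → ℤ) → Subgroup Y}

/-- **The Steinberg character of a finite group with a root group datum at the `p`-regular elements.** -/
theorem value [Finite W] [Finite Y] [Fact p.Prime] (R : RGD cs h p T n X)
    (hgen : RGD.B cs h T X ⊔ NN cs R.nsys = ⊤)
    (hS : Nat.card (RGD.Sup X (RGD.Pos cs h)) = p ^ (Nat.card Y).factorization p)
    (g : Y) (hg : ¬ p ∣ orderOf g) :
    (∑ K ∈ (Finset.univ : Finset I).powerset, (-1 : ℂ) ^ K.card *
      fixedPointCharacter (RGD.B cs h T X ⊔ Subgroup.closure (n '' (K : Set I))) g) =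
        ((p ^ (Nat.card ↥(Subgroup.centralizer ({g} : Set Y))).factorization p : ℕ) : ℂ) ∨
    (∑ K ∈ (Finset.univ : Finset I).powerset, (-1 : ℂ) ^ K.card *
      fixedPointCharacter (RGD.B cs h T X ⊔ Subgroup.closure (n '' (K : Set I))) g) =
        -((p ^ (Nat.card ↥(Subgroup.centralizer ({g} : Set Y))).factorization p : ℕ) : ℂ) := by
  obtain ⟨Δ, hiso, htr, hδ⟩ := exists_bldg R hgen
  have : Fintype (Y ⧸ RGD.B cs h T X) := Fintype.ofFinite _
  have htr1 : ∀ x y : Y ⧸ RGD.B cs h T X, ∃ g : Y, g • x = y := by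
    intro x y
    obtain ⟨g, hg, -⟩ := htr x x y y (by rw [(Δ.eq_one x x).2 rfl, (Δ.eq_one y y).2 rfl])
    exact ⟨g, hg⟩
  set c : Y ⧸ RGD.B cs h T X := QuotientGroup.mk 1 with hc
  have key : ∀ g : Y, (stRep Δ hiso).character g = ∑ K ∈ (Finset.univ : Finset I).powerset, (-1 : ℂ) ^ K.card *
      fixedPointCharacter (RGD.B cs h T X ⊔ Subgroup.closure (n '' (K : Set I))) g := by
    intro g
    rw [H167.AltBldg.character_alt Δ hiso c g]
    refine Finset.sum_congr rfl fun K _ => ?_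
    rw [H167.AltBldg.card_fixed Δ hiso c htr1 K _
      (fun g => H167.AltRGD.mem_parabolic_iff R Δ hiso hδ (K : Set I) g) g]
    rfl
  choose k hk using fun w : W => exists_rp cs R.nsys w
  have ha : ∀ v w, Δ.δ (QuotientGroup.mk (k v)) (QuotientGroup.mk (k w)) = v⁻¹ * w := by
    intro v w
    rw [hδ _ _ _ _ ((hk v).inv.mul (hk w))]
    exact ⟨1, one_mem _, 1, one_mem _, by group⟩
  have hapt : ∀ x y, Δ.Opp x y → ∃ a : W → Y ⧸ RGD.B cs h T X,
      (∀ v w, Δ.δ (a v) (a w) = v⁻¹ * w) ∧ a 1 = x ∧ a (w0 cs) = y := by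
    intro x y hxy
    have h1 : Δ.δ (QuotientGroup.mk (k 1)) (QuotientGroup.mk (k (w0 cs))) = Δ.δ x y := by
      rw [ha, inv_one, one_mul]
      exact hxy.symm
    obtain ⟨g, hg1, hg2⟩ := htr _ _ _ _ h1
    refine ⟨fun w => g • QuotientGroup.mk (k w), ?_, hg1, hg2⟩
    intro v w
    rw [hiso, ha]
  set k0 := k (w0 cs) with hk0def
  have hk0 : Rp cs R.nsys (w0 cs) k0 := hk (w0 cs)
  have ha0 : Δ.Opp c (QuotientGroup.mk k0) := by
    unfold Bldg.Opp
    rw [hc, hδ _ _ _ _ hk0]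
    exact ⟨1, one_mem _, 1, one_mem _, by group⟩
  have hirr : (stRep Δ hiso).IsIrreducible :=
    irreducible Δ hiso c (hapt c) ⟨_, ha0⟩ htr
  have hχ := Cfsg.Agent.Characters.Core.isIrrCharacter_of_rep _ hirr
  have hmem : ∀ (K : Finset I) (x : Y), Δ.δ c (x • c) ∈ WJ cs (K : Set I) ↔ x ∈ PJ cs h T X (K : Set I) := by
    intro K x
    have e : x • c = QuotientGroup.mk (x * 1) := rfl
    rw [e, hc, mem_WJ_iff R Δ hδ, inv_one, one_mul, mul_one]
  have hdeg : (stRep Δ hiso).character 1 = ((p ^ (Nat.card Y).factorization p : ℕ) : ℂ) := by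
    rw [character_eq Δ hiso c (hapt c) (one_smul Y c), ← hS, H167.AltRGD.card_opp_fixed R Δ hδ (one_mem _)]
    congr 1
    refine Nat.card_congr ((Equiv.Set.univ (RGD.Sup X (RGD.Pos cs h))).symm.trans (Equiv.subtypeEquivRight ?_)).symm
    intro u
    simp [one_mem]
  rw [← key g]
  refine StRegular.value Δ hiso (p := p) htr c (QuotientGroup.mk k0) ha0 (hapt c)
    (fun K => VJ cs h X (K : Set I)) ?_ ?_ ?_ ?_ ?_ hχ hdeg g hg
  · intro K
    exact R.isPGroup_Upos.to_le (VJ_le_U _)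
  · intro K v hv
    rw [hmem]
    exact VJ_le_PJ hv
  · intro K x hx v hv
    rw [hmem] at hx
    exact (Subgroup.mem_normalizer_iff.1 (PJ_le_normalizer_VJ R _ hx) v).1 hv
  · intro K x hx
    rw [hmem] at hx
    obtain ⟨l, hl, v, hv, rfl⟩ := (mem_PJ R).1 hx
    refine ⟨l * v * l⁻¹, (Subgroup.mem_normalizer_iff.1 (LJ_le_normalizer_VJ R _ hl) v).1 hv, ?_⟩
    have e : (l * v * l⁻¹)⁻¹ * (l * v) = l := by group
    rw [e, mem_stabRes_iff R Δ hδ hiso]
    exact LJ_le_PJ (conj_LJ R hk0 hl)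
  · intro K v hv hv2
    rw [mem_stabRes_iff R Δ hδ hiso] at hv2
    have h1 := eq_one_of_mem_VNJ_of_mem_PJ R (conj_VJ R hk0 hv) hv2
    have e : v = k0 * (k0⁻¹ * v * k0) * k0⁻¹ := by group
    rw [e, h1]
    group

end Main

end Cfsg.Agent.H114.StRGD
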