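import Cfsg.Agent.H114.AltTy
import Cfsg.Agent.H882.Del.Max
import Mathlib.GroupTheory.SpecificGroups.Alternating
import Mathlib.RepresentationTheory.Basic

/-!
# Modules spanned by `f i j`, `f i j + f j k = f i k`, permuted by the alternating group (helper114)

* `Nat.coeff_eq`, `Nat.cases` : either the `f j i₀` (`j ≠ i₀`) are independent and `p ∤ m` or
  `∑ j, f j i₀ = 0` and `p ∣ m`;
* `Nat.sysA`, `Nat.grA` : `n = m - 1`;
* `Nat.sysB`, `Nat.grB` : `n = m - 2`.
-/

set_option autoImplicit false
set_option linter.unusedSectionVars false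

namespace Cfsg.Agent.H114.AltNat

open Module Equiv Equiv.Perm Cfsg.Agent.H882.Del

variable {α : Type*} [Fintype α] [DecidableEq α]
variable {F V : Type*} [Field F] [AddCommGroup V] [Module F V]

/-- The output of `H614.AMod.natural`. -/
structure NatM (ρ : Representation F (alternatingGroup α) V) (f : α → α → V) : Prop where
  anti : ∀ i j, f j i = -f i j
  add : ∀ i j k, f i j + f j k = f i k
  equiv : ∀ (g : alternatingGroup α) i j, ρ g (f i j) = f ((g : Perm α) i) ((g : Perm α) j)
  span : Submodule.span F (Set.range fun p : α × α => f p.1 p.2) = ⊤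
  ne : ∃ i j, f i j ≠ 0

/-- `A_m` is twofold transitive, with control: `(i j)(k l)`. -/
theorem exists_two {i j k l : α} (h4 : 4 ≤ Fintype.card α) (hij : i ≠ j) (hkl : k ≠ l) :
    ∃ g : alternatingGroup α, (g : Perm α) i = k ∧ (g : Perm α) j = l := by
  -- a permutation
  obtain ⟨σ, h1, h2⟩ : ∃ σ : Perm α, σ i = k ∧ σ j = l := by
    refine ⟨swap (swap i k j) l * swap i k, ?_, ?_⟩
    · rw [Perm.mul_apply, swap_apply_left]
      apply swap_apply_of_ne_of_ne
      · intro h
        have h3 : swap i k j = swap i k i := by rw [swap_apply_left, ← h]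
        exact hij ((swap i k).injective h3).symm
      · exact hkl
    · rw [Perm.mul_apply, swap_apply_left]
  rcases Int.units_eq_one_or (sign σ) with hs | hs
  · exact ⟨⟨σ, hs⟩, h1, h2⟩
  · obtain ⟨a, ha⟩ := exists_not_mem ({i, j} : Finset α) (lt_of_le_of_lt Finset.card_le_two (by omega))
    obtain ⟨b, hb⟩ := exists_not_mem ({i, j, a} : Finset α) (lt_of_le_of_lt Finset.card_le_three (by omega))
    simp only [Finset.mem_insert, Finset.mem_singleton, not_or] at ha hb
    have hab : a ≠ b := fun h => hb.2.2 h.symm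
    refine ⟨⟨σ * swap a b, ?_⟩, ?_, ?_⟩
    · rw [mem_alternatingGroup, map_mul, hs, sign_swap hab]
      rfl
    · change σ (swap a b i) = k
      rw [swap_apply_of_ne_of_ne (Ne.symm ha.1) (Ne.symm hb.1), h1]
    · change σ (swap a b j) = l
      rw [swap_apply_of_ne_of_ne (Ne.symm ha.2) (Ne.symm hb.2.1), h2]

/-- the same fixing a third point -/
theorem exists_three {i j k l o : α} (h5 : 5 ≤ Fintype.card α) (hij : i ≠ j) (hkl : k ≠ l) (hi : i ≠ o) (hj : j ≠ o)
    (hk : k ≠ o) (hl : l ≠ o) :
    ∃ g : alternatingGroup α, (g : Perm α) i = k ∧ (g : Perm α) j = l ∧ (g : Perm α) o = o := by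
  obtain ⟨σ, h1, h2, h3⟩ : ∃ σ : Perm α, σ i = k ∧ σ j = l ∧ σ o = o := by
    have hne : swap i k j ≠ o := by
      intro h
      have h4 : swap i k j = swap i k o := by rw [swap_apply_of_ne_of_ne (Ne.symm hi) (Ne.symm hk), h]
      exact hj ((swap i k).injective h4)
    refine ⟨swap (swap i k j) l * swap i k, ?_, ?_, ?_⟩
    · rw [Perm.mul_apply, swap_apply_left]
      apply swap_apply_of_ne_of_ne
      · intro h
        have h3 : swap i k j = swap i k i := by rw [swap_apply_left, ← h]
        exact hij ((swap i k).injective h3).symm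
      · exact hkl
    · rw [Perm.mul_apply, swap_apply_left]
    · rw [Perm.mul_apply, swap_apply_of_ne_of_ne (Ne.symm hi) (Ne.symm hk), swap_apply_of_ne_of_ne (Ne.symm hne)
        (Ne.symm hl)]
  rcases Int.units_eq_one_or (sign σ) with hs | hs
  · exact ⟨⟨σ, hs⟩, h1, h2, h3⟩
  · obtain ⟨a, ha⟩ := exists_not_mem ({i, j, o} : Finset α) (lt_of_le_of_lt Finset.card_le_three (by omega))
    obtain ⟨b, hb⟩ := exists_not_mem ({i, j, o, a} : Finset α) (lt_of_le_of_lt Finset.card_le_four (by omega))
    simp only [Finset.mem_insert, Finset.mem_singleton, not_or] at ha hb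
    have hab : a ≠ b := fun h => hb.2.2.2 h.symm
    refine ⟨⟨σ * swap a b, ?_⟩, ?_, ?_, ?_⟩
    · rw [mem_alternatingGroup, map_mul, hs, sign_swap hab]
      rfl
    · change σ (swap a b i) = k
      rw [swap_apply_of_ne_of_ne (Ne.symm ha.1) (Ne.symm hb.1), h1]
    · change σ (swap a b j) = l
      rw [swap_apply_of_ne_of_ne (Ne.symm ha.2.1) (Ne.symm hb.2.1), h2]
    · change σ (swap a b o) = o
      rw [swap_apply_of_ne_of_ne (Ne.symm ha.2.2) (Ne.symm hb.2.2.1), h3]

namespace NatM

variable {ρ : Representation F (alternatingGroup α) V} {f : α → α → V} (h : NatM ρ f)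

include h

theorem self (i : α) : f i i = 0 := by
  have h1 := h.add i i i
  exact left_eq_add.1 h1.symm

theorem ne_zero (h4 : 4 ≤ Fintype.card α) {i j : α} (hij : i ≠ j) : f i j ≠ 0 := by
  intro h0
  obtain ⟨k, l, hkl⟩ := h.ne
  have hkl' : k ≠ l := by
    rintro rfl
    exact hkl (h.self k)
  obtain ⟨g, h1, h2⟩ := exists_two h4 hij hkl'
  apply hkl
  rw [← h1, ← h2, ← h.equiv, h0, map_zero]

theorem sub (i j k : α) : f i k - f j k = f i j := by
  rw [sub_eq_iff_eq_add, h.add]

/-- The relations. -/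
theorem coeff_eq (h7 : 7 ≤ Fintype.card α) {i0 : α} {c : α → F} (hc : ∑ j, c j • f j i0 = 0) {i j : α} (hi : i ≠ i0)
    (hj : j ≠ i0) : c i = c j := by
  by_cases hij : i = j
  · rw [hij]
  obtain ⟨k, hk⟩ := exists_not_mem ({i0, i, j} : Finset α) (lt_of_le_of_lt Finset.card_le_three (by omega))
  obtain ⟨l, hl⟩ := exists_not_mem ({i0, i, j, k} : Finset α) (lt_of_le_of_lt Finset.card_le_four (by omega))
  obtain ⟨s, hs⟩ := exists_not_mem ({i0, i, j, k, l} : Finset α) (lt_of_le_of_lt Finset.card_le_five (by omega))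
  obtain ⟨t, ht⟩ := exists_not_mem ({i0, i, j, k, l, s} : Finset α) (lt_of_le_of_lt Finset.card_le_six (by omega))
  simp only [Finset.mem_insert, Finset.mem_singleton, not_or] at hk hl hs ht
  -- `(i j)(k l)`
  let g : alternatingGroup α := ⟨swap i j * swap k l, by
    rw [mem_alternatingGroup, map_mul, sign_swap hij, sign_swap (Ne.symm hl.2.2.2)]; rfl⟩
  have hgi : (g : Perm α) i = j := by
    change swap i j (swap k l i) = j
    rw [swap_apply_of_ne_of_ne (Ne.symm hk.2.1) (Ne.symm hl.2.1), swap_apply_left]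
  have hgj : (g : Perm α) j = i := by
    change swap i j (swap k l j) = i
    rw [swap_apply_of_ne_of_ne (Ne.symm hk.2.2) (Ne.symm hl.2.2.1), swap_apply_right]
  have hgk : (g : Perm α) k = l := by
    change swap i j (swap k l k) = l
    rw [swap_apply_left, swap_apply_of_ne_of_ne hl.2.1 hl.2.2.1]
  have hgl : (g : Perm α) l = k := by
    change swap i j (swap k l l) = k
    rw [swap_apply_right, swap_apply_of_ne_of_ne hk.2.1 hk.2.2]
  have hgo : ∀ x, x ≠ i → x ≠ j → x ≠ k → x ≠ l → (g : Perm α) x = x := by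
    intro x h1 h2 h3 h4
    change swap i j (swap k l x) = x
    rw [swap_apply_of_ne_of_ne h3 h4, swap_apply_of_ne_of_ne h1 h2]
  have e1 : ∑ x, c x • f ((g : Perm α) x) i0 = 0 := by
    have h1 := congrArg (ρ g) hc
    rw [map_zero, map_sum] at h1
    rw [← h1]
    refine Finset.sum_congr rfl fun x _ => ?_
    rw [map_smul, h.equiv, hgo i0 (Ne.symm hi) (Ne.symm hj) (Ne.symm hk.1) (Ne.symm hl.1)]
  have e2 : ∑ x, c x • (f x i0 - f ((g : Perm α) x) i0) = 0 := by
    simp only [smul_sub, Finset.sum_sub_distrib, hc, e1, sub_self]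
  have e3 : (c i - c j) • f i j + (c k - c l) • f k l = 0 := by
    have hsub : ∑ x ∈ ({i, j, k, l} : Finset α), c x • (f x i0 - f ((g : Perm α) x) i0) = 0 := by
      rw [← e2]
      refine Finset.sum_subset (Finset.subset_univ _) fun x _ hx => ?_
      simp only [Finset.mem_insert, Finset.mem_singleton, not_or] at hx
      rw [hgo x hx.1 hx.2.1 hx.2.2.1 hx.2.2.2, sub_self, smul_zero]
    rw [Finset.sum_insert (by
      simp only [Finset.mem_insert, Finset.mem_singleton, not_or]
      exact ⟨hij, Ne.symm hk.2.1, Ne.symm hl.2.1⟩), Finset.sum_insert (by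
      simp only [Finset.mem_insert, Finset.mem_singleton, not_or]
      exact ⟨Ne.symm hk.2.2, Ne.symm hl.2.2.1⟩), Finset.sum_pair (Ne.symm hl.2.2.2), hgi, hgj, hgk, hgl, h.sub, h.sub,
      h.sub, h.sub, h.anti i j, h.anti k l] at hsub
    rw [← hsub, sub_smul, sub_smul, smul_neg, smul_neg]
    abel
  -- `(i s t)` : `i ↦ s`
  let g' : alternatingGroup α := ⟨swap i s * swap i t, by
    rw [mem_alternatingGroup, map_mul, sign_swap (Ne.symm hs.2.1), sign_swap (Ne.symm ht.2.1)]; rfl⟩
  have hg'i : (g' : Perm α) i = t := by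
    change swap i s (swap i t i) = t
    rw [swap_apply_left, swap_apply_of_ne_of_ne ht.2.1 ht.2.2.2.2.2]
  have hg'o : ∀ x, x ≠ i → x ≠ s → x ≠ t → (g' : Perm α) x = x := by
    intro x h1 h2 h3
    change swap i s (swap i t x) = x
    rw [swap_apply_of_ne_of_ne h1 h3, swap_apply_of_ne_of_ne h1 h2]
  have e4 : (c i - c j) • f t j + (c k - c l) • f k l = 0 := by
    have h1 := congrArg (ρ g') e3
    rw [map_zero, map_add, map_smul, map_smul, h.equiv, h.equiv, hg'i,
      hg'o j (Ne.symm hij) (Ne.symm hs.2.2.1) (Ne.symm ht.2.2.1),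
      hg'o k hk.2.1 (Ne.symm hs.2.2.2.1) (Ne.symm ht.2.2.2.1),
      hg'o l hl.2.1 (Ne.symm hs.2.2.2.2) (Ne.symm ht.2.2.2.2.1)] at h1
    exact h1
  have e5 : (c i - c j) • f i t = 0 := by
    rw [← h.sub i t j, smul_sub]
    have := e3.trans e4.symm
    exact sub_eq_zero.2 (add_right_cancel this)
  exact sub_eq_zero.1 ((smul_eq_zero.1 e5).resolve_right (h.ne_zero (by omega) (Ne.symm ht.2.1)))

/-- the sums -/
theorem sum_sub (i0 i1 : α) : ∑ j, f j i0 - ∑ j, f j i1 = (Fintype.card α : F) • f i1 i0 := by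
  rw [← Finset.sum_sub_distrib]
  have h1 : ∀ j, f j i0 - f j i1 = f i1 i0 := by
    intro j
    rw [sub_eq_iff_eq_add, add_comm, h.add]
  rw [Finset.sum_congr rfl fun j _ => h1 j, Finset.sum_const, Finset.card_univ, Nat.cast_smul_eq_nsmul]

theorem span' (i0 : α) : Submodule.span F (Set.range fun j => f j i0) = ⊤ := by
  rw [eq_top_iff, ← h.span, Submodule.span_le]
  rintro _ ⟨⟨i, j⟩, rfl⟩
  change f i j ∈ _
  rw [← h.sub i j i0]
  exact Submodule.sub_mem _ (Submodule.subset_span ⟨i, rfl⟩) (Submodule.subset_span ⟨j, rfl⟩)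

/-- **The two cases.** -/
theorem cases (h7 : 7 ≤ Fintype.card α)
    (hirr : ∀ W : Submodule F V, (∀ g : alternatingGroup α, ∀ w ∈ W, ρ g w ∈ W) → W = ⊥ ∨ W = ⊤)
    (h2 : 2 ≤ finrank F V) :
    (finrank F V + 1 = Fintype.card α ∧ (Fintype.card α : F) ≠ 0) ∨
    (finrank F V + 2 = Fintype.card α ∧ (Fintype.card α : F) = 0 ∧ ∀ i0, ∑ j, f j i0 = 0) := by
  have hfin : Module.Finite F V := Module.finite_of_finrank_pos (by omega)
  have hne : Nonempty α := Fintype.card_pos_iff.1 (by omega)
  obtain ⟨i0⟩ := hne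
  have hcard : Fintype.card {i // i ≠ i0} = Fintype.card α - 1 := by
    rw [Fintype.card_subtype_compl, Fintype.card_subtype_eq]
  have hspan : Submodule.span F (Set.range fun j : {i // i ≠ i0} => f j i0) = ⊤ := by
    rw [eq_top_iff, ← h.span' i0, Submodule.span_le]
    rintro _ ⟨j, rfl⟩
    by_cases hj : j = i0
    · subst hj
      change f j j ∈ _
      rw [h.self]
      exact Submodule.zero_mem _
    · exact Submodule.subset_span ⟨⟨j, hj⟩, rfl⟩
  by_cases h0 : ∑ j, f j i0 = 0
  · right
    have hall : ∀ i, ∑ j, f j i = 0 := by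
      intro i
      by_cases hi : i = i0
      · rw [hi]; exact h0
      · obtain ⟨g, hg1, -⟩ := exists_two (i := i0) (j := i) (k := i) (l := i0) (by omega) (Ne.symm hi) hi
        have h1 := congrArg (ρ g) h0
        rw [map_zero, map_sum] at h1
        rw [← h1, ← Equiv.sum_comp (g : Perm α) (fun j => f j i)]
        refine Finset.sum_congr rfl fun j _ => ?_
        rw [h.equiv, hg1]
    have hm : (Fintype.card α : F) = 0 := by
      obtain ⟨i1, hi1⟩ := exists_not_mem ({i0} : Finset α) (by rw [Finset.card_singleton]; omega)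
      rw [Finset.mem_singleton] at hi1
      have h1 := h.sum_sub i0 i1
      rw [hall, hall, sub_zero] at h1
      exact (smul_eq_zero.1 h1.symm).resolve_right (h.ne_zero (by omega) hi1)
    refine ⟨?_, hm, hall⟩
    -- the relations form a line
    let Φ : ({i // i ≠ i0} → F) →ₗ[F] V := Fintype.linearCombination F (fun j : {i // i ≠ i0} => f j i0)
    have hΦ : ∀ c, Φ c = ∑ i, c i • f i i0 := fun c => rfl
    have hsurj : LinearMap.range Φ = ⊤ := by
      rw [← hspan]
      exact Fintype.range_linearCombination F _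
    have h1 := LinearMap.finrank_range_add_finrank_ker Φ
    rw [hsurj, finrank_top, Module.finrank_fintype_fun_eq_card, hcard] at h1
    have h3 : finrank F (LinearMap.ker Φ) = 1 := by
      have hmem : (fun _ : {i // i ≠ i0} => (1 : F)) ∈ LinearMap.ker Φ := by
        rw [LinearMap.mem_ker, hΦ]
        simp only [one_smul]
        rw [← h0, Fintype.sum_eq_add_sum_subtype_ne _ i0, h.self, zero_add]
      obtain ⟨i1, hi1⟩ := exists_not_mem ({i0} : Finset α) (by rw [Finset.card_singleton]; omega)
      rw [Finset.mem_singleton] at hi1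
      refine finrank_eq_one (⟨_, hmem⟩ : LinearMap.ker Φ) ?_ ?_
      · intro hz
        have := congrFun (congrArg Subtype.val hz) ⟨i1, hi1⟩
        exact one_ne_zero this
      · rintro ⟨c, hc⟩
        refine ⟨c ⟨i1, hi1⟩, ?_⟩
        apply Subtype.ext
        funext j
        change c ⟨i1, hi1⟩ * 1 = c j
        rw [mul_one]
        rw [LinearMap.mem_ker, hΦ] at hc
        let e : α → F := fun j => if hj : j ≠ i0 then c ⟨j, hj⟩ else 0
        have he : ∀ j : {j // j ≠ i0}, e j = c j := fun j => dif_pos j.2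
        have h4 : ∑ j, e j • f j i0 = 0 := by
          rw [Fintype.sum_eq_add_sum_subtype_ne _ i0, h.self, smul_zero, zero_add, ← hc]
          exact Finset.sum_congr rfl fun j _ => by rw [he]
        have h5 := h.coeff_eq h7 h4 hi1 j.2
        rw [he, he ⟨i1, hi1⟩] at h5
        exact h5
    omega
  · left
    have hli : LinearIndependent F (fun j : {i // i ≠ i0} => f j i0) := by
      rw [Fintype.linearIndependent_iff]
      intro c hc i
      let e : α → F := fun j => if hj : j ≠ i0 then c ⟨j, hj⟩ else 0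
      have he : ∀ j : {j // j ≠ i0}, e j = c j := fun j => dif_pos j.2
      have h4 : ∑ j, e j • f j i0 = 0 := by
        rw [Fintype.sum_eq_add_sum_subtype_ne _ i0, h.self, smul_zero, zero_add, ← hc]
        exact Finset.sum_congr rfl fun j _ => by rw [he]
      by_contra hne
      apply h0
      have h6 : ∑ j, e j • f j i0 = c i • ∑ j, f j i0 := by
        rw [Finset.smul_sum]
        refine Finset.sum_congr rfl fun j _ => ?_
        by_cases hj : j = i0
        · rw [hj, h.self, smul_zero, smul_zero]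
        · rw [h.coeff_eq h7 h4 hj i.2, he]
      rw [h6] at h4
      exact (smul_eq_zero.1 h4).resolve_left hne
    have hb : finrank F V = Fintype.card {i // i ≠ i0} :=
      Module.finrank_eq_card_basis (Basis.mk hli hspan.ge)
    refine ⟨by rw [hb, hcard]; omega, fun hm => ?_⟩
    -- invariant vector
    have hall : ∀ i, ∑ j, f j i = ∑ j, f j i0 := by
      intro i
      have h1 := h.sum_sub i i0
      rw [hm, zero_smul, sub_eq_zero] at h1
      exact h1
    have hinv : ∀ g : alternatingGroup α, ρ g (∑ j, f j i0) = ∑ j, f j i0 := by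
      intro g
      rw [map_sum, ← hall ((g : Perm α) i0), ← Equiv.sum_comp (g : Perm α) (fun j => f j ((g : Perm α) i0))]
      refine Finset.sum_congr rfl fun j _ => ?_
      rw [h.equiv]
    rcases hirr (Submodule.span F {∑ j, f j i0}) (by
      intro g w hw
      obtain ⟨c, rfl⟩ := Submodule.mem_span_singleton.1 hw
      rw [map_smul, hinv g]
      exact Submodule.smul_mem _ _ (Submodule.mem_span_singleton_self _)) with h1 | h1
    · exact h0 (Submodule.span_singleton_eq_bot.1 h1)
    · have h3 := finrank_span_le_card (R := F) ({∑ j, f j i0} : Set V)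
      rw [h1, finrank_top] at h3
      simp at h3
      omega

end NatM

end Cfsg.Agent.H114.AltNat
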