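import Cfsg.Agent.H114.RtTrace

/-!
# `SL₂(13)` in characteristic 7: the nonsplit elements are unipotent (helper114)
-/

set_option autoImplicit false
set_option linter.unusedSectionVars false

namespace Cfsg.Agent.H114.Rt

open Matrix Module Cfsg.Agent.H464.Sl2

theorem nonsplit_pow : ∀ τ : ZMod 13, (∀ x : ZMod 13, x ^ 2 - τ * x + 1 ≠ 0) →
    (!![τ, -1; 1, 0] : Matrix (Fin 2) (Fin 2) (ZMod 13)) ^ 7 = !![1, 0; 0, 1] ∨
    (!![τ, -1; 1, 0] : Matrix (Fin 2) (Fin 2) (ZMod 13)) ^ 7 = !![-1, 0; 0, -1] := by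
  decide

instance fact13 : Fact (Nat.Prime 13) := ⟨by norm_num⟩

theorem Zt_pow {τ : ZMod 13} (hτ : NonSplit τ) : ∃ ε : (ZMod 13)ˣ, ε ^ 2 = 1 ∧ Zt τ ^ 7 = t ε := by
  rcases nonsplit_pow τ hτ with h | h
  · refine ⟨1, by norm_num, ?_⟩
    apply Subtype.ext
    rw [Matrix.SpecialLinearGroup.coe_pow, Zt_val, h]
    rfl
  · refine ⟨-1, by norm_num, ?_⟩
    apply Subtype.ext
    rw [Matrix.SpecialLinearGroup.coe_pow, Zt_val, h]
    rfl

variable {k : Type*} [Field k] {V : Type*} [AddCommGroup V] [Module k V]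
  [FiniteDimensional k V] (R : SpecialLinearGroup (Fin 2) (ZMod 13) →* Module.End k V)

theorem trace_of_pow_seven [CharP k 7] {A : Module.End k V} (hA : A ^ 7 = 1) :
    LinearMap.trace k V A = (finrank k V : k) := by
  have h7 : Fact (Nat.Prime 7) := ⟨by norm_num⟩
  have hch : CharP (Module.End k V) 7 ∨ Subsingleton (Module.End k V) := by
    by_cases hs : Subsingleton (Module.End k V)
    · exact Or.inr hs
    · left
      have : Nontrivial (Module.End k V) := not_subsingleton_iff_nontrivial.1 hs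
      exact charP_of_injective_algebraMap (algebraMap k (Module.End k V)).injective 7
  rcases hch with hch | hs
  · have h1 : (A - 1) ^ 7 = 0 := by
      rw [sub_pow_char_of_commute (p := 7) (Commute.one_right A), hA, one_pow, sub_self]
    have h2 : IsNilpotent (A - 1) := ⟨7, h1⟩
    have h3 := (LinearMap.isNilpotent_trace_of_isNilpotent h2).eq_zero
    rw [map_sub, LinearMap.trace_one, sub_eq_zero] at h3
    exact h3
  · have h1 : A = 1 := Subsingleton.elim _ _
    rw [h1, LinearMap.trace_one]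

theorem chi_nonsplit [CharP k 7] (h12 : finrank k V = 12) (hc : ∀ ε : (ZMod 13)ˣ, ε ^ 2 = 1 → R (t ε) = 1)
    (τ : ZMod 13) (hτ : NonSplit τ) : chi R (Zt τ) = -2 := by
  obtain ⟨ε, hε, h⟩ := Zt_pow hτ
  unfold chi
  rw [trace_of_pow_seven (by rw [← map_pow, h, hc ε hε]), h12]
  have h7 : (7 : k) = 0 := by
    have := CharP.cast_eq_zero k 7
    exact_mod_cast this
  push_cast
  linear_combination 2 * h7

end Cfsg.Agent.H114.Rt
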