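import Cfsg.Agent.H114.TyDet

/-!
# The torus character of a principal series representation is not self-inverse (helper114)

`c_sq_ne` : `R` irreducible of degree `q + 1`, `v` a `B`-eigenvector with character `c` ⟹ `c a ≠ c a⁻¹` for some `a`.
-/

set_option autoImplicit false
set_option linter.unusedSectionVars false

namespace Cfsg.Agent.H114.Ty

open Matrix Module Cfsg Cfsg.Agent.H464.Sl2

variable {K : Type*} [Field K] [Fintype K] {k : Type*} [Field k] {V : Type*} [AddCommGroup V] [Module k V]
  [FiniteDimensional k V] (R : SpecialLinearGroup (Fin 2) K →* Module.End k V) {ψ : AddChar K k}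
  (hψ : ψ.IsPrimitive) (hK : (Fintype.card K : k) ≠ 0)

/-- the coset vectors -/
noncomputable def cosetVec (v : V) : Option K → V
  | none => v
  | some x => R (u x * w 1) v

/-- the image of an operator on `v` and on `v'` have the same coordinates -/
theorem exists_coord (hspan : Submodule.span k (Set.range R) = ⊤) {v v' : V} {c : Kˣ → k}
    (hu : ∀ x, R (u x) v = v) (hu' : ∀ x, R (u x) v' = v')
    (ht : ∀ a : Kˣ, R (t a) v = c a • v) (ht' : ∀ a : Kˣ, R (t a) v' = c a • v') (A : Module.End k V) :
    ∃ α : Option K → k, A v = ∑ i, α i • cosetVec R v i ∧ A v' = ∑ i, α i • cosetVec R v' i := by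
  classical
  have hA : A ∈ Submodule.span k (Set.range R) := by rw [hspan]; trivial
  induction hA using Submodule.span_induction with
  | mem x hx =>
    obtain ⟨g, rfl⟩ := hx
    rcases bruhat g with ⟨x, a, rfl⟩ | ⟨x, b, y, rfl⟩
    · refine ⟨Pi.single none (c a), ?_, ?_⟩
      · rw [map_mul, Module.End.mul_apply, ht, map_smul, hu, Finset.sum_eq_single none, Pi.single_eq_same]
        · rfl
        · intro i _ hi
          rw [Pi.single_eq_of_ne hi, zero_smul]
        · intro h; exact absurd (Finset.mem_univ _) h
      · rw [map_mul, Module.End.mul_apply, ht', map_smul, hu', Finset.sum_eq_single none, Pi.single_eq_same]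
        · rfl
        · intro i _ hi
          rw [Pi.single_eq_of_ne hi, zero_smul]
        · intro h; exact absurd (Finset.mem_univ _) h
    · refine ⟨Pi.single (some x) (c b), ?_, ?_⟩
      · rw [← w_one_mul_t b, map_mul, Module.End.mul_apply, hu, ← mul_assoc, map_mul, Module.End.mul_apply, ht,
          map_smul, Finset.sum_eq_single (some x), Pi.single_eq_same]
        · rfl
        · intro i _ hi
          rw [Pi.single_eq_of_ne hi, zero_smul]
        · intro h; exact absurd (Finset.mem_univ _) h
      · rw [← w_one_mul_t b, map_mul, Module.End.mul_apply, hu', ← mul_assoc, map_mul, Module.End.mul_apply, ht',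
          map_smul, Finset.sum_eq_single (some x), Pi.single_eq_same]
        · rfl
        · intro i _ hi
          rw [Pi.single_eq_of_ne hi, zero_smul]
        · intro h; exact absurd (Finset.mem_univ _) h
  | zero => exact ⟨0, by simp, by simp⟩
  | add x y _ _ hx hy =>
    obtain ⟨α, h1, h2⟩ := hx
    obtain ⟨β, h3, h4⟩ := hy
    refine ⟨α + β, ?_, ?_⟩
    · simp only [LinearMap.add_apply, h1, h3, Pi.add_apply, add_smul, Finset.sum_add_distrib]
    · simp only [LinearMap.add_apply, h2, h4, Pi.add_apply, add_smul, Finset.sum_add_distrib]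
  | smul a x _ hx =>
    obtain ⟨α, h1, h2⟩ := hx
    refine ⟨a • α, ?_, ?_⟩
    · simp only [LinearMap.smul_apply, h1, Pi.smul_apply, smul_assoc, Finset.smul_sum]
    · simp only [LinearMap.smul_apply, h2, Pi.smul_apply, smul_assoc, Finset.smul_sum]

/-- Two `B`-eigenvectors with the same character are proportional (degree `q + 1`). -/
theorem eq_of_eigen (hspan : Submodule.span k (Set.range R) = ⊤) (hd : finrank k V = Fintype.card K + 1)
    {v v' : V} (hv0 : v ≠ 0) {c : Kˣ → k}
    (hu : ∀ x, R (u x) v = v) (hu' : ∀ x, R (u x) v' = v')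
    (ht : ∀ a : Kˣ, R (t a) v = c a • v) (ht' : ∀ a : Kˣ, R (t a) v' = c a • v') : ∃ s : k, v' = s • v := by
  classical
  obtain ⟨φ, hφ⟩ := exists_dual (k := k) hv0
  -- the coset vectors of `v` form a basis
  have hgen : ⊤ ≤ Submodule.span k (Set.range (cosetVec R v)) := by
    intro y _
    obtain ⟨α, h1, -⟩ := exists_coord R hspan hu hu' ht ht' (φ.smulRight y)
    rw [LinearMap.smulRight_apply, hφ, one_smul] at h1
    rw [h1]
    exact Submodule.sum_mem _ fun i _ => Submodule.smul_mem _ _ (Submodule.subset_span ⟨i, rfl⟩)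
  have hcard : Fintype.card (Option K) = finrank k V := by rw [hd, Fintype.card_option]
  have hli : LinearIndependent k (cosetVec R v) :=
    linearIndependent_of_top_le_span_of_card_eq_finrank hgen hcard
  -- an operator with `A v = 0`, `A v' = v' - φ v' • v`
  let A : Module.End k V := LinearMap.id - φ.smulRight v
  obtain ⟨α, h1, h2⟩ := exists_coord R hspan hu hu' ht ht' A
  have h3 : A v = 0 := by
    simp [A, hφ]
  rw [h3] at h1
  have h4 := Fintype.linearIndependent_iff.1 hli α h1.symm
  rw [Finset.sum_congr rfl (g := fun _ => (0 : V)) fun i _ => by rw [h4 i, zero_smul], Finset.sum_const_zero] at h2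
  refine ⟨φ v', ?_⟩
  have h5 : v' - φ v' • v = 0 := h2
  exact sub_eq_zero.1 h5

include hψ hK in
/-- **`λ² ≠ 1`.** -/
theorem c_ne (hspan : Submodule.span k (Set.range R) = ⊤) (hd : finrank k V = Fintype.card K + 1)
    (h0 : finrank k (LinearMap.range (E R ψ 0)) = 2) {v : V} (hv0 : v ≠ 0) (hv : E R ψ 0 v = v) (c : Kˣ → k)
    (ht : ∀ a : Kˣ, R (t a) v = c a • v) : ∃ a : Kˣ, c a ≠ c a⁻¹ := by
  classical
  by_contra hcon
  push Not at hcon
  have hle := fixed_aux R hψ hK hspan hv0 hv fun a => ⟨c a, ht a⟩
  set v' := E R ψ 0 (R (w 1) v) with hv'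
  have ht' : ∀ a : Kˣ, R (t a) v' = c a • v' := by
    intro a
    have h3 := congrArg (fun f : Module.End k V => f (R (w 1) v)) (t_mul_E R ψ a 0)
    rw [zero_div] at h3
    simp only [Module.End.mul_apply] at h3
    rw [hv', h3]
    have h4 := congrArg (fun g => R g v) (t_mul_w a)
    simp only [map_mul, Module.End.mul_apply] at h4
    rw [h4, ht, map_smul, map_smul, hcon a]
  have hu : ∀ {z : V}, E R ψ 0 z = z → ∀ x : K, R (u x) z = z := by
    intro z hz x
    have h3 := congrArg (fun f : Module.End k V => f z) (R_mul_E R ψ 0 x)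
    simp only [Module.End.mul_apply, hz, zero_mul, AddChar.map_zero_eq_one, one_smul] at h3
    exact h3
  have hv'E : E R ψ 0 v' = v' := E_apply_self R hψ hK ⟨v', LinearMap.mem_range_self _ _⟩
  obtain ⟨s, hs⟩ := eq_of_eigen R hspan hd hv0 (hu hv) (hu hv'E) ht ht'
  have h3 : LinearMap.range (E R ψ 0) ≤ Submodule.span k {v} := by
    refine hle.trans ?_
    rw [Submodule.span_le]
    rintro x (rfl | hx)
    · exact Submodule.mem_span_singleton_self _
    · rw [Set.mem_singleton_iff] at hx
      rw [hx, hs]
      exact Submodule.smul_mem _ _ (Submodule.mem_span_singleton_self _)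
  have h4 := (Submodule.finrank_mono h3).trans (finrank_span_le_card _)
  rw [h0] at h4
  simp at h4

end Cfsg.Agent.H114.Ty
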