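import Cfsg.Agent.H114.TyDisc
import Cfsg.Agent.H114.TyLam
import Cfsg.Agent.H593.RobinsonRank

/-!
# The type of the quadratic form fixed by `PSL₂(q)`-cores of degree `q - 1` and `q + 1` (odd characteristic, helper114)

* `plus_iff_minus` : `|K| = r` an odd prime, `n + 1 = r`, `n = 2 m` : plus type ⟺ `(-1)^m * r` is a square;
* `plus_iff_plus`: `n = r + 1` : plus type ⟺ `d` is a square, `d = - (-1)^m r (c - c⁻¹)²`, `c ^ (r - 1) = 1`, `c² ≠ 1`.
-/

set_option autoImplicit false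
set_option linter.unusedSectionVars false

namespace Cfsg.Agent.H114.Ty

open Matrix Module Cfsg Cfsg.Geo Cfsg.Agent.H464.Sl2 Cfsg.Agent.H915.LD

section Adj

variable {ι : Type} [Fintype ι] [DecidableEq ι] {F : Type*} [Field F]

/-- `N` is adjoint to `M` -/
def Adj (Q : (ι → F) → F) (M N : Matrix ι ι F) : Prop :=
  ∀ x y, QuadraticMap.polar Q x (M *ᵥ y) = QuadraticMap.polar Q (N *ᵥ x) y

variable {Q : (ι → F) → F}

theorem Adj.add (hQ : IsNondegenerateQuadraticForm Q) {M N M' N' : Matrix ι ι F} (h : Adj Q M N) (h' : Adj Q M' N') :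
    Adj Q (M + M') (N + N') := fun x y => by
  rw [Matrix.add_mulVec, Matrix.add_mulVec, hQ.polar_bilinear.add_right, hQ.polar_bilinear.add_left, h, h']

theorem Adj.smul (hQ : IsNondegenerateQuadraticForm Q) {M N : Matrix ι ι F} (h : Adj Q M N) (c : F) :
    Adj Q (c • M) (c • N) := fun x y => by
  rw [Matrix.smul_mulVec, Matrix.smul_mulVec, hQ.polar_bilinear.smul_right, hQ.polar_bilinear.smul_left, h]

theorem Adj.neg (hQ : IsNondegenerateQuadraticForm Q) {M N : Matrix ι ι F} (h : Adj Q M N) : Adj Q (-M) (-N) := by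
  have := h.smul hQ (-1)
  simpa using this

theorem Adj.sub (hQ : IsNondegenerateQuadraticForm Q) {M N M' N' : Matrix ι ι F} (h : Adj Q M N) (h' : Adj Q M' N') :
    Adj Q (M - M') (N - N') := by
  rw [sub_eq_add_neg, sub_eq_add_neg]
  exact h.add hQ (h'.neg hQ)

theorem Adj.mul {M N M' N' : Matrix ι ι F} (h : Adj Q M N) (h' : Adj Q M' N') : Adj Q (M * M') (N' * N) := fun x y => by
  rw [← Matrix.mulVec_mulVec, h, h', Matrix.mulVec_mulVec]

theorem Adj.sum (hQ : IsNondegenerateQuadraticForm Q) {κ : Type*} (s : Finset κ) {M N : κ → Matrix ι ι F}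
    (h : ∀ i ∈ s, Adj Q (M i) (N i)) : Adj Q (∑ i ∈ s, M i) (∑ i ∈ s, N i) := by
  classical
  induction s using Finset.induction_on with
  | empty =>
    intro x y
    have h1 := hQ.polar_bilinear.smul_right 0 x 0
    have h2 := hQ.polar_bilinear.smul_left 0 0 y
    rw [zero_mul, zero_smul] at h1 h2
    rw [Finset.sum_empty, Finset.sum_empty, Matrix.zero_mulVec, Matrix.zero_mulVec, h1, h2]
  | insert a s ha ih =>
    rw [Finset.sum_insert ha, Finset.sum_insert ha]
    exact (h a (Finset.mem_insert_self _ _)).add hQ (ih fun i hi => h i (Finset.mem_insert_of_mem hi))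

theorem adj_of_fix {g : GL ι F} (h : ∀ v, Q ((g : Matrix ι ι F) *ᵥ v) = Q v) :
    Adj Q (g : Matrix ι ι F) ((g⁻¹ : GL ι F) : Matrix ι ι F) := fun x y => by
  have h1 : x = (g : Matrix ι ι F) *ᵥ (((g⁻¹ : GL ι F) : Matrix ι ι F) *ᵥ x) := by
    rw [Matrix.mulVec_mulVec, ← Units.val_mul, mul_inv_cancel, Units.val_one, Matrix.one_mulVec]
  conv_lhs => rw [h1]
  unfold QuadraticMap.polar
  rw [← Matrix.mulVec_add, h, h, h]

end Adj

section Setup

variable {n : ℕ} {F : Type*} [Field F] {P : Subgroup (GL (Fin n) F)}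

theorem setup (hC : Core P) {K : Type*} [Field K] [Fintype K] (h5 : 5 ≤ Fintype.card K)
    (h9 : Fintype.card K ≠ 9) (e : Soc P ≃* ProjectiveSpecialLinearGroup (Fin 2) K) :
    ∃ ρ : SpecialLinearGroup (Fin 2) K →* GL (Fin n) F, ρ.range = P ∧ ρ ≠ 1 ∧
      Submodule.span F (Set.range fun g => (ρ g : Matrix (Fin n) (Fin n) F)) = ⊤ := by
  obtain ⟨ρ, hρ, -⟩ := l2_rep hC h5 h9 e
  refine ⟨ρ, hρ, ?_, ?_⟩
  · intro h1
    rw [h1] at hρ
    apply hC.nonabelian
    have h3 : Subsingleton P := by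
      constructor
      rintro ⟨a, ha⟩ ⟨b, hb⟩
      rw [← hρ] at ha hb
      obtain ⟨x, rfl⟩ := ha
      obtain ⟨y, rfl⟩ := hb
      rfl
    have h2 : Subsingleton (P ⧸ (scalars (Fin n) F).subgroupOf P) := by
      constructor
      intro a b
      induction a using QuotientGroup.induction_on with
      | H a =>
        induction b using QuotientGroup.induction_on with
        | H b => rw [Subsingleton.elim a b]
    exact ⟨⟨fun a b => Subsingleton.elim _ _⟩⟩
  · apply span_eq_top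
    rw [hρ]
    exact hC.absIrred

end Setup

section inv

variable {K : Type*} [Field K]

theorem u_inv (x : K) : (u x)⁻¹ = u (-x) := by
  rw [inv_eq_iff_mul_eq_one, ← u_add, add_neg_cancel, u_zero]

theorem t_inv (b : Kˣ) : (t b)⁻¹ = t b⁻¹ := (map_inv tHom b).symm

end inv

section Main

variable {n : ℕ} {F : Type*} [Field F] [Finite F] {K : Type*} [Field K] [Fintype K]
  (ρ : SpecialLinearGroup (Fin 2) K →* GL (Fin n) F)

theorem det_ext_eq (k : Type*) [Field k] [Algebra F k] (M : Matrix (Fin n) (Fin n) F) :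
    LinearMap.det (Matrix.toLin' (M.map (algebraMap F k))) = algebraMap F k M.det := by
  rw [LinearMap.det_toLin']
  exact ((algebraMap F k).map_det M).symm

/-- **Degree `r - 1`.** -/
theorem plus_iff_minus (hρ : ρ ≠ 1) (hspan : Submodule.span F (Set.range fun g => (ρ g : Matrix (Fin n) (Fin n) F)) = ⊤)
    (hr : (Fintype.card K).Prime) (hodd : Odd (Fintype.card K)) (hK : (Fintype.card K : F) ≠ 0)
    (hn : n + 1 = Fintype.card K) {m : ℕ} (hm : n = 2 * m) (h2 : (2 : F) ≠ 0) {Q : (Fin n → F) → F}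
    (hQ : IsNondegenerateQuadraticForm Q) (hfix : ∀ g v, Q ((ρ g : Matrix (Fin n) (Fin n) F) *ᵥ v) = Q v)
    (h3 : 3 < Fintype.card K) :
    IsPlusTypeOn Q ⊤ ↔ IsSquare ((-1) ^ m * (Fintype.card K : F)) := by
  classical
  let k := AlgebraicClosure F
  have hKk : (Fintype.card K : k) ≠ 0 := by
    intro h
    apply hK
    apply (algebraMap F k).injective
    rw [map_natCast, map_zero]
    exact h
  obtain ⟨ψ, hψ⟩ := exists_prim hKk
  have hR : ext ρ k ≠ 1 := ext_ne_one ρ k hρ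
  have hs := span_ext ρ k hspan
  have hfr : finrank k (Fin n → k) = n := by rw [finrank_fintype_fun_eq_card, Fintype.card_fin]
  have hdim := dim_cases (ext ρ k) hψ hKk hs hR
  rw [hfr] at hdim
  have h1 : ∀ b : K, b ≠ 0 → finrank k (LinearMap.range (E (ext ρ k) ψ b)) = 1 := by
    rcases hdim with h | h
    · exact h.1
    · omega
  have h0 : finrank k (LinearMap.range (E (ext ρ k) ψ 0)) = 0 := by
    have h4 := finrank_eq (ext ρ k) hψ hKk
    rw [hfr, Finset.sum_congr rfl fun b hb => h1 b (Finset.ne_of_mem_erase hb), Finset.sum_const,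
      Finset.card_erase_of_mem (Finset.mem_univ _), Finset.card_univ, smul_eq_mul, mul_one] at h4
    omega
  have h4 := det_minus (ext ρ k) hψ hKk hr hodd h1 h0
  let D : Matrix (Fin n) (Fin n) F := (ρ (u 1) : Matrix (Fin n) (Fin n) F) - (ρ (u (-1)) : Matrix (Fin n) (Fin n) F)
  have hD : D.det = (Fintype.card K : F) := by
    apply (algebraMap F k).injective
    rw [← det_ext_eq k, map_natCast, ← h4]
    congr 1
    rw [ext_apply, ext_apply, ← map_sub]
    congr 1
    ext i j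
    simp [D]
  have hinv : (ρ (u 1))⁻¹ = ρ (u (-1)) := by
    rw [inv_eq_iff_mul_eq_one, ← map_mul, ← u_add, add_neg_cancel, u_zero, map_one]
  have ha1 : Adj Q (ρ (u 1) : Matrix (Fin n) (Fin n) F) (ρ (u (-1)) : Matrix (Fin n) (Fin n) F) := by
    rw [← hinv]
    exact adj_of_fix (hfix _)
  have ha2 : Adj Q (ρ (u (-1)) : Matrix (Fin n) (Fin n) F) (ρ (u 1) : Matrix (Fin n) (Fin n) F) := by
    have h5 := adj_of_fix (g := ρ (u (-1))) (hfix _)
    rwa [← hinv, inv_inv, hinv] at h5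
  have ha : Adj Q D (-D) := by
    have h5 := ha1.sub hQ ha2
    change Adj Q ((ρ (u 1) : Matrix (Fin n) (Fin n) F) - (ρ (u (-1)) : Matrix (Fin n) (Fin n) F))
      (-((ρ (u 1) : Matrix (Fin n) (Fin n) F) - (ρ (u (-1)) : Matrix (Fin n) (Fin n) F)))
    rw [neg_sub]
    exact h5
  rw [← hD]
  refine plus_iff hQ h2 (by rw [Fintype.card_fin]; exact hm) (fun x y => ?_) (by rw [hD]; exact hK)
  rw [ha x y, Matrix.neg_mulVec, ← neg_one_smul F (D *ᵥ x), hQ.polar_bilinear.smul_left, neg_one_mul]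

/-- the averaging idempotent of `U` over `F` -/
noncomputable def E0 : Matrix (Fin n) (Fin n) F :=
  ((Fintype.card K : F))⁻¹ • ∑ x : K, (ρ (u x) : Matrix (Fin n) (Fin n) F)

/-- the skew-adjoint operator -/
noncomputable def Dm (a : Kˣ) : Matrix (Fin n) (Fin n) F :=
  (ρ (u 1) : Matrix (Fin n) (Fin n) F) - (ρ (u (-1)) : Matrix (Fin n) (Fin n) F) +
    E0 ρ * ((ρ (t a) : Matrix (Fin n) (Fin n) F) - (ρ (t a⁻¹) : Matrix (Fin n) (Fin n) F)) * E0 ρ

theorem E0_ext {k : Type*} [Field k] [Algebra F k] (ψ : AddChar K k) :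
    Matrix.toLin' ((E0 ρ).map (algebraMap F k)) = E (ext ρ k) ψ 0 := by
  unfold E
  have h5 : (E0 ρ).map (algebraMap F k) =
      ((Fintype.card K : k))⁻¹ • ∑ x : K, (ρ (u x) : Matrix (Fin n) (Fin n) F).map (algebraMap F k) := by
    ext i j
    simp only [E0, Matrix.map_apply, Matrix.smul_apply, Matrix.sum_apply, smul_eq_mul, map_mul, map_inv₀,
      map_natCast, map_sum]
  rw [h5, map_smul, map_sum]
  congr 1
  refine Finset.sum_congr rfl fun x _ => ?_
  rw [zero_mul, neg_zero, AddChar.map_zero_eq_one, one_smul, ext_apply]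

theorem toLin'_map_mul {k : Type*} [Field k] [Algebra F k] (M N : Matrix (Fin n) (Fin n) F) :
    Matrix.toLin' ((M * N).map (algebraMap F k)) =
      Matrix.toLin' (M.map (algebraMap F k)) * Matrix.toLin' (N.map (algebraMap F k)) := by
  rw [Matrix.map_mul, Matrix.toLin'_mul]
  rfl

/-- **The data in degree `r + 1`.** -/
theorem plus_data (hρ : ρ ≠ 1) (hspan : Submodule.span F (Set.range fun g => (ρ g : Matrix (Fin n) (Fin n) F)) = ⊤)
    (hr : (Fintype.card K).Prime) (hodd : Odd (Fintype.card K)) (hK : (Fintype.card K : F) ≠ 0)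
    (hn : n = Fintype.card K + 1) :
    ∃ c : Kˣ → AlgebraicClosure F, c 1 = 1 ∧ (∀ x y, c (x * y) = c x * c y) ∧ (∃ a, c a ^ 2 ≠ 1) ∧
      (∀ a, algebraMap F (AlgebraicClosure F) (Dm ρ a).det =
        - (Fintype.card K : AlgebraicClosure F) * (c a - (c a)⁻¹) ^ 2) ∧ (E0 ρ).rank = 2 := by
  classical
  let k := AlgebraicClosure F
  have hKk : (Fintype.card K : k) ≠ 0 := by
    intro h
    apply hK
    apply (algebraMap F k).injective
    rw [map_natCast, map_zero]
    exact h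
  obtain ⟨ψ, hψ⟩ := exists_prim hKk
  have hR : ext ρ k ≠ 1 := ext_ne_one ρ k hρ
  have hs := span_ext ρ k hspan
  have hfr : finrank k (Fin n → k) = n := by rw [finrank_fintype_fun_eq_card, Fintype.card_fin]
  have hdim := dim_cases (ext ρ k) hψ hKk hs hR
  rw [hfr] at hdim
  have hr2 := hr.two_le
  have h1 : ∀ b : K, b ≠ 0 → finrank k (LinearMap.range (E (ext ρ k) ψ b)) = 1 := by
    rcases hdim with h | h
    · exact h.1
    · omega
  have h0 : finrank k (LinearMap.range (E (ext ρ k) ψ 0)) = 2 := by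
    have h4 := finrank_eq (ext ρ k) hψ hKk
    rw [hfr, Finset.sum_congr rfl fun b hb => h1 b (Finset.ne_of_mem_erase hb), Finset.sum_const,
      Finset.card_erase_of_mem (Finset.mem_univ _), Finset.card_univ, smul_eq_mul, mul_one] at h4
    omega
  have hne : LinearMap.range (E (ext ρ k) ψ 0) ≠ ⊥ := by
    intro h
    rw [h, finrank_bot] at h0
    exact absurd h0 (by norm_num)
  obtain ⟨v, hv0, hv, ht⟩ := exists_eigen (ext ρ k) hψ hKk hne
  choose c hc using ht
  obtain ⟨a, ha⟩ := c_ne (ext ρ k) hψ hKk hs (by rw [hfr, hn]) h0 hv0 hv c hc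
  have hcmul : ∀ x y : Kˣ, c (x * y) = c x * c y := by
    intro x y
    have h5 := hc (x * y)
    rw [t_mul, map_mul, Module.End.mul_apply, hc y, map_smul, hc x, smul_smul] at h5
    have h6 : (c y * c x - c (x * y)) • v = 0 := by rw [sub_smul, h5, sub_self]
    have h7 := (smul_eq_zero.1 h6).resolve_right hv0
    linear_combination -h7
  have hc1 : c 1 = 1 := by
    have h5 := hc 1
    rw [t_one, map_one, Module.End.one_apply] at h5
    have h6 : (1 - c 1) • v = 0 := by rw [sub_smul, one_smul, ← h5, sub_self]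
    have h7 := (smul_eq_zero.1 h6).resolve_right hv0
    linear_combination -h7
  have hcinv : ∀ a, c a⁻¹ = (c a)⁻¹ := by
    intro a
    have h5 := hcmul a a⁻¹
    rw [mul_inv_cancel, hc1] at h5
    exact (eq_inv_of_mul_eq_one_right h5.symm)
  refine ⟨c, hc1, hcmul, ⟨a, ?_⟩, ?_, ?_⟩
  · intro h
    apply ha
    rw [hcinv]
    exact eq_inv_of_mul_eq_one_left (by rw [← sq, h])
  · intro a
    rw [← hcinv, ← det_plus (ext ρ k) hψ hKk hs hr hodd h1 h0 hv0 hv c hc a, ← det_ext_eq k]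
    congr 1
    have h5 : (Dm ρ a).map (algebraMap F k) = ((ρ (u 1) : Matrix (Fin n) (Fin n) F).map (algebraMap F k) -
        (ρ (u (-1)) : Matrix (Fin n) (Fin n) F).map (algebraMap F k)) +
        (E0 ρ * ((ρ (t a) : Matrix (Fin n) (Fin n) F) - (ρ (t a⁻¹) : Matrix (Fin n) (Fin n) F)) * E0 ρ).map
          (algebraMap F k) := by
      ext i j
      simp only [Dm, Matrix.map_apply, Matrix.add_apply, Matrix.sub_apply, map_add, map_sub]
    rw [h5, map_add, map_sub, toLin'_map_mul, toLin'_map_mul, E0_ext ρ ψ, ← ext_apply, ← ext_apply]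
    congr 3
    rw [ext_apply, ext_apply, ← map_sub]
    congr 1
    ext i j
    simp
  · rw [← H593.RobinsonRank.rank_map (algebraMap F k) (E0 ρ), Matrix.rank, ← h0, ← E0_ext ρ ψ]
    rfl

section fix

variable {Q : (Fin n → F) → F} (hQ : IsNondegenerateQuadraticForm Q)
  (hfix : ∀ g v, Q ((ρ g : Matrix (Fin n) (Fin n) F) *ᵥ v) = Q v)

include hQ hfix

omit hQ in
theorem adj_rho (g : SpecialLinearGroup (Fin 2) K) :
    Adj Q (ρ g : Matrix (Fin n) (Fin n) F) (ρ g⁻¹ : Matrix (Fin n) (Fin n) F) := by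
  rw [map_inv]
  exact adj_of_fix (hfix _)

theorem adj_E0 : Adj Q (E0 ρ) (E0 ρ) := by
  have h5 : Adj Q (E0 ρ) (((Fintype.card K : F))⁻¹ • ∑ x : K, (ρ (u (-x)) : Matrix (Fin n) (Fin n) F)) := by
    refine Adj.smul hQ (Adj.sum hQ _ fun x _ => ?_) _
    have := adj_rho ρ hfix (u x)
    rwa [u_inv] at this
  have h6 : ∑ x : K, (ρ (u (-x)) : Matrix (Fin n) (Fin n) F) = ∑ x : K, (ρ (u x) : Matrix (Fin n) (Fin n) F) :=
    Equiv.sum_comp (Equiv.neg K) fun x => (ρ (u x) : Matrix (Fin n) (Fin n) F)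
  rwa [h6] at h5

theorem adj_Dm (a : Kˣ) : Adj Q (Dm ρ a) (-(Dm ρ a)) := by
  have hau : Adj Q ((ρ (u 1) : Matrix (Fin n) (Fin n) F) - (ρ (u (-1)) : Matrix (Fin n) (Fin n) F))
      (-((ρ (u 1) : Matrix (Fin n) (Fin n) F) - (ρ (u (-1)) : Matrix (Fin n) (Fin n) F))) := by
    have h5 := adj_rho ρ hfix (u 1)
    have h6 := adj_rho ρ hfix (u (-1))
    rw [u_inv] at h5 h6
    rw [neg_neg] at h6
    have h7 := h5.sub hQ h6
    rw [neg_sub]
    exact h7
  have hat : Adj Q ((ρ (t a) : Matrix (Fin n) (Fin n) F) - (ρ (t a⁻¹) : Matrix (Fin n) (Fin n) F))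
      (-((ρ (t a) : Matrix (Fin n) (Fin n) F) - (ρ (t a⁻¹) : Matrix (Fin n) (Fin n) F))) := by
    have h5 := adj_rho ρ hfix (t a)
    have h6 := adj_rho ρ hfix (t a⁻¹)
    rw [t_inv] at h5 h6
    rw [inv_inv] at h6
    have h7 := h5.sub hQ h6
    rw [neg_sub]
    exact h7
  have haE := adj_E0 ρ hQ hfix
  have h5 := hau.add hQ ((haE.mul hat).mul haE)
  have h6 : -(Dm ρ a) = -((ρ (u 1) : Matrix (Fin n) (Fin n) F) - (ρ (u (-1)) : Matrix (Fin n) (Fin n) F)) +
      E0 ρ * (-((ρ (t a) : Matrix (Fin n) (Fin n) F) - (ρ (t a⁻¹) : Matrix (Fin n) (Fin n) F)) * E0 ρ) := by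
    simp only [Dm]
    noncomm_ring
  rw [h6]
  exact h5

end fix

theorem c_pow {R : Type*} [Field R] {c : Kˣ → R} (hc1 : c 1 = 1) (hcmul : ∀ x y, c (x * y) = c x * c y) (a : Kˣ)
    (j : ℕ) : c (a ^ j) = c a ^ j := by
  induction j with
  | zero => rw [pow_zero, pow_zero, hc1]
  | succ j ih => rw [pow_succ, hcmul, ih, pow_succ]

theorem c_pow_card {R : Type*} [Field R] {c : Kˣ → R} (hc1 : c 1 = 1) (hcmul : ∀ x y, c (x * y) = c x * c y) (a : Kˣ) :
    c a ^ (Fintype.card K - 1) = 1 := by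
  classical
  rw [← c_pow hc1 hcmul]
  have h5 : a ^ (Fintype.card K - 1) = 1 := by
    have := pow_card_eq_one (x := a)
    rwa [Fintype.card_units] at this
  rw [h5, hc1]

/-- **Degree `r + 1`.** -/
theorem plus_iff_plus (hρ : ρ ≠ 1) (hspan : Submodule.span F (Set.range fun g => (ρ g : Matrix (Fin n) (Fin n) F)) = ⊤)
    (hr : (Fintype.card K).Prime) (hodd : Odd (Fintype.card K)) (hK : (Fintype.card K : F) ≠ 0)
    (hn : n = Fintype.card K + 1) {m : ℕ} (hm : n = 2 * m) (h2 : (2 : F) ≠ 0) {Q : (Fin n → F) → F}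
    (hQ : IsNondegenerateQuadraticForm Q) (hfix : ∀ g v, Q ((ρ g : Matrix (Fin n) (Fin n) F) *ᵥ v) = Q v) :
    ∃ (c : AlgebraicClosure F) (d : F), c ^ (Fintype.card K - 1) = 1 ∧ c ^ 2 ≠ 1 ∧
      algebraMap F _ d = - ((-1) ^ m * (Fintype.card K : AlgebraicClosure F) * (c - c⁻¹) ^ 2) ∧
      (IsPlusTypeOn Q ⊤ ↔ IsSquare d) := by
  classical
  obtain ⟨c, hc1, hcmul, ⟨a, ha⟩, hD, -⟩ := plus_data ρ hρ hspan hr hodd hK hn
  have hca := c_pow_card hc1 hcmul a
  have hca0 : c a ≠ 0 := by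
    intro h
    rw [h, zero_pow] at hca
    · exact zero_ne_one hca
    · have := hr.two_le
      omega
  have hDne : (Dm ρ a).det ≠ 0 := by
    intro h
    have h6 := hD a
    rw [h, map_zero] at h6
    rcases mul_eq_zero.1 h6.symm with h5 | h5
    · apply hK
      apply (algebraMap F (AlgebraicClosure F)).injective
      rw [map_natCast, map_zero]
      exact neg_eq_zero.1 h5
    · apply ha
      have h7 := sub_eq_zero.1 (pow_eq_zero_iff two_ne_zero |>.1 h5)
      rw [sq]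
      nth_rewrite 2 [h7]
      exact mul_inv_cancel₀ hca0
  refine ⟨c a, (-1) ^ m * (Dm ρ a).det, hca, ha, ?_, ?_⟩
  · rw [map_mul, hD, map_pow, map_neg, map_one]
    ring
  · have haD := adj_Dm ρ hQ hfix a
    refine plus_iff hQ h2 (by rw [Fintype.card_fin]; exact hm) (fun x y => ?_) hDne
    rw [haD x y, Matrix.neg_mulVec, ← neg_one_smul F (Dm ρ a *ᵥ x), hQ.polar_bilinear.smul_left, neg_one_mul]

end Main

end Cfsg.Agent.H114.Ty
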