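import Cfsg.Agent.H114.RtMax
import Cfsg.Agent.H114.RtNon
import Cfsg.Agent.H114.TyL2
import Cfsg.Agent.H887.OmegaBridge
import Cfsg.Agent.H830.Sl2Type

/-!
# `L₂(13)` is not maximal in `Ω₁₂(7^k)` (overgroup `A₁₄`) (helper114)

* `altG_le` : `H ≤ stabR Q v` maximal in `E Q`, `P` normal in `H` containing an even permutation `≠ 1` : `altG ≤ P`;
* `not_thirteen` : `char F = 7`, `H` maximal in `omegaGL Q`, `Q` on `F^12`, `IsResidualCore H P`: not
  `P / scalars ≃ PSL₂(13)`.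
-/

set_option autoImplicit false
set_option linter.unusedSectionVars false

namespace Cfsg.Agent.H114.Rt

open Matrix Cfsg Cfsg.Geo Cfsg.Agent.H464.Sl2 Cfsg.Agent.H882.Del
open Cfsg.Agent.LieClassical.OrthCore Cfsg.Agent.LieClassical.OrthTrans Cfsg.Agent.LieClassical.OrthFinite

universe u v

section gen

variable {F : Type*} [Field F] {V : Type*} [AddCommGroup V] [Module F V]
variable {ι : Type*} [Fintype ι] [DecidableEq ι] {v : ι → V} {Q : QuadraticForm F V} {a : F}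

theorem SG_le_stabR (S : Sys F v) (hg : Gr Q v a) (h2 : (2 : F) ≠ 0) : SG F v ≤ stabR Q v := fun _ hg' =>
  mem_stabR_of (SG_le_O S hg h2 hg') (fun _ hx => SG_map_rts hg' hx) (fun _ hx => SG_map_rts (inv_mem hg') hx)

/-- The stabiliser of the roots is the maximal subgroup, and the alternating group is contained in every normal
subgroup that contains a nontrivial even permutation. -/
theorem altG_le [Finite F] (S : Sys F v) (hg : Gr Q v a) (h2 : (2 : F) ≠ 0) (hG : Good Q) (h3 : (3 : F) ≠ 0)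
    (h6 : 6 ≤ Fintype.card ι) {H P : Subgroup (V ≃ₗ[F] V)} (hH : IsMaximalIn (E Q) H) (hHR : H ≤ stabR Q v)
    (hn : ∀ h ∈ H, ∀ x ∈ P, h * x * h⁻¹ ∈ P) {σ : Equiv.Perm ι} (hσ : σ ∈ alternatingGroup ι) (hσ1 : σ ≠ 1)
    (hσP : S.perm σ ∈ P) : altG S ≤ P := by
  have hK : stabR Q v ⊓ E Q = H := by
    rcases hH.2 (stabR Q v ⊓ E Q) (le_inf hHR hH.1.le) inf_le_right with h | h
    · exact h
    · exact absurd (inf_eq_right.1 h) (not_E_le_stabR S h2 hG h3 h6)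
  have hAH : altG S ≤ H := by
    rw [← hK]
    exact le_inf ((altG_le_SG S).trans (SG_le_stabR S hg h2)) (altG_le_E S hg h2 hG (by omega))
  let f : alternatingGroup ι →* (V ≃ₗ[F] V) := S.perm.comp (alternatingGroup ι).subtype
  have hf : ∀ σ, f σ ∈ altG S := fun σ => ⟨σ, σ.2, rfl⟩
  have hN : (P.comap f).Normal := by
    constructor
    intro n hn' g
    rw [Subgroup.mem_comap, map_mul, map_mul, map_inv]
    exact hn _ (hAH (hf g)) _ hn'
  have hs : IsSimpleGroup (alternatingGroup ι) :=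
    alternatingGroup.isSimpleGroup (by rw [Nat.card_eq_fintype_card]; omega)
  rcases hs.eq_bot_or_eq_top_of_normal _ hN with h | h
  · exfalso
    have h1 : (⟨σ, hσ⟩ : alternatingGroup ι) ∈ P.comap f := hσP
    rw [h, Subgroup.mem_bot] at h1
    exact hσ1 (congrArg Subtype.val h1)
  · rintro _ ⟨σ, hσ, rfl⟩
    have h1 : (⟨σ, hσ⟩ : alternatingGroup ι) ∈ P.comap f := by rw [h]; trivial
    exact h1

end gen

section conj

variable {K : Type v} [Field K] [Fintype K] [DecidableEq K] {F : Type u} [Field F] {n : ℕ}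
  {ρ : SpecialLinearGroup (Fin 2) K →* GL (Fin n) F}

theorem eq_t_of_central {g : SpecialLinearGroup (Fin 2) K} (hg : ∀ x, g * x = x * g) {a : Kˣ} (ha : a ^ 2 ≠ 1) :
    ∃ ε : Kˣ, ε ^ 2 = 1 ∧ g = t ε := by
  obtain ⟨b, rfl⟩ := eq_t_of_comm ha (hg _)
  refine ⟨b, ?_, rfl⟩
  have h1 := hg (w 1)
  have h2 := w_conj_t b
  rw [← h1, mul_inv_cancel_right] at h2
  have h3 : (b : K) = ((b⁻¹ : Kˣ) : K) := congrFun (congrFun (congrArg Subtype.val h2) 0) 0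
  have h4 : b = b⁻¹ := Units.ext h3
  rw [sq]
  nth_rewrite 2 [h4]
  exact mul_inv_cancel b

theorem t_pow (a : Kˣ) (j : ℕ) : t (a ^ j) = t a ^ j := map_pow tHom a j

/-- An element normalising `P` maps `v₀` to a multiple of some `g v₀`. -/
theorem exists_line (h2 : (2 : K) ≠ 0) {ζ : Kˣ} (hζ : ζ ^ 3 = 1) (hζ1 : ζ ≠ 1)
    (hT : ∀ g, (ρ g : Matrix (Fin n) (Fin n) F).trace = (fix g : F) - 2)
    (hspan : Submodule.span F (Set.range fun g => (ρ g : Matrix (Fin n) (Fin n) F)) = ⊤)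
    (hN : (2 : F) * (Fintype.card Kˣ : F) ≠ 0) {iu : Kˣ} (hi : (iu : K) ^ 2 = -1)
    (hcen : ∀ ε : Kˣ, ε ^ 2 = 1 → ρ (t ε) = 1) (hker : ∀ g, ρ g = 1 → ∀ x, g * x = x * g)
    {v0 : Fin n → F} (hg0 : Good0 ρ v0) (hf : RA ρ (f0 K F) *ᵥ v0 = v0) {h : GL (Fin n) F}
    (hn : ∀ g, ∃ g', h * ρ g * h⁻¹ = ρ g') :
    ∃ (g : SpecialLinearGroup (Fin 2) K) (c : F), (h : Matrix (Fin n) (Fin n) F) *ᵥ v0 =
      c • ((ρ g : Matrix (Fin n) (Fin n) F) *ᵥ v0) := by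
  have hζ2 : ζ ^ 2 ≠ 1 := by
    intro h
    apply hζ1
    have : ζ ^ 3 = ζ ^ 2 * ζ := pow_succ ζ 2
    rw [h, hζ, one_mul] at this
    exact this.symm
  have hsum : (ζ : K) + ((ζ⁻¹ : Kˣ) : K) = -1 := by
    have h1 : (ζ : K) ^ 3 = 1 := by
      have := congrArg (fun z : Kˣ => (z : K)) hζ
      simpa using this
    have h4 : ((ζ : K) - 1) * ((ζ : K) ^ 2 + ζ + 1) = 0 := by linear_combination h1
    have h5 : (ζ : K) ^ 2 + ζ + 1 = 0 := by
      refine (mul_eq_zero.1 h4).resolve_left ?_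
      intro h
      apply hζ1
      apply Units.ext
      rw [Units.val_one]
      exact sub_eq_zero.1 h
    have h6 := ζ.ne_zero
    rw [Units.val_inv_eq_inv_val]
    field_simp
    linear_combination h5
  have hker' : ∀ g, ρ g = 1 → ∃ ε : Kˣ, ε ^ 2 = 1 ∧ g = t ε := fun g hg => eq_t_of_central (hker g hg) hζ2
  -- conjugates of `t ζ`
  obtain ⟨g1, hg1⟩ := hn (t ζ)
  have h3 : ρ (g1 ^ 3) = 1 := by
    rw [map_pow, ← hg1, conj_pow, ← map_pow, ← t_pow, hζ, t_one, map_one, mul_one, mul_inv_cancel]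
  obtain ⟨ε, hε, hg13⟩ := hker' _ h3
  have hg2 : ρ (g1 * t ε) = ρ g1 := by rw [map_mul, hcen ε hε, mul_one]
  have hg23 : (g1 * t ε) ^ 3 = 1 := by
    have hc : Commute g1 (t ε) := (t_sq_central hε g1).symm
    have e : ε ^ 3 = ε := by rw [pow_succ, hε, one_mul]
    rw [hc.mul_pow, hg13, ← t_pow, e, ← t_mul, ← sq, hε, t_one]
  have hg2ne : g1 * t ε ≠ 1 := by
    intro h1
    rw [h1, map_one] at hg2
    rw [← hg2] at hg1
    have h4 : ρ (t ζ) = 1 := by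
      have h5 : ρ (t ζ) = h⁻¹ * (h * ρ (t ζ) * h⁻¹) * h := by group
      rw [h5, hg1, mul_one, inv_mul_cancel]
    obtain ⟨δ, hδ, h6⟩ := hker' _ h4
    have h7 : (ζ : K) = δ := congrFun (congrFun (congrArg Subtype.val h6) 0) 0
    exact hζ2 (by rw [Units.ext h7, hδ])
  obtain ⟨k, hk⟩ := exists_conj_three h2 hζ hζ1 hg23 hg2ne
  -- the element `h'` commutes with `ρ (t ζ)`
  have hk' : h * ρ (t ζ) * h⁻¹ = ρ k * ρ (t ζ) * (ρ k)⁻¹ := by
    rw [hg1, ← hg2, hk, map_mul, map_mul, map_inv]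
  obtain ⟨h', hh'⟩ : ∃ h', h' = (ρ k)⁻¹ * h := ⟨_, rfl⟩
  have hcomm : h' * ρ (t ζ) = ρ (t ζ) * h' := by
    have h5 : h' * ρ (t ζ) = (ρ k)⁻¹ * (h * ρ (t ζ) * h⁻¹) * h := by rw [hh']; group
    rw [h5, hk', hh']
    group
  have hn' : ∀ g, ∃ g', h' * ρ g * h'⁻¹ = ρ g' := by
    intro g
    obtain ⟨g', hg'⟩ := hn g
    refine ⟨k⁻¹ * g' * k, ?_⟩
    rw [map_mul, map_mul, map_inv, ← hg', hh']
    group
  have htr : ∀ (δ a : Kˣ), δ ^ 2 = 1 → (t δ * t a).1 0 0 + (t δ * t a).1 1 1 = (δ : K) * ((a : K) + ((a⁻¹ : Kˣ) : K)) := by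
    intro δ a hδ
    rw [← t_mul]
    have h5 : δ⁻¹ = δ := by rw [inv_eq_iff_mul_eq_one, ← sq, hδ]
    change ((δ * a : Kˣ) : K) + (((δ * a)⁻¹ : Kˣ) : K) = _
    rw [mul_inv, h5, Units.val_mul, Units.val_mul]
    ring
  have htz : ∀ a : Kˣ, (t a).1 0 0 + (t a).1 1 1 = (a : K) + ((a⁻¹ : Kˣ) : K) := fun a => rfl
  have hone : ∀ δ : Kˣ, (-1 : K) = (δ : K) * (-1) → δ = 1 := by
    intro δ h5
    apply Units.ext
    rw [Units.val_one]
    linear_combination h5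
  have hta : ∀ a : Kˣ, ∃ b : Kˣ, h' * ρ (t a) * h'⁻¹ = ρ (t b) := by
    intro a
    obtain ⟨g, hg⟩ := hn' (t a)
    have h4 : ρ (g * t ζ * g⁻¹ * (t ζ)⁻¹) = 1 := by
      rw [map_mul, map_mul, map_mul, map_inv, map_inv, ← hg]
      have h5 : ρ (t a) * ρ (t ζ) = ρ (t ζ) * ρ (t a) := by rw [← map_mul, ← map_mul, ← t_mul, ← t_mul, mul_comm]
      have h6 : h'⁻¹ * ρ (t ζ) = ρ (t ζ) * h'⁻¹ := by
        rw [inv_mul_eq_iff_eq_mul, ← mul_assoc, hcomm, mul_inv_cancel_right]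
      calc h' * ρ (t a) * h'⁻¹ * ρ (t ζ) * (h' * ρ (t a) * h'⁻¹)⁻¹ * (ρ (t ζ))⁻¹
          = h' * (ρ (t a) * (h'⁻¹ * ρ (t ζ))) * (h' * ρ (t a) * h'⁻¹)⁻¹ * (ρ (t ζ))⁻¹ := by group
        _ = (h' * ρ (t ζ)) * ρ (t a) * h'⁻¹ * (h' * ρ (t a) * h'⁻¹)⁻¹ * (ρ (t ζ))⁻¹ := by
            rw [h6, ← mul_assoc (ρ (t a)), h5]; group
        _ = 1 := by rw [hcomm]; group
    obtain ⟨δ, hδ, h5⟩ := hker' _ h4
    have h6 : g * t ζ * g⁻¹ = t δ * t ζ := by rw [← h5]; group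
    have h7 := tr_conj g (t ζ)
    rw [h6, htr δ ζ hδ, htz, hsum] at h7
    have h8 := hone δ h7.symm
    rw [h8, t_one, one_mul] at h6
    obtain ⟨b, hb⟩ := eq_t_of_comm hζ2 (mul_inv_eq_iff_eq_mul.1 h6)
    exact ⟨b, by rw [hg, hb]⟩
  have hwc : ∀ c : Kˣ, ∃ d : Kˣ, h' * ρ (w c) * h'⁻¹ = ρ (w d) := by
    intro c
    obtain ⟨g, hg⟩ := hn' (w c)
    have hwt : w c * t ζ = t ζ⁻¹ * w c := by
      have h5 := w_conj_t ζ
      rw [mul_inv_eq_iff_eq_mul] at h5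
      rw [← w_one_mul_t c, mul_assoc, ← t_mul, mul_comm c ζ, t_mul, ← mul_assoc, h5, mul_assoc]
    have h4 : ρ (g * t ζ * g⁻¹ * (t ζ⁻¹)⁻¹) = 1 := by
      rw [map_mul, map_mul, map_mul, map_inv, map_inv, ← hg]
      have h5 : ρ (w c) * ρ (t ζ) = ρ (t ζ⁻¹) * ρ (w c) := by rw [← map_mul, ← map_mul, hwt]
      have h6 : h'⁻¹ * ρ (t ζ) = ρ (t ζ) * h'⁻¹ := by
        rw [inv_mul_eq_iff_eq_mul, ← mul_assoc, hcomm, mul_inv_cancel_right]
      have h7 : t ζ⁻¹ = (t ζ)⁻¹ := map_inv tHom ζ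
      have h8 : h' * ρ (t ζ⁻¹) = ρ (t ζ⁻¹) * h' := by
        rw [h7, map_inv, mul_inv_eq_iff_eq_mul, mul_assoc, hcomm, inv_mul_cancel_left]
      calc h' * ρ (w c) * h'⁻¹ * ρ (t ζ) * (h' * ρ (w c) * h'⁻¹)⁻¹ * (ρ (t ζ⁻¹))⁻¹
          = h' * (ρ (w c) * (h'⁻¹ * ρ (t ζ))) * (h' * ρ (w c) * h'⁻¹)⁻¹ * (ρ (t ζ⁻¹))⁻¹ := by group
        _ = (h' * ρ (t ζ⁻¹)) * ρ (w c) * h'⁻¹ * (h' * ρ (w c) * h'⁻¹)⁻¹ * (ρ (t ζ⁻¹))⁻¹ := by
            rw [h6, ← mul_assoc (ρ (w c)), h5]; group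
        _ = 1 := by rw [h8]; group
    obtain ⟨δ, hδ, h5⟩ := hker' _ h4
    have h6 : g * t ζ * g⁻¹ = t δ * t ζ⁻¹ := by rw [← h5]; group
    have h7 := tr_conj g (t ζ)
    rw [h6, htr δ ζ⁻¹ hδ, htz, inv_inv, add_comm, hsum] at h7
    have h8 := hone δ h7.symm
    rw [h8, t_one, one_mul] at h6
    obtain ⟨b, hb⟩ := eq_w_of_inv hζ2 (mul_inv_eq_iff_eq_mul.1 h6)
    exact ⟨b, by rw [hg, hb]⟩
  -- the vector `h'⁻¹ v₀`
  have hmv : ∀ (a b : GL (Fin n) F) (y : Fin n → F), ((a * b : GL (Fin n) F) : Matrix (Fin n) (Fin n) F) *ᵥ y =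
      (a : Matrix (Fin n) (Fin n) F) *ᵥ ((b : Matrix (Fin n) (Fin n) F) *ᵥ y) := by
    intro a b y
    rw [Units.val_mul, Matrix.mulVec_mulVec]
  obtain ⟨c, hc⟩ := unique_v0 ρ hT hspan hN hi hg0.ne hf
    (v := ((h'⁻¹ : GL (Fin n) F) : Matrix (Fin n) (Fin n) F) *ᵥ v0) (by
      intro a
      obtain ⟨b, hb⟩ := hta a
      have e : ρ (t a) * h'⁻¹ = h'⁻¹ * ρ (t b) := by rw [← hb]; group
      rw [← hmv, e, hmv, hg0.ft]) (by
      intro c
      obtain ⟨d, hd⟩ := hwc c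
      have e : ρ (w c) * h'⁻¹ = h'⁻¹ * ρ (w d) := by rw [← hd]; group
      rw [← hmv, e, hmv, hg0.fw, Matrix.mulVec_neg])
  refine ⟨k, c⁻¹, ?_⟩
  have e1 : (h' : Matrix (Fin n) (Fin n) F) *ᵥ (((h'⁻¹ : GL (Fin n) F) : Matrix (Fin n) (Fin n) F) *ᵥ v0) = v0 := by
    rw [← hmv, mul_inv_cancel, Units.val_one, Matrix.one_mulVec]
  rw [hc, Matrix.mulVec_smul] at e1
  have hc0 : c ≠ 0 := by
    rintro rfl
    rw [zero_smul] at e1
    exact hg0.ne e1.symm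
  have e2 : (h' : Matrix (Fin n) (Fin n) F) *ᵥ v0 = c⁻¹ • v0 := by
    rw [← e1, smul_smul, inv_mul_cancel₀ hc0, one_smul]
    exact congrArg _ e1
  have e3 : h = ρ k * h' := by rw [hh']; group
  rw [e3, hmv, e2, Matrix.mulVec_smul]

/-- **The kill.** -/
theorem kill [Finite F] (h2 : (2 : K) ≠ 0) (hodd : Odd (Fintype.card K)) {ζ : Kˣ} (hζ : ζ ^ 3 = 1) (hζ1 : ζ ≠ 1)
    (hT : ∀ g, (ρ g : Matrix (Fin n) (Fin n) F).trace = (fix g : F) - 2)
    (hspan : Submodule.span F (Set.range fun g => (ρ g : Matrix (Fin n) (Fin n) F)) = ⊤)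
    (hE0 : ∑ x : K, (ρ (u x) : Matrix (Fin n) (Fin n) F) = 0)
    (hN : (2 : F) * (Fintype.card Kˣ : F) ≠ 0) {iu : Kˣ} (hi : (iu : K) ^ 2 = -1)
    (hcen : ∀ ε : Kˣ, ε ^ 2 = 1 → ρ (t ε) = 1) (hker : ∀ g, ρ g = 1 → ∀ x, g * x = x * g)
    (hn : Fintype.card K = n + 1) (h3F : (3 : F) ≠ 0) (h6 : 6 ≤ Fintype.card K)
    (hcard : 2 * Fintype.card K ^ 4 < (Fintype.card K).factorial)
    {Q : QuadraticForm F (Fin n → F)} (hQ : Nondeg Q) {H : Subgroup (GL (Fin n) F)}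
    (hH : IsMaximalIn (omegaGL (Q : (Fin n → F) → F)) H) (hPH : ρ.range ≤ H)
    (hHP : ∀ h ∈ H, ∀ x ∈ ρ.range, h * x * h⁻¹ ∈ ρ.range) : False := by
  have h2F : (2 : F) ≠ 0 := left_ne_zero_of_mul hN
  have hG : Good Q := Cfsg.Agent.H883.Bridge.good_of_card hQ (by rw [Fintype.card_fin]; omega)
  let E0 := glEquiv (Fin n) F
  have hap : ∀ (g : GL (Fin n) F) (v : Fin n → F), E0 g v = (g : Matrix (Fin n) (Fin n) F) *ᵥ v :=
    fun g v => glEquiv_apply g v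
  have hH' : IsMaximalIn (E Q) (H.map E0.toMonoidHom) := by
    have h := (Cfsg.Agent.H883.Bridge.isMaximalIn_map_iff E0 (omegaGL (Q : (Fin n → F) → F)) H).2 hH
    rwa [Cfsg.Agent.H883.Bridge.map_omegaGL_eq_E hG] at h
  have hHO : ∀ h ∈ H, E0 h ∈ O Q := fun h hh => E_le_O (hH'.1.le ⟨h, hh, rfl⟩)
  have hfixH : ∀ h ∈ H, ∀ v, Q ((h : Matrix (Fin n) (Fin n) F) *ᵥ v) = Q v := by
    intro h hh v
    rw [← hap]
    exact hHO h hh v
  have hfix : ∀ g v, Q ((ρ g : Matrix (Fin n) (Fin n) F) *ᵥ v) = Q v := fun g v => hfixH _ (hPH ⟨g, rfl⟩) v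
  obtain ⟨v0, hv0, hf, ht, hw, hwu⟩ := exists_v0 ρ hT hspan hN hi
  have hg0 : Good0 ρ v0 := ⟨hv0, ht, hw, hwu⟩
  have S : Sys F (vv ρ v0) := hg0.sys hn (by omega) hspan hE0
  have hg : Gr Q (vv ρ v0) (Q v0) := hg0.gr hfix h2F hi
  have ha : Q v0 ≠ 0 := a_ne S hg hG.nondeg
  -- `H` preserves the roots
  have hroots : ∀ h ∈ H, ∀ x ∈ rts F (vv ρ v0), (h : Matrix (Fin n) (Fin n) F) *ᵥ x ∈ rts F (vv ρ v0) := by
    intro h hh x hx
    obtain ⟨g, rfl⟩ := hg0.of_mem_rts hx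
    obtain ⟨k, c, hc⟩ := exists_line h2 hζ hζ1 hT hspan hN hi hcen hker hg0 hf (h := h) (by
      intro g
      obtain ⟨g', hg'⟩ := hHP h hh (ρ g) ⟨g, rfl⟩
      exact ⟨g', hg'.symm⟩)
    have hcc : c = 1 ∨ c = -1 := by
      have h5 := hfixH h hh v0
      rw [hc, QuadraticMap.map_smul, hfix, smul_eq_mul] at h5
      have h6 : (c * c - 1) * Q v0 = 0 := by linear_combination h5
      exact mul_self_eq_one_iff.1 (sub_eq_zero.1 ((mul_eq_zero.1 h6).resolve_right ha))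
    obtain ⟨g', hg'⟩ := hHP h hh (ρ g) ⟨g, rfl⟩
    have e1 : h * ρ g = ρ g' * h := by rw [hg']; group
    have e2 : (h : Matrix (Fin n) (Fin n) F) *ᵥ ((ρ g : Matrix (Fin n) (Fin n) F) *ᵥ v0) =
        c • ((ρ (g' * k) : Matrix (Fin n) (Fin n) F) *ᵥ v0) := by
      rw [Matrix.mulVec_mulVec, ← Units.val_mul, e1, Units.val_mul, ← Matrix.mulVec_mulVec, hc, Matrix.mulVec_smul,
        mul_vec]
    rw [e2]
    exact rts_smul (hg0.mem_rts _) hcc
  have hHR : H.map E0.toMonoidHom ≤ stabR Q (vv ρ v0) := by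
    rintro _ ⟨h, hh, rfl⟩
    refine mem_stabR_of (hHO h hh) (fun x hx => ?_) (fun x hx => ?_)
    · change E0 h x ∈ _
      rw [hap]
      exact hroots h hh x hx
    · change (E0 h)⁻¹ x ∈ _
      rw [← map_inv, hap]
      exact hroots _ (inv_mem hh) x hx
  -- the translation
  let σ : Equiv.Perm K := Equiv.addLeft (1 : K)
  have hσpow : ∀ j : ℕ, ∀ x : K, (σ ^ j) x = (j : K) + x := by
    intro j
    induction j with
    | zero => intro x; simp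
    | succ j ih =>
      intro x
      rw [pow_succ, Equiv.Perm.mul_apply, ih]
      change (j : K) + (1 + x) = _
      push_cast
      ring
  have hσ : σ ∈ alternatingGroup K := by
    rw [Equiv.Perm.mem_alternatingGroup]
    have h5 : σ ^ Fintype.card K = 1 := by
      ext x
      rw [hσpow]
      have : (Fintype.card K : K) = 0 := Nat.cast_card_eq_zero K
      rw [this, zero_add]
      rfl
    have h7 := congrArg Equiv.Perm.sign h5
    rw [map_pow, map_one] at h7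
    rcases Int.units_eq_one_or (Equiv.Perm.sign σ) with h8 | h8
    · exact h8
    · rw [h8, hodd.neg_one_pow] at h7
      exact absurd h7 (by decide)
  have hσ1 : σ ≠ 1 := by
    intro h
    have h5 := Equiv.congr_fun h (0 : K)
    change (1 : K) + 0 = 0 at h5
    rw [add_zero] at h5
    exact one_ne_zero h5
  have hσP : S.perm σ ∈ ρ.range.map E0.toMonoidHom := by
    refine ⟨ρ (u 1), ⟨_, rfl⟩, ?_⟩
    refine S.ext' fun i => ?_
    rw [S.perm_apply]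
    change E0 (ρ (u 1)) _ = _
    rw [hap, u_vv]
    rfl
  have hle := altG_le S hg h2F hG h3F h6 hH' hHR (P := ρ.range.map E0.toMonoidHom) (by
    rintro _ ⟨h, hh, rfl⟩ _ ⟨x, hx, rfl⟩
    refine ⟨h * x * h⁻¹, hHP h hh x hx, ?_⟩
    simp) hσ hσ1 hσP
  -- orders
  have : Finite (ρ.range.map E0.toMonoidHom) := Finite.of_equiv _ (E0.subgroupMap ρ.range).toEquiv
  have hc1 : Nat.card (altG S) ≤ Nat.card (ρ.range.map E0.toMonoidHom) :=
    Nat.card_le_card_of_injective (Subgroup.inclusion hle) (Subgroup.inclusion_injective hle)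
  have hc2 : Nat.card (ρ.range.map E0.toMonoidHom) ≤ Fintype.card K ^ 4 := by
    have h5 : Nat.card (ρ.range.map E0.toMonoidHom) = Nat.card ρ.range :=
      (Nat.card_congr (E0.subgroupMap ρ.range).toEquiv).symm
    rw [h5]
    have h7 : Nat.card ρ.range ≤ Nat.card (SpecialLinearGroup (Fin 2) K) :=
      Nat.card_le_card_of_surjective ρ.rangeRestrict ρ.rangeRestrict_surjective
    refine h7.trans ?_
    have h8 : Nat.card (SpecialLinearGroup (Fin 2) K) ≤ Nat.card (Matrix (Fin 2) (Fin 2) K) :=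
      Nat.card_le_card_of_injective (fun g => (g.1 : Matrix (Fin 2) (Fin 2) K)) Subtype.val_injective
    refine h8.trans ?_
    change Nat.card (Fin 2 → Fin 2 → K) ≤ _
    rw [Nat.card_fun, Nat.card_fun, Nat.card_eq_fintype_card, Nat.card_eq_fintype_card, Fintype.card_fin, ← pow_mul]
  have hc3 : Nat.card (altG S) * 2 = (Fintype.card K).factorial := by
    let e1 : alternatingGroup K ≃* altG S := (alternatingGroup K).equivMapOfInjective S.perm (S.perm_injective (by omega))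
    rw [← Nat.card_congr e1.toEquiv]
    have : Nontrivial K := inferInstance
    rw [mul_comm, Nat.card_eq_fintype_card, two_mul_card_alternatingGroup, Fintype.card_perm]
  omega

end conj

end Cfsg.Agent.H114.Rt
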