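import Cfsg.Agent.H114.AltTwo
import Cfsg.Agent.H114.RtKill
import Cfsg.Agent.S2119

/-!
# Normalisers of alternating groups in natural representations (helper114)

* `exists_perm` : `h` normalises `P ≃ A_m` (`m ≠ 6`) ⟹ `h` acts on `P` like a permutation `σ`;
* `lines` : `n = m - 1`: `h v_i = c v_{σ i}`;
* `not_maximal_of_dvd` : `n = m - 1`, `p ∣ m + 1`, `p ≠ 2, 3`: `H` is not maximal in `omegaGL Q`.
-/

set_option autoImplicit false
set_option linter.unusedSectionVars false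

namespace Cfsg.Agent.H114.AltNat

open Module Equiv Equiv.Perm Cfsg.Agent.H882.Del Cfsg.Geo Matrix
open Cfsg.Agent.LieClassical.OrthCore Cfsg.Agent.LieClassical.OrthTrans Cfsg.Agent.LieClassical.OrthFinite

variable {F : Type*} [Field F] {ι : Type} [Fintype ι] [DecidableEq ι] {m : ℕ} {P : Subgroup (GL ι F)}

/-- the homomorphism to `GL` -/
def th (e : alternatingGroup (Fin m) ≃* P) : alternatingGroup (Fin m) →* GL ι F := P.subtype.comp e.toMonoidHom

theorem th_apply (e : alternatingGroup (Fin m) ≃* P) (g : alternatingGroup (Fin m)) : th e g = (e g : GL ι F) := rfl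

/-- An element normalising `P ≃ A_m` acts like a permutation. -/
theorem exists_perm (hm : 4 ≤ m) (h6 : m ≠ 6) (e : alternatingGroup (Fin m) ≃* P) {h : GL ι F}
    (hn : ∀ x ∈ P, h * x * h⁻¹ ∈ P) :
    ∃ σ : Perm (Fin m), ∀ x y : alternatingGroup (Fin m), (y : Perm (Fin m)) = σ * x * σ⁻¹ →
      h * th e x * h⁻¹ = th e y := by
  let φ : alternatingGroup (Fin m) →* alternatingGroup (Fin m) :=
    { toFun := fun x => e.symm ⟨h * (e x : GL ι F) * h⁻¹, hn _ (e x).2⟩
      map_one' := by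
        rw [← map_one e.symm]
        congr 1
        apply Subtype.ext
        simp
      map_mul' := fun x y => by
        rw [← map_mul e.symm]
        congr 1
        apply Subtype.ext
        simp }
  have hφ : ∀ x, h * th e x * h⁻¹ = th e (φ x) := by
    intro x
    change _ = ((e (e.symm ⟨h * (e x : GL ι F) * h⁻¹, hn _ (e x).2⟩) : P) : GL ι F)
    rw [e.apply_symm_apply]
    rfl
  have hinj : Function.Injective φ := by
    intro x y hxy
    have h1 : h * th e x * h⁻¹ = h * th e y * h⁻¹ := by rw [hφ, hφ, hxy]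
    have h2 : th e x = th e y := by
      have := mul_right_cancel h1
      exact mul_left_cancel this
    exact e.injective (Subtype.ext h2)
  let E : MulAut (alternatingGroup (Fin m)) := MulEquiv.ofBijective φ (Finite.injective_iff_bijective.1 hinj)
  obtain ⟨σ, hσ⟩ := (Cfsg.Agent.S2119.result m hm h6).2 E
  refine ⟨σ, fun x y hy => ?_⟩
  rw [hφ]
  congr 1
  have h1 : E x = MulAut.conjNormal σ x := by rw [hσ]
  have h2 : φ x = MulAut.conjNormal σ x := h1
  rw [h2]
  apply Subtype.ext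
  rw [MulAut.conjNormal_apply, hy]

theorem scalar_of_comm (e : alternatingGroup (Fin m) ≃* P)
    (hspan : Submodule.span F (Set.range fun g => (th e g : Matrix ι ι F)) = ⊤)
    {D : Matrix ι ι F} (hD : ∀ g, D * (th e g : Matrix ι ι F) = (th e g : Matrix ι ι F) * D) : ∃ c : F, D = c • 1 := by
  have h1 : ∀ A : Matrix ι ι F, D * A = A * D := by
    intro A
    have hA : A ∈ Submodule.span F (Set.range fun g => (th e g : Matrix ι ι F)) := by rw [hspan]; trivial
    induction hA using Submodule.span_induction with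
    | mem x hx =>
      obtain ⟨g, rfl⟩ := hx
      exact hD g
    | zero => rw [mul_zero, zero_mul]
    | add x y _ _ hx hy => rw [mul_add, add_mul, hx, hy]
    | smul c x _ hx => rw [mul_smul_comm, smul_mul_assoc, hx]
  obtain ⟨c, hc⟩ := Matrix.mem_range_scalar_of_commute_single (M := D) (fun i j _ => (h1 (Matrix.single i j 1)).symm)
  refine ⟨c, ?_⟩
  rw [← hc, Matrix.scalar_apply, ← Matrix.smul_one_eq_diagonal]

variable {f : Fin m → Fin m → ι → F}

/-- **The lines.** -/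
theorem lines (hm : 4 ≤ m) (h6 : m ≠ 6) (e : alternatingGroup (Fin m) ≃* P)
    (hspan : Submodule.span F (Set.range fun g => (th e g : Matrix ι ι F)) = ⊤)
    (hN : NatM (rep (th e)) f) (S : Sys F (NatM.vA f)) {h : GL ι F} (hn : ∀ x ∈ P, h * x * h⁻¹ ∈ P) :
    ∃ (σ : Perm (Fin m)) (c : F), ∀ i, (h : Matrix ι ι F) *ᵥ (NatM.vA f i) = c • NatM.vA f (σ i) := by
  obtain ⟨σ, hσ⟩ := exists_perm hm h6 e hn
  let M : (ι → F) ≃ₗ[F] (ι → F) := S.perm σ
  let D : (ι → F) →ₗ[F] (ι → F) := (M.symm : (ι → F) →ₗ[F] (ι → F)) ∘ₗ Matrix.toLin' (h : Matrix ι ι F)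
  have hMi : ∀ i, M.symm (NatM.vA f i) = NatM.vA f (σ⁻¹ i) := by
    intro i
    rw [LinearEquiv.symm_apply_eq]
    change _ = S.perm σ _
    rw [S.perm_apply]
    exact congrArg _ (σ.apply_symm_apply i).symm
  have hact : ∀ (x : alternatingGroup (Fin m)) i, (th e x : Matrix ι ι F) *ᵥ NatM.vA f i =
      NatM.vA f ((x : Perm (Fin m)) i) := fun x i => hN.rho_vA x i
  -- `M⁻¹ θ (σ x σ⁻¹) = θ x M⁻¹`
  have hMx : ∀ (x y : alternatingGroup (Fin m)), (y : Perm (Fin m)) = σ * x * σ⁻¹ → ∀ v,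
      M.symm ((th e y : Matrix ι ι F) *ᵥ v) = (th e x : Matrix ι ι F) *ᵥ (M.symm v) := by
    intro x y hy
    have h1 : (M.symm : (ι → F) →ₗ[F] (ι → F)) ∘ₗ Matrix.toLin' (th e y : Matrix ι ι F) =
        Matrix.toLin' (th e x : Matrix ι ι F) ∘ₗ (M.symm : (ι → F) →ₗ[F] (ι → F)) := by
      refine S.ext fun i => ?_
      change M.symm ((th e y : Matrix ι ι F) *ᵥ NatM.vA f i) = (th e x : Matrix ι ι F) *ᵥ (M.symm (NatM.vA f i))
      rw [hact, hMi, hMi, hact, hy]
      congr 1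
      change σ⁻¹ (σ ((x : Perm (Fin m)) (σ⁻¹ i))) = _
      exact σ.symm_apply_apply _
    exact fun v => LinearMap.congr_fun h1 v
  obtain ⟨c, hc⟩ := scalar_of_comm e hspan (D := LinearMap.toMatrix' D) (by
    intro x
    have hy : σ * x * σ⁻¹ ∈ alternatingGroup (Fin m) := by
      have := x.2
      rw [mem_alternatingGroup] at this ⊢
      rw [map_mul, map_mul, this, map_inv, mul_one, mul_inv_cancel]
    have h1 := hσ x ⟨_, hy⟩ rfl
    have h2 : h * th e x = th e ⟨_, hy⟩ * h := by rw [← h1]; group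
    apply Matrix.toLin'.injective
    rw [Matrix.toLin'_mul, Matrix.toLin'_mul, Matrix.toLin'_toMatrix']
    refine LinearMap.ext fun v => ?_
    change M.symm ((h : Matrix ι ι F) *ᵥ ((th e x : Matrix ι ι F) *ᵥ v)) =
      (th e x : Matrix ι ι F) *ᵥ (M.symm ((h : Matrix ι ι F) *ᵥ v))
    rw [← hMx x ⟨_, hy⟩ rfl, Matrix.mulVec_mulVec, Matrix.mulVec_mulVec, ← Units.val_mul, ← Units.val_mul, h2])
  refine ⟨σ, c, fun i => ?_⟩
  have h1 : D (NatM.vA f i) = c • NatM.vA f i := by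
    have h2 : D = Matrix.toLin' (c • (1 : Matrix ι ι F)) := by rw [← hc, Matrix.toLin'_toMatrix']
    rw [h2, Matrix.toLin'_apply, Matrix.smul_mulVec, Matrix.one_mulVec]
  have h2 : M (D (NatM.vA f i)) = (h : Matrix ι ι F) *ᵥ (NatM.vA f i) := M.apply_symm_apply _
  rw [← h2, h1, map_smul]
  change c • S.perm σ _ = _
  rw [S.perm_apply]

/-- **The kill**, `n = m - 1`, `p ∣ m + 1`, `p ≠ 2, 3`. -/
theorem not_maximal_of_dvd [Finite F] (h2 : (2 : F) ≠ 0) (h3 : (3 : F) ≠ 0) (hm : 6 < m)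
    (e : alternatingGroup (Fin m) ≃* P) (hspan : Submodule.span F (Set.range fun g => (th e g : Matrix ι ι F)) = ⊤)
    (hN : NatM (rep (th e)) f) (hn : Fintype.card ι + 1 = m) (hm0 : (m : F) ≠ 0) (hm1 : (m : F) + 1 = 0)
    {Q : (ι → F) → F} (hQ : IsNondegenerateQuadraticForm Q) {H : Subgroup (GL ι F)} (hH : IsMaximalIn (omegaGL Q) H)
    (hPH : P ≤ H) (hHP : ∀ h ∈ H, ∀ x ∈ P, h * x * h⁻¹ ∈ P) : False := by
  have hfin : finrank F (ι → F) = Fintype.card ι := finrank_fintype_fun_eq_card F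
  have S : Sys F (NatM.vA f) := hN.sysA (by rw [hfin, hn, Fintype.card_fin]) (by rw [Fintype.card_fin]; exact hm0)
    (by rw [hfin]; omega)
  have hG : Good (Cfsg.Agent.H887.OmegaBridge.qf Q hQ) :=
    Cfsg.Agent.H883.Bridge.good_of_card (Cfsg.Agent.H887.OmegaBridge.nondeg_qf Q hQ) (by omega)
  let E0 := glEquiv ι F
  have hap : ∀ (g : GL ι F) (v : ι → F), E0 g v = (g : Matrix ι ι F) *ᵥ v := fun g v => glEquiv_apply g v
  have hH' : IsMaximalIn (E (Cfsg.Agent.H887.OmegaBridge.qf Q hQ)) (H.map E0.toMonoidHom) := by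
    have h := (Cfsg.Agent.H883.Bridge.isMaximalIn_map_iff E0
      (omegaGL (Cfsg.Agent.H887.OmegaBridge.qf Q hQ : (ι → F) → F)) H).2 hH
    rwa [Cfsg.Agent.H883.Bridge.map_omegaGL_eq_E hG] at h
  have hHO : ∀ h ∈ H, E0 h ∈ O (Cfsg.Agent.H887.OmegaBridge.qf Q hQ) := fun h hh => E_le_O (hH'.1.le ⟨h, hh, rfl⟩)
  have hfix : ∀ g v, Q ((th e g : Matrix ι ι F) *ᵥ v) = Q v := by
    intro g v
    rw [← hap]
    exact hHO _ (hPH (e g).2) v
  obtain ⟨a, ha⟩ := hN.grA (by rw [Fintype.card_fin]; omega) (B := QuadraticMap.polar Q) (polar_fix' hfix)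
  have hgr : Gr (Cfsg.Agent.H887.OmegaBridge.qf Q hQ) (NatM.vA f) a := ha
  have ha0 : a ≠ 0 := a_ne S hgr hG.nondeg
  refine not_maximal S hgr h2 hG h3 (by rw [Fintype.card_fin]; omega) (by rw [Fintype.card_fin]; exact hm1) hH' ?_
  rintro _ ⟨h, hh, rfl⟩
  refine mem_SG_of_lines S hgr ha0 (by rw [Fintype.card_fin]; omega) (hHO h hh) fun i => ?_
  obtain ⟨σ, c, hc⟩ := lines (by omega) (by omega) e hspan hN S (hHP h hh)
  refine ⟨σ i, c, ?_⟩
  change E0 h _ = _
  rw [hap, hc]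

end Cfsg.Agent.H114.AltNat
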