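import Cfsg.Agent.H926.MinusA
import Cfsg.Agent.H925.OrthType

/-!
# The type of a quadratic form in characteristic two from an isometry of odd prime order (helper114)

* `sum_psi` : plus type, `n = 2 m` ⟹ `∑ ψ (Q v) = |F| ^ m` (`ψ` a nontrivial additive character with values in a field of
  odd characteristic);
* `sum_eq_fixed` : an isometry `g` with `g ^ r = 1`: the sum is congruent mod `r` to the sum over the fixed vectors;
* `pow_eq_one_of_free` : plus type, no fixed vectors ⟹ `|F| ^ m = 1` mod `r`;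
* `ne_aniso` : plus type, the fixed space an anisotropic plane ⟹ `|F| ^ m = - |F|` mod `r`.
-/

set_option autoImplicit false
set_option linter.unusedSectionVars false

namespace Cfsg.Agent.H114.Ty

open Cfsg.Geo Matrix Module

section Sum

variable {ι : Type} [Fintype ι] [DecidableEq ι] {F : Type*} [Field F] [Fintype F]
  {R : Type*} [Field R] (ψ : AddChar F R)

theorem sum_linear (hψ : ψ ≠ 1) {U : Submodule F (ι → F)} (f : U →ₗ[F] F) (hf : f ≠ 0) [Fintype U] :
    ∑ u : U, ψ (f u) = 0 := by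
  classical
  have h1 : ψ.compAddMonoidHom f.toAddMonoidHom ≠ 1 := by
    intro h
    apply hψ
    obtain ⟨u, hu⟩ : ∃ u, f u ≠ 0 := by
      by_contra hcon
      push Not at hcon
      exact hf (LinearMap.ext hcon)
    ext x
    have h2 := DFunLike.congr_fun h ((x / f u) • u)
    rw [AddChar.compAddMonoidHom_apply] at h2
    have h3 : f.toAddMonoidHom ((x / f u) • u) = x := by
      change f ((x / f u) • u) = x
      rw [map_smul, smul_eq_mul, div_mul_cancel₀ _ hu]
    rw [h3] at h2
    rw [h2, AddChar.one_apply, AddChar.one_apply]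
  exact AddChar.sum_eq_zero_of_ne_one h1

theorem sum_psi (hψ : ψ ≠ 1) (hR : (Fintype.card F : R) ≠ 0) {Q : (ι → F) → F} (hQ : IsNondegenerateQuadraticForm Q)
    (hplus : IsPlusTypeOn Q ⊤) {m : ℕ} (hm : Fintype.card ι = 2 * m) :
    ∑ v : ι → F, ψ (Q v) = (Fintype.card F : R) ^ m := by
  classical
  obtain ⟨U, hU, hUd⟩ := H925.exists_half hplus
  have hUm : finrank F U = m := by omega
  have hcardU : Fintype.card U = Fintype.card F ^ m := by
    rw [Module.card_eq_pow_finrank (K := F), hUm]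
  have hUR : (Fintype.card U : R) ≠ 0 := by
    rw [hcardU, Nat.cast_pow]
    exact pow_ne_zero _ hR
  -- the polar form is zero on U
  have hB := hQ.polar_bilinear
  have hUU : ∀ u ∈ U, ∀ w ∈ U, QuadraticMap.polar Q u w = 0 := by
    intro u hu w hw
    unfold QuadraticMap.polar
    rw [hU _ (U.add_mem hu hw), hU _ hu, hU _ hw, sub_zero, sub_zero]
  have hperp : ∀ v, (∀ u ∈ U, QuadraticMap.polar Q v u = 0) → v ∈ U := by
    have hnd : (Cfsg.Agent.H922.toBilin hB).Nondegenerate := Cfsg.Agent.H922.toBilin_nondegenerate hB hQ.nondegenerate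
    have h1 := LinearMap.BilinForm.finrank_orthogonal hnd U
    have hle : U ≤ (Cfsg.Agent.H922.toBilin hB).orthogonal U := by
      intro w hw
      rw [LinearMap.BilinForm.mem_orthogonal_iff]
      intro u hu
      exact hUU u hu w hw
    have h2 : finrank F (ι → F) = 2 * m := by rw [finrank_fintype_fun_eq_card, hm]
    have heq : U = (Cfsg.Agent.H922.toBilin hB).orthogonal U := by
      apply Submodule.eq_of_le_of_finrank_le hle
      rw [h1, h2, hUm]
      omega
    intro v hv
    rw [heq, LinearMap.BilinForm.mem_orthogonal_iff]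
    intro u hu
    change QuadraticMap.polar Q u v = 0
    rw [QuadraticMap.polar_comm]
    exact hv u hu
  have h1 : ∀ v : ι → F, ∑ u : U, ψ (Q (v + u)) = if v ∈ U then (Fintype.card U : R) else 0 := by
    intro v
    have h2 : ∀ u : U, ψ (Q (v + u)) = ψ (Q v) * ψ (QuadraticMap.polar Q v u) := by
      intro u
      rw [← AddChar.map_add_eq_mul]
      congr 1
      unfold QuadraticMap.polar
      rw [hU _ u.2]
      ring
    rw [Finset.sum_congr rfl fun u _ => h2 u, ← Finset.mul_sum]
    let f : U →ₗ[F] F := (Cfsg.Agent.H922.toBilin hB v).comp U.subtype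
    have h3 : ∀ u : U, f u = QuadraticMap.polar Q v u := fun u => rfl
    split_ifs with h
    · have h4 : ∀ u : U, ψ (QuadraticMap.polar Q v u) = 1 := by
        intro u
        rw [hUU v h u u.2, AddChar.map_zero_eq_one]
      rw [Finset.sum_congr rfl fun u _ => h4 u, hU v h, AddChar.map_zero_eq_one, one_mul, Finset.sum_const,
        Finset.card_univ, nsmul_eq_mul, mul_one]
    · have h4 : f ≠ 0 := by
        intro h5
        apply h
        apply hperp
        intro u hu
        have := DFunLike.congr_fun h5 ⟨u, hu⟩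
        exact this
      have h5 := sum_linear ψ hψ f h4
      rw [Finset.sum_congr rfl (g := fun u => ψ (f u)) fun u _ => by rw [h3], h5, mul_zero]
  have h2 : ∑ v : ι → F, ∑ u : U, ψ (Q (v + u)) = (Fintype.card U : R) * ∑ v : ι → F, ψ (Q v) := by
    rw [Finset.sum_comm]
    have h3 : ∀ u : U, ∑ v : ι → F, ψ (Q (v + u)) = ∑ v : ι → F, ψ (Q v) := fun u =>
      Equiv.sum_comp (Equiv.addRight (u : ι → F)) fun v => ψ (Q v)
    rw [Finset.sum_congr rfl fun u _ => h3 u, Finset.sum_const, Finset.card_univ, nsmul_eq_mul]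
  rw [Finset.sum_congr rfl fun v _ => h1 v, Finset.sum_ite, Finset.sum_const_zero, add_zero, Finset.sum_const,
    nsmul_eq_mul] at h2
  have h3 : (Finset.univ.filter fun v : ι → F => v ∈ U).card = Fintype.card U := (Fintype.card_subtype _).symm
  rw [h3] at h2
  have h4 := mul_left_cancel₀ hUR h2
  rw [← h4, hcardU, Nat.cast_pow]

end Sum

section Fixed

variable {ι : Type} [Fintype ι] [DecidableEq ι] {F : Type*} [Field F] [Fintype F]

theorem sum_eq_fixed {r : ℕ} [hr : Fact r.Prime] {X : Type*} [Fintype X] (g : Equiv.Perm X) (hg : g ^ r = 1)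
    [DecidableEq X] {Y : Type*} [Fintype Y] [DecidableEq Y] (q : X → Y) (hq : ∀ x, q (g x) = q x) (f : Y → ZMod r) :
    ∑ x : X, f (q x) = ∑ x ∈ Finset.univ.filter (fun x => g x = x), f (q x) := by
  classical
  have h1 : ∀ (s : Finset X), ∑ x ∈ s, f (q x) = ∑ y : Y, ((s.filter fun x => q x = y).card : ZMod r) * f y := by
    intro s
    rw [← Finset.sum_fiberwise s q fun x => f (q x)]
    refine Finset.sum_congr rfl fun y _ => ?_
    rw [Finset.sum_congr rfl fun x hx => by rw [(Finset.mem_filter.1 hx).2], Finset.sum_const, nsmul_eq_mul]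
  rw [h1, h1]
  refine Finset.sum_congr rfl fun y _ => ?_
  congr 1
  -- the fibre with the action of the cyclic group
  let Z := {x : X // q x = y}
  let g' : Equiv.Perm Z := g.subtypePerm (fun x => by rw [hq])
  have hg' : g' ^ r = 1 := by
    ext x
    have h2 : ((g' ^ r) x : X) = (g ^ r) x := by
      rw [Equiv.Perm.subtypePerm_pow]
      rfl
    rw [h2, hg]
    rfl
  let C := Subgroup.zpowers g'
  have hC : IsPGroup r C := by
    rw [IsPGroup.iff_orderOf]
    rintro ⟨c, hc⟩
    obtain ⟨n, rfl⟩ := Subgroup.mem_zpowers_iff.1 hc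
    have h3 : (⟨g' ^ n, hc⟩ : C) ^ r = 1 := by
      apply Subtype.ext
      change (g' ^ n) ^ r = 1
      rw [← zpow_natCast, ← _root_.zpow_mul, mul_comm, _root_.zpow_mul, zpow_natCast, hg', _root_.one_zpow]
    have h4 := orderOf_dvd_of_pow_eq_one h3
    rcases (Nat.dvd_prime hr.out).1 h4 with h5 | h5
    · exact ⟨0, by rw [h5, pow_zero]⟩
    · exact ⟨1, by rw [h5, pow_one]⟩
  have h2 := hC.card_modEq_card_fixedPoints Z
  have h3 : Nat.card Z = (Finset.univ.filter fun x : X => q x = y).card := by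
    rw [Nat.card_eq_fintype_card, Fintype.card_subtype]
  have h4 : Nat.card (MulAction.fixedPoints C Z) =
      ((Finset.univ.filter fun x : X => g x = x).filter fun x => q x = y).card := by
    rw [Finset.filter_filter, ← Fintype.card_subtype, ← Nat.card_eq_fintype_card]
    refine Nat.card_congr ?_
    refine
      { toFun := fun z => ⟨z.1.1, ?_, z.1.2⟩
        invFun := fun x => ⟨⟨x.1, x.2.2⟩, ?_⟩
        left_inv := fun z => rfl
        right_inv := fun x => rfl }
    · have h5 := z.2 ⟨g', Subgroup.mem_zpowers g'⟩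
      exact congrArg Subtype.val h5
    · rintro ⟨c, hc⟩
      obtain ⟨n, rfl⟩ := Subgroup.mem_zpowers_iff.1 hc
      have h6 : g' ⟨x.1, x.2.2⟩ = ⟨x.1, x.2.2⟩ := Subtype.ext x.2.1
      change (g' ^ n) _ = _
      exact Equiv.Perm.zpow_apply_eq_self_of_apply_eq_self h6 n
  rw [← h3, ← h4]
  exact (ZMod.natCast_eq_natCast_iff _ _ _).2 h2

/-- a nontrivial additive character with values in `ZMod r`, `r` odd -/
theorem exists_char [CharP F 2] {r : ℕ} [hr : Fact r.Prime] (h2 : r ≠ 2) : ∃ ψ : AddChar F (ZMod r), ψ ≠ 1 ∧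
    ∀ x, ψ x = 1 ∨ ψ x = -1 := by
  have : Algebra (ZMod 2) F := ZMod.algebra F 2
  obtain ⟨φ, hφ⟩ : ∃ φ : F →ₗ[ZMod 2] ZMod 2, φ 1 ≠ 0 := by
    by_contra hcon
    push Not at hcon
    exact one_ne_zero ((Module.forall_dual_apply_eq_zero_iff (ZMod 2) (1 : F)).1 hcon)
  let χ : AddChar (ZMod 2) (ZMod r) := AddChar.zmodChar 2 (ζ := (-1 : ZMod r)) (by norm_num)
  have hne : (-1 : ZMod r) ≠ 1 := by
    intro h
    have h3 : ((2 : ℕ) : ZMod r) = 0 := by
      push_cast
      linear_combination -h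
    rw [ZMod.natCast_eq_zero_iff] at h3
    exact h2 ((Nat.prime_dvd_prime_iff_eq hr.out Nat.prime_two).1 h3)
  have hχ1 : χ 1 = (-1 : ZMod r) := by
    change (-1 : ZMod r) ^ (ZMod.val (1 : ZMod 2)) = -1
    rw [ZMod.val_one, pow_one]
  refine ⟨χ.compAddMonoidHom φ.toAddMonoidHom, ?_, ?_⟩
  · intro h
    have h3 := DFunLike.congr_fun h 1
    rw [AddChar.compAddMonoidHom_apply, AddChar.one_apply] at h3
    have h4 : φ 1 = 1 := by
      have h5 : ∀ x : ZMod 2, x ≠ 0 → x = 1 := by decide
      exact h5 _ hφ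
    have h5 : φ.toAddMonoidHom 1 = 1 := h4
    rw [h5] at h3
    apply hne
    rw [← hχ1, h3]
  · intro x
    rw [AddChar.compAddMonoidHom_apply]
    have h5 : ∀ x : ZMod 2, x = 0 ∨ x = 1 := by decide
    rcases h5 (φ.toAddMonoidHom x) with h6 | h6
    · left; rw [h6, AddChar.map_zero_eq_one]
    · right
      rw [h6, hχ1]

variable [CharP F 2]

/-- the sum over the fixed vectors of an isometry -/
theorem pow_eq_fixed {r : ℕ} [hr : Fact r.Prime] (h2 : r ≠ 2) {Q : (ι → F) → F} (hQ : IsNondegenerateQuadraticForm Q)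
    (hplus : IsPlusTypeOn Q ⊤) {m : ℕ} (hm : Fintype.card ι = 2 * m) {g : GL ι F} (hg : g ^ r = 1)
    (hfix : ∀ v, Q ((g : Matrix ι ι F) *ᵥ v) = Q v) {ψ : AddChar F (ZMod r)} (hψ : ψ ≠ 1) [DecidableEq F] :
    ((Fintype.card F : ℕ) : ZMod r) ^ m =
      ∑ v ∈ Finset.univ.filter (fun v : ι → F => (g : Matrix ι ι F) *ᵥ v = v), ψ (Q v) := by
  classical
  have hR : ((Fintype.card F : ℕ) : ZMod r) ≠ 0 := by
    obtain ⟨n, -, hn⟩ := FiniteField.card F 2
    rw [hn, Nat.cast_pow]
    apply pow_ne_zero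
    intro h
    have h3 : ((2 : ℕ) : ZMod r) = 0 := h
    rw [ZMod.natCast_eq_zero_iff] at h3
    exact h2 ((Nat.prime_dvd_prime_iff_eq hr.out Nat.prime_two).1 h3)
  rw [← sum_psi ψ hψ hR hQ hplus hm]
  let G : Equiv.Perm (ι → F) :=
    { toFun := fun v => (g : Matrix ι ι F) *ᵥ v
      invFun := fun v => ((g⁻¹ : GL ι F) : Matrix ι ι F) *ᵥ v
      left_inv := fun v => by
        change ((g⁻¹ : GL ι F) : Matrix ι ι F) *ᵥ ((g : Matrix ι ι F) *ᵥ v) = v
        rw [Matrix.mulVec_mulVec, ← Units.val_mul, inv_mul_cancel, Units.val_one, Matrix.one_mulVec]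
      right_inv := fun v => by
        change (g : Matrix ι ι F) *ᵥ (((g⁻¹ : GL ι F) : Matrix ι ι F) *ᵥ v) = v
        rw [Matrix.mulVec_mulVec, ← Units.val_mul, mul_inv_cancel, Units.val_one, Matrix.one_mulVec] }
  have hGpow : ∀ n : ℕ, ∀ v, (G ^ n) v = ((g ^ n : GL ι F) : Matrix ι ι F) *ᵥ v := by
    intro n
    induction n with
    | zero => intro v; simp
    | succ n ih =>
      intro v
      rw [pow_succ', Equiv.Perm.mul_apply, ih, pow_succ', Units.val_mul, ← Matrix.mulVec_mulVec]
      rfl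
  have hG : G ^ r = 1 := by
    ext1 v
    rw [hGpow, hg, Units.val_one, Matrix.one_mulVec]
    rfl
  exact sum_eq_fixed G hG Q hfix ψ

theorem Q_zero {Q : (ι → F) → F} (hQ : IsNondegenerateQuadraticForm Q) : Q 0 = 0 := by
  have h := hQ.smul 0 0
  rw [zero_smul, zero_pow two_ne_zero, zero_mul] at h
  exact h

/-- **No fixed vectors.** -/
theorem pow_eq_one_of_free {r : ℕ} [hr : Fact r.Prime] (h2 : r ≠ 2) {Q : (ι → F) → F}
    (hQ : IsNondegenerateQuadraticForm Q) (hplus : IsPlusTypeOn Q ⊤) {m : ℕ} (hm : Fintype.card ι = 2 * m) {g : GL ι F}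
    (hg : g ^ r = 1) (hfix : ∀ v, Q ((g : Matrix ι ι F) *ᵥ v) = Q v)
    (hfree : ∀ v, (g : Matrix ι ι F) *ᵥ v = v → v = 0) : ((Fintype.card F : ℕ) : ZMod r) ^ m = 1 := by
  classical
  obtain ⟨ψ, hψ, -⟩ := exists_char (F := F) h2
  rw [pow_eq_fixed h2 hQ hplus hm hg hfix hψ]
  have h3 : (Finset.univ.filter fun v : ι → F => (g : Matrix ι ι F) *ᵥ v = v) = {0} := by
    ext v
    rw [Finset.mem_filter, Finset.mem_singleton]
    constructor
    · rintro ⟨-, h⟩
      exact hfree v h
    · rintro rfl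
      exact ⟨Finset.mem_univ _, Matrix.mulVec_zero _⟩
  rw [h3, Finset.sum_singleton, Q_zero hQ, AddChar.map_zero_eq_one]

/-- the character sum over an anisotropic plane -/
theorem sum_aniso {R : Type*} [Field R] {ψ : AddChar F R} (hψ : ψ ≠ 1) {Q : (ι → F) → F}
    (hQ : IsNondegenerateQuadraticForm Q) {W : Submodule F (ι → F)} (hW : finrank F W = 2)
    (han : ∀ v ∈ W, Q v = 0 → v = 0) [Fintype W] : ∑ v : W, ψ (Q v) = - (Fintype.card F : R) := by
  classical
  -- all levels have the same size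
  have hlev : ∀ c : F, c ≠ 0 → (Finset.univ.filter fun v : W => Q v = c).card =
      (Finset.univ.filter fun v : W => Q v = 1).card := by
    intro c hc
    obtain ⟨s, hs⟩ := FiniteField.isSquare_of_char_two (ringChar.eq F 2) c
    have hs0 : s ≠ 0 := by
      rintro rfl
      exact hc (by rw [hs, mul_zero])
    refine Finset.card_bij (fun v _ => s⁻¹ • v) ?_ ?_ ?_
    · intro v hv
      rw [Finset.mem_filter] at hv ⊢
      refine ⟨Finset.mem_univ _, ?_⟩
      change Q (s⁻¹ • (v : ι → F)) = 1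
      rw [hQ.smul, hv.2, hs]
      field_simp
    · intro v _ w _ h
      exact smul_right_injective W (inv_ne_zero hs0) h
    · intro v hv
      rw [Finset.mem_filter] at hv
      refine ⟨s • v, ?_, ?_⟩
      · rw [Finset.mem_filter]
        refine ⟨Finset.mem_univ _, ?_⟩
        change Q (s • (v : ι → F)) = c
        rw [hQ.smul, hv.2, hs, mul_one, sq]
      · rw [smul_smul, inv_mul_cancel₀ hs0, one_smul]
  set N := (Finset.univ.filter fun v : W => Q v = 1).card with hN
  have h0 : (Finset.univ.filter fun v : W => Q v = 0).card = 1 := by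
    rw [Finset.card_eq_one]
    refine ⟨0, ?_⟩
    ext v
    rw [Finset.mem_filter, Finset.mem_singleton]
    constructor
    · rintro ⟨-, h⟩
      exact Subtype.ext (han v v.2 h)
    · rintro rfl
      exact ⟨Finset.mem_univ _, Q_zero hQ⟩
  have hcard : Fintype.card W = Fintype.card F ^ 2 := by
    rw [Module.card_eq_pow_finrank (K := F), hW]
  have htot : Fintype.card W = 1 + (Fintype.card F - 1) * N := by
    rw [← Finset.card_univ, Finset.card_eq_sum_card_fiberwise (s := Finset.univ) (t := Finset.univ) (f := fun v : W => Q v)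
      (fun _ _ => Finset.mem_coe.2 (Finset.mem_univ _)), ← Finset.add_sum_erase _ _ (Finset.mem_univ (0 : F)), h0,
      Finset.sum_congr rfl fun c hc => hlev c (Finset.ne_of_mem_erase hc), Finset.sum_const,
      Finset.card_erase_of_mem (Finset.mem_univ _), Finset.card_univ, smul_eq_mul]
  have hq : 1 < Fintype.card F := Fintype.one_lt_card
  have hN' : N = Fintype.card F + 1 := by
    rw [hcard] at htot
    obtain ⟨k, hk⟩ : ∃ k, Fintype.card F = k + 2 := ⟨Fintype.card F - 2, by omega⟩
    rw [hk] at htot ⊢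
    have h5 : (k + 2 - 1) * N = (k + 1) * N := by congr 1
    rw [h5] at htot
    have h6 : (k + 1) * N = (k + 1) * (k + 2 + 1) := by nlinarith
    exact Nat.eq_of_mul_eq_mul_left (by omega) h6
  rw [← Finset.sum_fiberwise (Finset.univ : Finset W) (fun v : W => Q v) fun v : W => ψ (Q v)]
  have h1 : ∀ c : F, ∑ v ∈ (Finset.univ : Finset W).filter (fun v : W => Q v = c), ψ (Q v) =
      ((Finset.univ.filter fun v : W => Q v = c).card : R) * ψ c := by
    intro c
    rw [Finset.sum_congr rfl (g := fun _ => ψ c) fun v hv => by rw [(Finset.mem_filter.1 hv).2], Finset.sum_const,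
      nsmul_eq_mul]
  rw [Finset.sum_congr rfl fun c _ => h1 c, ← Finset.add_sum_erase _ _ (Finset.mem_univ (0 : F)), h0,
    Finset.sum_congr rfl fun c hc => by rw [hlev c (Finset.ne_of_mem_erase hc)], ← Finset.mul_sum,
    AddChar.map_zero_eq_one]
  have h3 := AddChar.sum_eq_zero_of_ne_one hψ
  rw [← Finset.add_sum_erase _ _ (Finset.mem_univ (0 : F)), AddChar.map_zero_eq_one] at h3
  have h4 : ∑ x ∈ Finset.univ.erase (0 : F), ψ x = -1 := by linear_combination h3
  rw [h4, hN']
  push_cast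
  ring

/-- **The fixed space is an anisotropic plane.** -/
theorem pow_eq_neg_of_aniso {r : ℕ} [hr : Fact r.Prime] (h2 : r ≠ 2) {Q : (ι → F) → F}
    (hQ : IsNondegenerateQuadraticForm Q) (hplus : IsPlusTypeOn Q ⊤) {m : ℕ} (hm : Fintype.card ι = 2 * m) {g : GL ι F}
    (hg : g ^ r = 1) (hfix : ∀ v, Q ((g : Matrix ι ι F) *ᵥ v) = Q v) {W : Submodule F (ι → F)}
    (hW : ∀ v, v ∈ W ↔ (g : Matrix ι ι F) *ᵥ v = v) (hWd : finrank F W = 2) (han : ∀ v ∈ W, Q v = 0 → v = 0) :
    ((Fintype.card F : ℕ) : ZMod r) ^ m = - ((Fintype.card F : ℕ) : ZMod r) := by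
  classical
  obtain ⟨ψ, hψ, -⟩ := exists_char (F := F) h2
  have : Fintype W := Fintype.ofFinite W
  rw [pow_eq_fixed h2 hQ hplus hm hg hfix hψ, ← sum_aniso hψ hQ hWd han]
  exact Finset.sum_subtype (Finset.univ.filter fun v : ι → F => (g : Matrix ι ι F) *ᵥ v = v) (p := fun v => v ∈ W)
    (fun v => by rw [Finset.mem_filter, hW]; simp) fun v => ψ (Q v)

end Fixed

end Cfsg.Agent.H114.Ty
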