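import Cfsg.Agent.H114.AltNat
import Cfsg.Agent.H114.TyTwo

/-!
# Systems of vectors in natural modules of alternating groups (helper114)
-/

set_option autoImplicit false
set_option linter.unusedSectionVars false

namespace Cfsg.Agent.H114.AltNat

open Module Equiv Equiv.Perm Cfsg.Agent.H882.Del Cfsg.Geo

namespace NatM

section sys

variable {α : Type*} [Fintype α] [DecidableEq α]
variable {F V : Type*} [Field F] [AddCommGroup V] [Module F V]
variable {ρ : Representation F (alternatingGroup α) V} {f : α → α → V} (h : NatM ρ f)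

/-- the vectors `∑ j, f i j` -/
def vA (f : α → α → V) (i : α) : V := ∑ j, f i j

include h

theorem vA_sub (i j : α) : vA f i - vA f j = (Fintype.card α : F) • f i j := by
  unfold vA
  rw [← Finset.sum_sub_distrib, Finset.sum_congr rfl fun k _ => h.sub i j k, Finset.sum_const, Finset.card_univ,
    Nat.cast_smul_eq_nsmul]

theorem rho_vA (g : alternatingGroup α) (i : α) : ρ g (vA f i) = vA f ((g : Perm α) i) := by
  unfold vA
  rw [map_sum, ← Equiv.sum_comp (g : Perm α) (fun j => f ((g : Perm α) i) j)]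
  exact Finset.sum_congr rfl fun j _ => h.equiv g i j

theorem sum_vA : ∑ i, vA f i = 0 := by
  by_cases hne : Nonempty α
  · obtain ⟨i0⟩ := hne
    unfold vA
    have h1 : ∀ i, ∑ j, f i j = ∑ j, (f i i0 - f j i0) := fun i => Finset.sum_congr rfl fun j _ => (h.sub i j i0).symm
    rw [Finset.sum_congr rfl fun i _ => h1 i]
    simp only [Finset.sum_sub_distrib, Finset.sum_const, ← Finset.smul_sum]
    rw [sub_self]
  · rw [not_nonempty_iff] at hne
    exact Finset.sum_of_isEmpty _

/-- **`n = m - 1`.** -/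
theorem sysA (hn : finrank F V + 1 = Fintype.card α) (hm : (Fintype.card α : F) ≠ 0) (h1 : 0 < finrank F V) :
    Sys F (vA f) where
  span := by
    rw [eq_top_iff, ← h.span, Submodule.span_le]
    rintro _ ⟨⟨i, j⟩, rfl⟩
    change f i j ∈ _
    have h3 : f i j = (Fintype.card α : F)⁻¹ • (vA f i - vA f j) := by
      rw [h.vA_sub, smul_smul, inv_mul_cancel₀ hm, one_smul]
    rw [h3]
    exact Submodule.smul_mem _ _ (Submodule.sub_mem _ (Submodule.subset_span ⟨i, rfl⟩) (Submodule.subset_span ⟨j, rfl⟩))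
  card := hn.symm
  pos := h1
  sum := h.sum_vA

/-- **`n = m - 2`.** -/
theorem sysB (hn : finrank F V + 2 = Fintype.card α) (i0 : α) (h0 : ∑ j, f j i0 = 0) (h1 : 0 < finrank F V) :
    Sys F (fun i : {i // i ≠ i0} => f i i0) where
  span := by
    rw [eq_top_iff, ← h.span' i0, Submodule.span_le]
    rintro _ ⟨j, rfl⟩
    by_cases hj : j = i0
    · subst hj
      change f j j ∈ _
      rw [h.self]
      exact Submodule.zero_mem _
    · exact Submodule.subset_span ⟨⟨j, hj⟩, rfl⟩
  card := by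
    rw [Fintype.card_subtype_compl, Fintype.card_subtype_eq]
    omega
  pos := h1
  sum := by
    rw [← h0, Fintype.sum_eq_add_sum_subtype_ne _ i0, h.self, zero_add]

theorem grA (h4 : 4 ≤ Fintype.card α) {B : V → V → F} (hB : ∀ g x y, B (ρ g x) (ρ g y) = B x y) :
    ∃ a, ∀ i j, i ≠ j → B (vA f i) (vA f j) = a := by
  by_cases hne : ∃ i j : α, i ≠ j
  · obtain ⟨k, l, hkl⟩ := hne
    refine ⟨B (vA f k) (vA f l), fun i j hij => ?_⟩
    obtain ⟨g, h1, h2⟩ := exists_two h4 hij hkl
    rw [← hB g, h.rho_vA, h.rho_vA, h1, h2]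
  · push Not at hne
    exact ⟨0, fun i j hij => absurd (hne i j) hij⟩

theorem grB (h5 : 5 ≤ Fintype.card α) (i0 : α) {B : V → V → F} (hB : ∀ g x y, B (ρ g x) (ρ g y) = B x y) :
    ∃ a, ∀ i j : {i // i ≠ i0}, i ≠ j → B (f i i0) (f j i0) = a := by
  by_cases hne : ∃ i j : {i // i ≠ i0}, i ≠ j
  · obtain ⟨k, l, hkl⟩ := hne
    refine ⟨B (f k i0) (f l i0), fun i j hij => ?_⟩
    obtain ⟨g, h1, h2, h3⟩ := exists_three h5 (fun h => hij (Subtype.ext h)) (fun h => hkl (Subtype.ext h)) i.2 j.2 k.2 l.2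
    rw [← hB g, h.equiv, h.equiv, h1, h2, h3]
  · push Not at hne
    exact ⟨0, fun i j hij => absurd (hne i j) hij⟩

end sys

section type

variable {α : Type} [Fintype α] [DecidableEq α] {F : Type*} [Field F]
variable {ι : Type} [Fintype ι] [DecidableEq ι] {ρ : Representation F (alternatingGroup α) (ι → F)}
  {f : α → α → ι → F} (h : NatM ρ f) {Q : (ι → F) → F} (hQ : IsNondegenerateQuadraticForm Q)
  (hfix : ∀ g v, Q (ρ g v) = Q v)

include hfix in
theorem _root_.Cfsg.Agent.H114.AltNat.polar_fix' (g : alternatingGroup α) (x y : ι → F) :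
    QuadraticMap.polar Q (ρ g x) (ρ g y) = QuadraticMap.polar Q x y := by
  unfold QuadraticMap.polar
  rw [← map_add, hfix, hfix, hfix]

variable [Finite F]

include hfix

include h hQ

/-- type, `n = m - 1`, odd characteristic -/
theorem plusA (h2 : (2 : F) ≠ 0) (h4 : 4 ≤ Fintype.card α) (hn : Fintype.card ι + 1 = Fintype.card α)
    (hm : (Fintype.card α : F) ≠ 0) {k : ℕ} (hk : Fintype.card ι = 2 * k) :
    IsPlusTypeOn Q ⊤ ↔ IsSquare ((-1) ^ k * (Fintype.card α : F)) := by
  have hfin : finrank F (ι → F) = Fintype.card ι := finrank_fintype_fun_eq_card F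
  obtain ⟨a, ha⟩ := h.grA h4 (B := QuadraticMap.polar Q) (polar_fix' hfix)
  exact AltTy.plus_iff h2 hQ (h.sysA (by rw [hfin, hn]) hm (by rw [hfin]; omega)) ha hk (by omega)

/-- type, `n = m - 2`, odd characteristic -/
theorem plusB (h2 : (2 : F) ≠ 0) (h5 : 5 ≤ Fintype.card α) (hn : Fintype.card ι + 2 = Fintype.card α)
    (i0 : α) (h0 : ∑ j, f j i0 = 0) {k : ℕ} (hk : Fintype.card ι = 2 * k) :
    IsPlusTypeOn Q ⊤ ↔ IsSquare ((-1) ^ k * ((Fintype.card ι + 1 : ℕ) : F)) := by
  have hfin : finrank F (ι → F) = Fintype.card ι := finrank_fintype_fun_eq_card F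
  obtain ⟨a, ha⟩ := h.grB h5 i0 (B := QuadraticMap.polar Q) (polar_fix' hfix)
  have h1 := AltTy.plus_iff h2 hQ (h.sysB (by rw [hfin, hn]) i0 h0 (by rw [hfin]; omega)) ha hk (by omega)
  rw [h1, Fintype.card_subtype_compl, Fintype.card_subtype_eq, ← hn]
  rfl

end type

end NatM

end Cfsg.Agent.H114.AltNat
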