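import Cfsg.Agent.H114.AltSys

/-!
# Natural modules of alternating groups in characteristic 2 (helper114)

* `plus_pow` : `m` an odd prime, `n = m - 1 = 2 k`, plus type ⟹ `|F| ^ k = 1` modulo `m`;
* `no_form` : `n = m - 2`, `m (m - 1) / 2` odd: no quadratic form.
-/

set_option autoImplicit false
set_option linter.unusedSectionVars false

namespace Cfsg.Agent.H114.AltNat

open Module Equiv Equiv.Perm Cfsg.Agent.H882.Del Cfsg.Geo Matrix

variable {F : Type*} [Field F] {ι : Type} [Fintype ι] [DecidableEq ι]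

/-- the representation of a homomorphism into `GL` -/
noncomputable def rep {G : Type*} [Group G] (θ : G →* GL ι F) : Representation F G (ι → F) :=
  ((Matrix.toLinAlgEquiv' : Matrix ι ι F ≃ₐ[F] _).toAlgHom.toRingHom.toMonoidHom).comp ((Units.coeHom _).comp θ)

theorem rep_apply {G : Type*} [Group G] (θ : G →* GL ι F) (g : G) (v : ι → F) :
    rep θ g v = (θ g : Matrix ι ι F) *ᵥ v := rfl

theorem addRight_mem {m : ℕ} [NeZero m] (hodd : Odd m) :
    (Equiv.addRight (1 : Fin m)) ∈ alternatingGroup (Fin m) := by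
  rw [mem_alternatingGroup]
  have hpow : ∀ j : ℕ, ∀ x : Fin m, ((Equiv.addRight (1 : Fin m)) ^ j) x = x + j • (1 : Fin m) := by
    intro j
    induction j with
    | zero => intro x; simp
    | succ j ih =>
      intro x
      rw [pow_succ, Perm.mul_apply, ih]
      change x + 1 + j • (1 : Fin m) = _
      rw [succ_nsmul]
      abel
  have h5 : (Equiv.addRight (1 : Fin m)) ^ m = 1 := by
    ext x
    rw [hpow]
    have : m • (1 : Fin m) = 0 := by
      have h := card_nsmul_eq_zero (x := (1 : Fin m))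
      rwa [Fintype.card_fin] at h
    rw [this, add_zero]
    rfl
  have h7 := congrArg sign h5
  rw [map_pow, map_one] at h7
  rcases Int.units_eq_one_or (sign (Equiv.addRight (1 : Fin m))) with h8 | h8
  · exact h8
  · rw [h8, hodd.neg_one_pow] at h7
    exact absurd h7 (by decide)

/-- the `m`-cycle -/
def cyc (m : ℕ) [NeZero m] (hodd : Odd m) : alternatingGroup (Fin m) := ⟨Equiv.addRight (1 : Fin m), addRight_mem hodd⟩

theorem cyc_pow (m : ℕ) [NeZero m] (hodd : Odd m) : cyc m hodd ^ m = 1 := by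
  apply Subtype.ext
  change (Equiv.addRight (1 : Fin m)) ^ m = 1
  have hpow : ∀ j : ℕ, ∀ x : Fin m, ((Equiv.addRight (1 : Fin m)) ^ j) x = x + j • (1 : Fin m) := by
    intro j
    induction j with
    | zero => intro x; simp
    | succ j ih =>
      intro x
      rw [pow_succ, Perm.mul_apply, ih]
      change x + 1 + j • (1 : Fin m) = _
      rw [succ_nsmul]
      abel
  ext x
  rw [hpow]
  have : m • (1 : Fin m) = 0 := by
    have h := card_nsmul_eq_zero (x := (1 : Fin m))
    rwa [Fintype.card_fin] at h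
  rw [this, add_zero]
  rfl

theorem const_of_shift' {n : ℕ} {R : Type*} {c : Fin (n + 1) → R} (h : ∀ i, c (i + 1) = c i) (i : Fin (n + 1)) :
    c i = c 0 := by
  induction i using Fin.induction with
  | zero => rfl
  | succ i ih => rw [← Fin.coeSucc_eq_succ, h, ih]

theorem const_of_shift {m : ℕ} [hm : NeZero m] {R : Type*} {c : Fin m → R} (h : ∀ i, c (i + 1) = c i) (i : Fin m) :
    c i = c 0 := by
  obtain ⟨n, rfl⟩ := Nat.exists_eq_succ_of_ne_zero hm.out
  exact const_of_shift' h i

/-- no fixed vectors -/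
theorem free_cyc {m : ℕ} [NeZero m] (hodd : Odd m) {V : Type*} [AddCommGroup V] [Module F V]
    {ρ : Representation F (alternatingGroup (Fin m)) V} {f : Fin m → Fin m → V} (h : NatM ρ f)
    (S : Sys F (NatM.vA f)) (hm : (m : F) ≠ 0) {v : V} (hv : ρ (cyc m hodd) v = v) : v = 0 := by
  obtain ⟨c, rfl⟩ : ∃ c : Fin m → F, ∑ i, c i • NatM.vA f i = v := by
    have hv : v ∈ Submodule.span F (Set.range (NatM.vA f)) := by rw [S.span]; trivial
    rw [← Fintype.range_linearCombination] at hv
    obtain ⟨c, hc⟩ := hv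
    exact ⟨c, hc⟩
  have hact : ∀ i, ((cyc m hodd : alternatingGroup (Fin m)) : Perm (Fin m)) i = i + 1 := fun i => rfl
  rw [map_sum] at hv
  have h1 : ∑ i, (c i - c (i + 1)) • NatM.vA f (i + 1) = 0 := by
    have h2 : ∑ i, c (i + 1) • NatM.vA f (i + 1) = ∑ i, c i • NatM.vA f i :=
      Equiv.sum_comp (Equiv.addRight (1 : Fin m)) fun i => c i • NatM.vA f i
    simp only [sub_smul, Finset.sum_sub_distrib]
    rw [h2, ← hv, sub_eq_zero]
    refine Finset.sum_congr rfl fun i _ => ?_
    rw [map_smul, h.rho_vA, hact]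
  have h3 : ∑ i, (c (i - 1) - c i) • NatM.vA f i = 0 := by
    rw [← h1, ← Equiv.sum_comp (Equiv.addRight (1 : Fin m)) fun i => (c (i - 1) - c i) • NatM.vA f i]
    refine Finset.sum_congr rfl fun i _ => ?_
    change (c (i + 1 - 1) - c (i + 1)) • NatM.vA f (i + 1) = _
    rw [add_sub_cancel_right]
  have h4 : ∀ i, c (i - 1) - c i = c (0 - 1) - c 0 := fun i => S.rel h3 i 0
  have h5 : (m : F) * (c (0 - 1) - c 0) = 0 := by
    have h6 : ∑ i : Fin m, (c (i - 1) - c i) = 0 := by
      rw [Finset.sum_sub_distrib, sub_eq_zero]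
      exact Equiv.sum_comp (Equiv.subRight (1 : Fin m)) c
    rw [Finset.sum_congr rfl fun i _ => h4 i, Finset.sum_const, Finset.card_univ, Fintype.card_fin, nsmul_eq_mul] at h6
    exact h6
  have h6 := (mul_eq_zero.1 h5).resolve_left hm
  have h7 : ∀ i, c (i + 1) = c i := by
    intro i
    have h8 := h4 (i + 1)
    rw [h6, add_sub_cancel_right] at h8
    exact (sub_eq_zero.1 h8).symm
  have h8 := const_of_shift h7
  rw [Finset.sum_congr rfl fun i _ => by rw [h8 i], ← Finset.smul_sum, S.sum, smul_zero]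

/-- **`m` prime, `n = m - 1`, characteristic 2.** -/
theorem plus_pow [Finite F] [Fintype F] [CharP F 2] {m : ℕ} [hp : Fact m.Prime] (hm2 : m ≠ 2)
    {θ : alternatingGroup (Fin m) →* GL ι F} {f : Fin m → Fin m → ι → F} (h : NatM (rep θ) f) {Q : (ι → F) → F}
    (hQ : IsNondegenerateQuadraticForm Q) (hplus : IsPlusTypeOn Q ⊤)
    (hfix : ∀ g v, Q ((θ g : Matrix ι ι F) *ᵥ v) = Q v) (hn : Fintype.card ι + 1 = m) {k : ℕ}
    (hk : Fintype.card ι = 2 * k) (hk0 : 0 < k) : ((Fintype.card F : ℕ) : ZMod m) ^ k = 1 := by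
  have : NeZero m := ⟨hp.out.ne_zero⟩
  have hodd : Odd m := hp.out.odd_of_ne_two hm2
  have hmF : (m : F) ≠ 0 := by
    intro h0
    rw [CharP.cast_eq_zero_iff F 2] at h0
    exact hm2 ((Nat.prime_dvd_prime_iff_eq Nat.prime_two hp.out).1 h0).symm
  have hfin : finrank F (ι → F) = Fintype.card ι := finrank_fintype_fun_eq_card F
  have S : Sys F (NatM.vA f) := h.sysA (by rw [hfin, hn, Fintype.card_fin]) (by rw [Fintype.card_fin]; exact hmF)
    (by rw [hfin]; omega)
  refine Ty.pow_eq_one_of_free hm2 hQ hplus hk (g := θ (cyc m hodd)) ?_ (hfix _) fun v hv => ?_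
  · rw [← map_pow, cyc_pow, map_one]
  · exact free_cyc hodd h S hmF (v := v) hv

/-- **`n = m - 2`, characteristic 2.** -/
theorem no_form [CharP F 2] {α : Type} [Fintype α] [DecidableEq α] (h5 : 5 ≤ Fintype.card α)
    {ρ : Representation F (alternatingGroup α) (ι → F)} {f : α → α → ι → F} (h : NatM ρ f) {Q : (ι → F) → F}
    (hQ : IsNondegenerateQuadraticForm Q) (hfix : ∀ g v, Q (ρ g v) = Q v)
    (hn : Fintype.card ι + 2 = Fintype.card α) (i0 : α) (h0 : ∑ j, f j i0 = 0) {k : ℕ}
    (hk : Fintype.card α * (Fintype.card α - 1) = 2 * (2 * k + 1)) : False := by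
  have hfin : finrank F (ι → F) = Fintype.card ι := finrank_fintype_fun_eq_card F
  obtain ⟨a, ha⟩ := h.grB h5 i0 (B := QuadraticMap.polar Q) (polar_fix' hfix)
  have S := h.sysB (by rw [hfin, hn]) i0 h0 (by rw [hfin]; omega)
  have h2 : (2 : F) = 0 := by exact_mod_cast CharP.cast_eq_zero F 2
  -- all `f i j` have the same value
  obtain ⟨i1, hi1⟩ := exists_not_mem ({i0} : Finset α) (by rw [Finset.card_singleton]; omega)
  rw [Finset.mem_singleton] at hi1
  have hc : ∀ i j, i ≠ j → Q (f i j) = Q (f i1 i0) := by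
    intro i j hij
    obtain ⟨g, h1, h3⟩ := exists_two (by omega : 4 ≤ Fintype.card α) hij hi1
    rw [← h1, ← h3, ← h.equiv, hfix]
  set c := Q (f i1 i0) with hcdef
  obtain ⟨i2, hi2⟩ := exists_not_mem ({i0, i1} : Finset α) (lt_of_le_of_lt Finset.card_le_two (by omega))
  simp only [Finset.mem_insert, Finset.mem_singleton, not_or] at hi2
  have hQneg : ∀ x, Q (-x) = Q x := by
    intro x
    have := hQ.smul (-1) x
    rw [neg_one_smul] at this
    rw [this]; ring
  have hac : a = c := by
    have h1 := ha ⟨i1, hi1⟩ ⟨i2, hi2.1⟩ (by intro h; exact hi2.2 (congrArg Subtype.val h).symm)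
    change Q (f i1 i0 + f i2 i0) - Q (f i1 i0) - Q (f i2 i0) = a at h1
    have h3 : f i1 i0 + f i2 i0 = f i1 i2 + (2 : F) • f i2 i0 := by
      rw [two_smul, ← h.sub i1 i2 i0]; abel
    rw [h3, h2, zero_smul, add_zero, hc _ _ (Ne.symm hi2.2), hc _ _ hi2.1] at h1
    rw [← h1, ← hcdef]
    linear_combination (-c) * h2
  -- partial sums
  have hQ0 : Q 0 = 0 := by
    have h := hQ.smul 0 0
    rw [zero_smul, zero_pow two_ne_zero, zero_mul] at h
    exact h
  have hpol : ∀ (x : ι → F) (s : Finset {i // i ≠ i0}), QuadraticMap.polar Q x (∑ i ∈ s, f i i0) =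
      ∑ i ∈ s, QuadraticMap.polar Q x (f i i0) := by
    intro x s
    induction s using Finset.induction_on with
    | empty =>
      have := hQ.polar_bilinear.smul_right 0 x 0
      rwa [zero_smul, zero_mul] at this
    | insert b s hb ih => rw [Finset.sum_insert hb, Finset.sum_insert hb, hQ.polar_bilinear.add_right, ih]
  have hsum : ∀ s : Finset {i // i ≠ i0}, Q (∑ i ∈ s, f i i0) = ((s.card + s.card.choose 2 : ℕ) : F) * c := by
    intro s
    induction s using Finset.induction_on with
    | empty =>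
      rw [Finset.sum_empty, hQ0]
      simp
    | insert b s hb ih =>
      rw [Finset.sum_insert hb]
      have h1 : Q (f b i0 + ∑ i ∈ s, f i i0) = QuadraticMap.polar Q (f b i0) (∑ i ∈ s, f i i0) + Q (f b i0) +
          Q (∑ i ∈ s, f i i0) := by
        unfold QuadraticMap.polar
        ring
      rw [h1, hpol, ih, hc _ _ b.2, Finset.sum_congr rfl fun i hi => ha b i (fun h => hb (h ▸ hi)), Finset.sum_const,
        nsmul_eq_mul, hac, Finset.card_insert_of_notMem hb]
      have h3 : (s.card + 1).choose 2 = s.card + s.card.choose 2 := by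
        rw [Nat.choose_succ_succ' s.card 1, Nat.choose_one_right]
      rw [h3]
      push_cast
      ring
  have hfinal := hsum Finset.univ
  rw [S.sum, hQ0, Finset.card_univ, Fintype.card_subtype_compl, Fintype.card_subtype_eq] at hfinal
  have hch : (Fintype.card α - 1) + (Fintype.card α - 1).choose 2 = 2 * k + 1 := by
    obtain ⟨N, hN⟩ : ∃ N, Fintype.card α = N + 1 := ⟨Fintype.card α - 1, by omega⟩
    rw [hN, Nat.add_sub_cancel] at hk ⊢
    have h3 : (N + 1).choose 2 = N + N.choose 2 := by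
      rw [Nat.choose_succ_succ' N 1, Nat.choose_one_right]
    rw [← h3, Nat.choose_two_right, Nat.add_sub_cancel, hk]
    omega
  rw [hch] at hfinal
  have hc0 : c = 0 := by
    have h3 : ((2 * k + 1 : ℕ) : F) = 1 := by
      push_cast
      rw [h2]; ring
    rw [h3, one_mul] at hfinal
    exact hfinal.symm
  -- contradiction
  have hgr : Gr (Cfsg.Agent.H887.OmegaBridge.qf Q hQ) (fun i : {i // i ≠ i0} => f i i0) a := ha
  exact a_ne S hgr (Cfsg.Agent.H887.OmegaBridge.nondeg_qf Q hQ) (hac.trans hc0)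

end Cfsg.Agent.H114.AltNat
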