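import Cfsg.Agent.H882.Del.Form
import Cfsg.Agent.H887.OmegaBridge
import Cfsg.Agent.H926.MinusA

/-!
# The type of the quadratic form of a deleted permutation module (helper114)

* `plus_iff` : `v : α → F^ι` spans, `|α| = |ι| + 1`, `∑ v i = 0`, `(v i, v j) = a` for `i ≠ j`, `|ι| = 2 m`, odd
  characteristic: plus type ⟺ `(-1)^m |α|` is a square.
-/

set_option autoImplicit false
set_option linter.unusedSectionVars false

namespace Cfsg.Agent.H114.AltTy

open Cfsg Cfsg.Geo Matrix Module Cfsg.Agent.H882.Del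
open Cfsg.Agent.LieClassical.OrthCore
open Cfsg.Agent.H922 (toBilin)

section basis

variable {F : Type*} [Field F] {V : Type*} [AddCommGroup V] [Module F V]
variable {α : Type*} [Fintype α] [DecidableEq α] {v : α → V}

theorem linInd (S : Sys F v) (i0 : α) : LinearIndependent F (fun i : {i // i ≠ i0} => v i) := by
  rw [Fintype.linearIndependent_iff]
  intro g hg i
  let e : α → F := fun j => if h : j ≠ i0 then g ⟨j, h⟩ else 0
  have he : ∀ j : {j // j ≠ i0}, e j = g j := fun j => dif_pos j.2
  have he0 : e i0 = 0 := dif_neg (by simp)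
  have h1 : ∑ j, e j • v j = 0 := by
    rw [Fintype.sum_eq_add_sum_subtype_ne _ i0, he0, zero_smul, zero_add, ← hg]
    exact Finset.sum_congr rfl fun j _ => by rw [he]
  have h3 := S.rel h1 i i0
  rw [he, he0] at h3
  exact h3

theorem span_top (S : Sys F v) (i0 : α) : ⊤ ≤ Submodule.span F (Set.range fun i : {i // i ≠ i0} => v i) := by
  rw [← S.span, Submodule.span_le]
  rintro _ ⟨i, rfl⟩
  by_cases h : i = i0
  · subst h
    have h1 : v i = -∑ j ∈ Finset.univ.erase i, v j := by
      rw [eq_neg_iff_add_eq_zero, Finset.add_sum_erase _ _ (Finset.mem_univ i), S.sum]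
    rw [h1]
    refine Submodule.neg_mem _ (Submodule.sum_mem _ fun j hj => ?_)
    exact Submodule.subset_span ⟨⟨j, Finset.ne_of_mem_erase hj⟩, rfl⟩
  · exact Submodule.subset_span ⟨⟨i, h⟩, rfl⟩

/-- the basis `v i`, `i ≠ i0` -/
noncomputable def basis (S : Sys F v) (i0 : α) : Basis {i // i ≠ i0} F V := Basis.mk (linInd S i0) (span_top S i0)

theorem basis_apply (S : Sys F v) (i0 : α) (i : {i // i ≠ i0}) : basis S i0 i = v i := by
  rw [basis, Basis.mk_apply]

end basis

/-- `det (J - N)`, `N = |κ| + 1` -/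
theorem det_gram {κ : Type*} [Fintype κ] [DecidableEq κ] {F : Type*} [Field F] {a N : F}
    (hN : N = (Fintype.card κ : F) + 1) (hN0 : N ≠ 0) :
    (Matrix.of fun i j : κ => if i = j then -((N - 1) * a) else a).det * N = (-(a * N)) ^ Fintype.card κ := by
  have h1 : (Matrix.of fun i j : κ => if i = j then -((N - 1) * a) else a) =
      (-(a * N)) • (1 + Matrix.replicateCol Unit (fun _ : κ => -(N⁻¹)) * Matrix.replicateRow Unit (fun _ : κ => (1 : F))) := by
    ext i j
    rw [Matrix.smul_apply, Matrix.add_apply, Matrix.mul_apply, Matrix.of_apply]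
    simp only [Matrix.replicateCol_apply, Matrix.replicateRow_apply, Finset.univ_unique, Finset.sum_const,
      Finset.card_singleton, one_smul, mul_one, smul_eq_mul]
    by_cases h : i = j
    · subst h
      rw [if_pos rfl, Matrix.one_apply_eq]
      field_simp
      ring
    · rw [if_neg h, Matrix.one_apply_ne h]
      field_simp
      ring
  rw [h1, Matrix.det_smul, Matrix.det_one_add_replicateCol_mul_replicateRow]
  have h2 : (fun _ : κ => (1 : F)) ⬝ᵥ (fun _ : κ => -(N⁻¹)) = -((Fintype.card κ : F) * N⁻¹) := by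
    simp [dotProduct]
  rw [h2, mul_assoc]
  have h3 : (1 + -((Fintype.card κ : F) * N⁻¹)) * N = 1 := by
    field_simp
    rw [hN]
    ring
  rw [h3, mul_one]

/-- **The type.** -/
theorem plus_iff {F : Type*} [Field F] [Finite F] (h2 : (2 : F) ≠ 0) {ι : Type} [Fintype ι] [DecidableEq ι]
    {Q : (ι → F) → F} (hQ : IsNondegenerateQuadraticForm Q) {α : Type} [Fintype α] [DecidableEq α] {v : α → ι → F}
    (S : Sys F v) {a : F} (hg : ∀ i j, i ≠ j → QuadraticMap.polar Q (v i) (v j) = a) {m : ℕ}
    (hm : Fintype.card ι = 2 * m) (hm0 : 0 < m) : IsPlusTypeOn Q ⊤ ↔ IsSquare ((-1) ^ m * (Fintype.card α : F)) := by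
  have hfin : finrank F (ι → F) = Fintype.card ι := finrank_fintype_fun_eq_card F
  have hcard : Fintype.card α = 2 * m + 1 := by rw [S.card, hfin, hm]
  have hgr : Gr (Cfsg.Agent.H887.OmegaBridge.qf Q hQ) v a := hg
  have hnd := Cfsg.Agent.H887.OmegaBridge.nondeg_qf Q hQ
  have ha := a_ne S hgr hnd
  have hN := card_ne S hgr hnd (by omega)
  obtain ⟨i0, -, -⟩ := S.exists_two
  have hκ : Fintype.card {i // i ≠ i0} = 2 * m := by
    rw [Fintype.card_subtype_compl, Fintype.card_subtype_eq, hcard]
    omega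
  have hG : LinearMap.BilinForm.toMatrix (basis S i0) (toBilin hQ.polar_bilinear) =
      Matrix.of fun i j : {i // i ≠ i0} => if i = j then -(((Fintype.card α : F) - 1) * a) else a := by
    ext i j
    rw [LinearMap.BilinForm.toMatrix_apply, basis_apply, basis_apply, Matrix.of_apply]
    change QuadraticMap.polar Q (v i) (v j) = _
    by_cases h : i = j
    · subst h
      rw [if_pos rfl]
      exact gr_self S hgr i
    · rw [if_neg h]
      exact hg _ _ fun h1 => h (Subtype.ext h1)
  have hdet := det_gram (κ := {i // i ≠ i0}) (a := a) (N := (Fintype.card α : F)) (by rw [hκ, hcard]; push_cast; ring) hN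
  rw [← hG, hκ] at hdet
  set D := (LinearMap.BilinForm.toMatrix (basis S i0) (toBilin hQ.polar_bilinear)).det with hD
  set N : F := (Fintype.card α : F) with hNdef
  have hsq : (-(a * N)) ^ (2 * m) = ((a * N) ^ m) ^ 2 := by
    rw [pow_mul, neg_sq, ← pow_mul, ← pow_mul, mul_comm m 2]
  have haN : (a * N) ^ m ≠ 0 := pow_ne_zero _ (mul_ne_zero ha hN)
  rw [hsq] at hdet
  have hsgn : ((-1 : F) ^ m) * (-1) ^ m = 1 := by
    rw [← mul_pow]; simp
  constructor
  · intro hp
    obtain ⟨s, hs⟩ := H925.det_plus hQ hp hm (basis S i0)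
    rw [← hD] at hs
    rw [hs] at hdet
    have hs0 : s ≠ 0 := by
      rintro rfl
      rw [zero_pow two_ne_zero, mul_zero, zero_mul] at hdet
      exact (pow_ne_zero 2 haN) hdet.symm
    refine ⟨(a * N) ^ m / s, ?_⟩
    field_simp
    linear_combination hdet
  · rintro ⟨s, hs⟩
    have hs0 : s ≠ 0 := by
      rintro rfl
      rw [mul_zero] at hs
      rcases mul_eq_zero.1 hs with h | h
      · rw [h, mul_zero] at hsgn
        exact zero_ne_one hsgn
      · exact hN h
    refine H926.plus_of_det hQ h2 hm (basis S i0) (s := (a * N) ^ m / s) ?_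
    rw [← hD]
    have h3 : D * (s * s) = (-1) ^ m * ((a * N) ^ m) ^ 2 := by
      rw [← hs, ← hdet]; ring
    field_simp
    linear_combination h3

end Cfsg.Agent.H114.AltTy
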