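import Cfsg.Agent.H114.RtKill

/-!
# `L₂(13)` is not maximal in `Ω₁₂(7^k)` (overgroup `A₁₄`) (helper114)
-/

set_option autoImplicit false
set_option linter.unusedSectionVars false

namespace Cfsg.Agent.H114.Rt

open Matrix Module Cfsg Cfsg.Geo Cfsg.Agent.H464.Sl2 Cfsg.Agent.H882.Del Cfsg.Agent.H915.LD
open Cfsg.Agent.LieClassical.OrthCore Cfsg.Agent.LieClassical.OrthTrans Cfsg.Agent.LieClassical.OrthFinite

universe u v

theorem fixesQuadForm_of_le {ι : Type} [Fintype ι] [DecidableEq ι] {F : Type u} [Field F] {Q : (ι → F) → F}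
    {H P : Subgroup (GL ι F)} (hH : H ≤ omegaGL Q) (hP : P ≤ H) : FixesQuadForm (matrixSet P) Q := by
  rintro _ ⟨g, hg, rfl⟩ v
  obtain ⟨g', -, h⟩ := hH (hP hg)
  have := g'.2 v v
  rw [← h]
  exact this

theorem units_sq {K : Type*} [Field K] {ε : Kˣ} (hε : ε ^ 2 = 1) : ε = 1 ∨ ε = -1 := by
  have h1 : (ε : K) * (ε : K) = 1 := by
    have := congrArg (fun z : Kˣ => (z : K)) hε
    rw [← sq]
    simpa using this
  rcases mul_self_eq_one_iff.1 h1 with h | h
  · exact Or.inl (Units.ext h)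
  · exact Or.inr (Units.ext (by rw [h]; simp))

/-- **`L₂(13)`, degree 12, characteristic 7.** -/
theorem not_thirteen {F : Type u} [Field F] [Finite F] [CharP F 7] {Q : (Fin 12 → F) → F}
    (hQ : IsNondegenerateQuadraticForm Q) {H P : Subgroup (GL (Fin 12) F)} (hH : IsMaximalIn (omegaGL Q) H)
    (hP : IsResidualCore H P) (e : Soc P ≃* ProjectiveSpecialLinearGroup (Fin 2) (ZMod 13)) : False := by
  classical
  have h7 : Fact (Nat.Prime 7) := ⟨by norm_num⟩
  have hC := core_of_residual hP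
  have hfixQ : FixQ P := ⟨Q, hQ, fixesQuadForm_of_le hH.1.le hP.le⟩
  have hcard : Fintype.card (ZMod 13) = 13 := ZMod.card 13
  obtain ⟨ρ, hρ, hρe⟩ := l2_rep hC (by rw [hcard]; norm_num) (by rw [hcard]; norm_num) e
  have hne : ∀ m : ℕ, ¬ 7 ∣ m → (m : F) ≠ 0 := fun m hm h => hm ((CharP.cast_eq_zero_iff F 7 m).1 h)
  have hspan : Submodule.span F (Set.range fun g => (ρ g : Matrix (Fin 12) (Fin 12) F)) = ⊤ := by
    apply span_eq_top
    rw [hρ]
    exact hC.absIrred
  have hker1 : ∀ g, ρ g ∈ scalars (Fin 12) F → g ∈ Subgroup.center (SpecialLinearGroup (Fin 2) (ZMod 13)) := by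
    intro g hg
    have h3 : ρ g ∈ P := by rw [← hρ]; exact ⟨g, rfl⟩
    have h4 := hρe g h3
    have h5 : (QuotientGroup.mk ⟨ρ g, h3⟩ : Soc P) = 1 := by
      rw [QuotientGroup.eq_one_iff, Subgroup.mem_subgroupOf]
      exact hg
    have h6 : toSoc P ⟨ρ g, h3⟩ = 1 := h5
    rw [h6, map_one] at h4
    exact (QuotientGroup.eq_one_iff g).1 h4.symm
  have hker : ∀ g, ρ g = 1 → ∀ x, g * x = x * g := by
    intro g hg x
    have h3 := hker1 g (by rw [hg]; exact one_mem _)
    exact (Subgroup.mem_center_iff.1 h3 x).symm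
  have hbot : (scalars (Fin 12) F).subgroupOf P = ⊥ := by
    by_contra hcon
    exact ((Cfsg.Agent.H830.Sl2Form.l2_type 7 (by norm_num) hC (by rw [hcard]; norm_num) (by rw [hcard]; norm_num)
      (by rw [hcard]; norm_num) e).2 hcon).1 hfixQ
  have hm1 : ρ (t (-1)) = 1 := (Cfsg.Agent.H830.Sl2Form.scalars_bot_iff ρ hρ hC.absIrred hker1).1 hbot
  have hcen : ∀ ε : (ZMod 13)ˣ, ε ^ 2 = 1 → ρ (t ε) = 1 := by
    intro ε hε
    rcases units_sq hε with h | h
    · rw [h, t_one, map_one]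
    · rw [h, hm1]
  -- over the algebraic closure
  let k := AlgebraicClosure F
  have hchk : CharP k 7 := charP_of_injective_algebraMap (algebraMap F k).injective 7
  have hKk : (Fintype.card (ZMod 13) : k) ≠ 0 := by
    rw [hcard]
    intro h
    have := (CharP.cast_eq_zero_iff k 7 13).1 h
    revert this
    norm_num
  have hρ1 : ρ ≠ 1 := by
    intro h
    have h1 := hker (u 1) (by rw [h]; rfl) (w 1)
    have h2 := congrFun (congrFun (congrArg Subtype.val h1) 0) 0
    revert h2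
    decide
  obtain ⟨ψ, hψ⟩ := exists_prim hKk
  have hR : ext ρ k ≠ 1 := ext_ne_one ρ k hρ1
  have hs := span_ext ρ k hspan
  have hfr : finrank k (Fin 12 → k) = 12 := by rw [finrank_fintype_fun_eq_card, Fintype.card_fin]
  have hdim := dim_cases (ext ρ k) hψ hKk hs hR
  rw [hfr, hcard] at hdim
  have h1 : ∀ b : ZMod 13, b ≠ 0 → finrank k (LinearMap.range (E (ext ρ k) ψ b)) = 1 := by
    rcases hdim with h | h
    · exact h.1
    · omega
  have h0 : finrank k (LinearMap.range (E (ext ρ k) ψ 0)) = 0 := by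
    have h4 := finrank_eq (ext ρ k) hψ hKk
    rw [hfr, Finset.sum_congr rfl fun b hb => h1 b (Finset.ne_of_mem_erase hb), Finset.sum_const,
      Finset.card_erase_of_mem (Finset.mem_univ _), Finset.card_univ, smul_eq_mul, mul_one, hcard] at h4
    omega
  have hcen' : ∀ ε : (ZMod 13)ˣ, ε ^ 2 = 1 → ext ρ k (t ε) = 1 := by
    intro ε hε
    rw [ext_apply, hcen ε hε, Units.val_one, Matrix.map_one _ (map_zero _) (map_one _), Matrix.toLin'_one]
    rfl
  have hchi := chi_eq_fix (ext ρ k) hψ hKk (by decide) (by rw [hcard]; norm_num) hs h1 h0 hcen'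
    (chi_nonsplit (ext ρ k) hfr hcen')
  have hT : ∀ g, (ρ g : Matrix (Fin 12) (Fin 12) F).trace = (fix g : F) - 2 := by
    intro g
    apply (algebraMap F k).injective
    rw [← trace_ext, map_sub, map_natCast, map_ofNat]
    exact hchi g
  have hE0 : ∑ x : ZMod 13, (ρ (u x) : Matrix (Fin 12) (Fin 12) F) = 0 := by
    have h5 : E (ext ρ k) ψ 0 = 0 := by
      rw [Submodule.finrank_eq_zero, LinearMap.range_eq_bot] at h0
      exact h0
    rw [← Ty.E0_ext ρ ψ] at h5
    have h6 : (Ty.E0 ρ).map (algebraMap F k) = 0 := by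
      have := Matrix.toLin'.injective (h5.trans (map_zero _).symm)
      exact this
    have h8 : Ty.E0 ρ = 0 := by
      ext i j
      have h9 := congrFun (congrFun h6 i) j
      rw [Matrix.map_apply] at h9
      apply (algebraMap F k).injective
      rw [h9, Matrix.zero_apply, Matrix.zero_apply, map_zero]
    unfold Ty.E0 at h8
    refine (smul_eq_zero.1 h8).resolve_left (inv_ne_zero ?_)
    rw [hcard]
    exact hne 13 (by norm_num)
  have hζ : ∃ ζ : (ZMod 13)ˣ, ζ ^ 3 = 1 ∧ ζ ≠ 1 := ⟨⟨3, 9, by decide, by decide⟩, by decide, by decide⟩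
  obtain ⟨ζ, hζ3, hζ1⟩ := hζ
  have hiu : ∃ iu : (ZMod 13)ˣ, (iu : ZMod 13) ^ 2 = -1 := ⟨⟨5, 8, by decide, by decide⟩, by decide⟩
  obtain ⟨iu, hi⟩ := hiu
  have hcu : Fintype.card (ZMod 13)ˣ = 12 := by rw [ZMod.card_units_eq_totient]; decide
  refine kill (ρ := ρ) (by decide) (by rw [hcard]; decide) hζ3 hζ1 hT hspan hE0 ?_ hi hcen hker ?_ ?_ ?_ ?_
    (Q := Cfsg.Agent.H887.OmegaBridge.qf Q hQ) (Cfsg.Agent.H887.OmegaBridge.nondeg_qf Q hQ) (H := H) hH ?_ ?_
  · rw [hcu]
    have := hne 24 (by norm_num)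
    push_cast at this ⊢
    norm_num at this ⊢
    exact this
  · rw [hcard]
  · exact_mod_cast hne 3 (by norm_num)
  · rw [hcard]; norm_num
  · rw [hcard]; decide
  · rw [hρ]; exact hP.le
  · rw [hρ]; exact hP.normal

end Cfsg.Agent.H114.Rt
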