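import Cfsg.Agent.H114.TyL2
import Cfsg.Agent.H114.TyTwo

/-!
# The quadratic form fixed by `PSL₂(11)`, `PSL₂(13)` of degree 12 in characteristic two is of minus type (helper114)
-/

set_option autoImplicit false
set_option linter.unusedSectionVars false

namespace Cfsg.Agent.H114.Ty

open Matrix Module Cfsg Cfsg.Geo Cfsg.Agent.H464.Sl2 Cfsg.Agent.H915.LD

section Plane

variable {ι : Type} [Fintype ι] [DecidableEq ι] {F : Type*} [Field F]

/-- A plane with an isometry without eigenvectors is anisotropic. -/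
theorem aniso_of_isometry {Q : (ι → F) → F} (hQ : IsNondegenerateQuadraticForm Q) {W : Submodule F (ι → F)}
    (hW : finrank F W = 2) {T : Module.End F (ι → F)} (hT : ∀ v, Q (T v) = Q v) (hTW : ∀ w ∈ W, T w ∈ W)
    (h1 : ∀ w ∈ W, ∀ μ : F, T w = μ • w → w = 0) (h2 : ∀ w ∈ W, ∀ μ : F, T (T w) = μ • w → w = 0)
    (hnd : ∀ w ∈ W, (∀ w' ∈ W, QuadraticMap.polar Q w w' = 0) → w = 0)
    (halt : ∀ w, QuadraticMap.polar Q w w = 2 * Q w) :
    ∀ w ∈ W, Q w = 0 → w = 0 := by
  intro w hw hQw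
  by_contra hw0
  have hB := hQ.polar_bilinear
  have hfd : FiniteDimensional F W := FiniteDimensional.of_finrank_pos (by omega)
  have hli : LinearIndependent F ![(⟨w, hw⟩ : W), ⟨T w, hTW w hw⟩] := by
    rw [LinearIndependent.pair_iff]
    intro s r hsr
    have h3 : s • w + r • T w = 0 := congrArg Subtype.val hsr
    by_cases hr : r = 0
    · rw [hr, zero_smul, add_zero] at h3
      exact ⟨(smul_eq_zero.1 h3).resolve_right hw0, hr⟩
    · exfalso
      apply hw0
      apply h1 w hw (-(r⁻¹ * s))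
      have h4 : T w = r⁻¹ • (r • T w) := by rw [smul_smul, inv_mul_cancel₀ hr, one_smul]
      rw [h4, show r • T w = - (s • w) from eq_neg_of_add_eq_zero_right h3, smul_neg, smul_smul, neg_smul]
  have hspan : ∀ x ∈ W, ∃ α β : F, x = α • w + β • T w := by
    intro x hx
    have h3 : Submodule.span F (Set.range ![(⟨w, hw⟩ : W), ⟨T w, hTW w hw⟩]) = ⊤ :=
      hli.span_eq_top_of_card_eq_finrank' (by rw [hW, Fintype.card_fin])
    have h4 : (⟨x, hx⟩ : W) ∈ Submodule.span F (Set.range ![(⟨w, hw⟩ : W), ⟨T w, hTW w hw⟩]) := by rw [h3]; trivial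
    rw [Matrix.range_cons, Matrix.range_cons, Matrix.range_empty, Set.union_empty, Set.singleton_union,
      Submodule.mem_span_pair] at h4
    obtain ⟨α, β, h5⟩ := h4
    exact ⟨α, β, (congrArg Subtype.val h5).symm⟩
  have hpol : ∀ x y : ι → F, Q (x + y) = Q x + Q y + QuadraticMap.polar Q x y := by
    intro x y
    unfold QuadraticMap.polar
    ring
  have hwT : QuadraticMap.polar Q w (T w) ≠ 0 := by
    intro h
    apply hw0
    apply hnd w hw
    intro x hx
    obtain ⟨α, β, rfl⟩ := hspan x hx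
    rw [hB.add_right, hB.smul_right, hB.smul_right, h, halt, hQw, mul_zero, mul_zero, mul_zero, add_zero]
  obtain ⟨α, β, h3⟩ := hspan (T (T w)) (hTW _ (hTW _ hw))
  have h4 : Q (T (T w)) = 0 := by rw [hT, hT, hQw]
  rw [h3, hpol, hQ.smul, hQ.smul, hT, hQw, hB.smul_left, hB.smul_right] at h4
  have h5 : α * β * QuadraticMap.polar Q w (T w) = 0 := by linear_combination h4
  rcases mul_eq_zero.1 ((mul_eq_zero.1 h5).resolve_right hwT) with h6 | h6
  · rw [h6, zero_smul, zero_add] at h3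
    have h7 := h1 (T w) (hTW _ hw) β h3
    apply hw0
    have h8 := h2 w hw 0
    apply h8
    rw [h7, map_zero, zero_smul]
  · rw [h6, zero_smul, add_zero] at h3
    exact hw0 (h2 w hw α h3)

end Plane

theorem dec1 : ((2 : ℕ) : ZMod 13) ^ 6 ≠ 1 := by decide
theorem dec2 : ((8 : ℕ) : ZMod 13) ^ 6 ≠ 1 := by decide
theorem dec3 : ((4 : ℕ) : ZMod 11) ^ 6 ≠ - ((4 : ℕ) : ZMod 11) := by decide

section Core

variable {F : Type*} [Field F] [Fintype F] [CharP F 2]
  {K : Type*} [Field K] [Fintype K] (ρ : SpecialLinearGroup (Fin 2) K →* GL (Fin 12) F)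

theorem u_pow (x : K) (j : ℕ) : (u x) ^ j = u ((j : K) * x) := by
  induction j with
  | zero => rw [pow_zero, Nat.cast_zero, zero_mul, u_zero]
  | succ j ih => rw [pow_succ, ih, ← u_add]; congr 1; push_cast; ring

theorem u_fix (hr : (Fintype.card K).Prime) {v : Fin 12 → F}
    (hv : (ρ (u 1) : Matrix (Fin 12) (Fin 12) F) *ᵥ v = v) (x : K) :
    (ρ (u x) : Matrix (Fin 12) (Fin 12) F) *ᵥ v = v := by
  have := Fact.mk hr
  obtain ⟨m, hm⟩ : ∃ m : ZMod (Fintype.card K), (ZMod.ringEquivOfPrime K hr rfl) m = x :=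
    (ZMod.ringEquivOfPrime K hr rfl).surjective _
  have h1 : u x = (u 1) ^ m.val := by
    rw [u_pow, mul_one]
    congr 1
    rw [← hm]
    conv_lhs => rw [← ZMod.natCast_zmod_val m]
    rw [map_natCast]
  rw [h1, map_pow]
  have h2 : ∀ j : ℕ, (((ρ (u 1)) ^ j : GL (Fin 12) F) : Matrix (Fin 12) (Fin 12) F) *ᵥ v = v := by
    intro j
    induction j with
    | zero => simp
    | succ j ih => rw [pow_succ, Units.val_mul, ← Matrix.mulVec_mulVec, hv, ih]
  exact h2 _

theorem E0_fix (hr : (Fintype.card K).Prime) (hK : (Fintype.card K : F) ≠ 0) {v : Fin 12 → F}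
    (hv : (ρ (u 1) : Matrix (Fin 12) (Fin 12) F) *ᵥ v = v) : E0 ρ *ᵥ v = v := by
  unfold E0
  rw [Matrix.smul_mulVec, Matrix.sum_mulVec, Finset.sum_congr rfl fun x _ => u_fix ρ hr hv x, Finset.sum_const,
    Finset.card_univ, ← Nat.cast_smul_eq_nsmul F, smul_smul, inv_mul_cancel₀ hK, one_smul]

theorem u_E0 (x : K) : (ρ (u x) : Matrix (Fin 12) (Fin 12) F) * E0 ρ = E0 ρ := by
  unfold E0
  rw [mul_smul_comm, Finset.mul_sum]
  congr 1
  rw [← Equiv.sum_comp (Equiv.addLeft x) fun y : K => (ρ (u y) : Matrix (Fin 12) (Fin 12) F)]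
  refine Finset.sum_congr rfl fun y _ => ?_
  rw [Equiv.coe_addLeft, u_add, map_mul, Units.val_mul]

theorem t_E0 (a : Kˣ) : (ρ (t a) : Matrix (Fin 12) (Fin 12) F) * E0 ρ = E0 ρ * (ρ (t a) : Matrix (Fin 12) (Fin 12) F) := by
  unfold E0
  rw [mul_smul_comm, Finset.mul_sum, smul_mul_assoc, Finset.sum_mul]
  congr 1
  have ha : (a : K) ^ 2 ≠ 0 := pow_ne_zero 2 a.ne_zero
  rw [← Equiv.sum_comp (Equiv.mulLeft₀ ((a : K) ^ 2) ha)
    fun y : K => (ρ (u y) : Matrix (Fin 12) (Fin 12) F) * (ρ (t a) : Matrix (Fin 12) (Fin 12) F)]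
  refine Finset.sum_congr rfl fun y _ => ?_
  rw [Equiv.mulLeft₀_apply, ← Units.val_mul, ← map_mul, t_mul_u, map_mul, Units.val_mul]

theorem u_pow_card : (ρ (u 1)) ^ Fintype.card K = 1 := by
  rw [← map_pow, u_pow, mul_one]
  have : (Fintype.card K : K) = 0 := Nat.cast_card_eq_zero K
  rw [this, u_zero, map_one]

/-- **`PSL₂(13)`, degree 12, characteristic 2**. -/
theorem not_plus_thirteen (hρ : ρ ≠ 1)
    (hspan : Submodule.span F (Set.range fun g => (ρ g : Matrix (Fin 12) (Fin 12) F)) = ⊤)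
    (hK : Fintype.card K = 13) (hF : Fintype.card F = 2 ∨ Fintype.card F = 8)
    {Q : (Fin 12 → F) → F} (hQ : IsNondegenerateQuadraticForm Q)
    (hfix : ∀ g v, Q ((ρ g : Matrix (Fin 12) (Fin 12) F) *ᵥ v) = Q v) : ¬ IsPlusTypeOn Q ⊤ := by
  classical
  intro hplus
  have hr : (Fintype.card K).Prime := by rw [hK]; norm_num
  have hKF : (Fintype.card K : F) ≠ 0 := by
    rw [hK]
    intro h
    rw [CharP.cast_eq_zero_iff F 2] at h
    omega
  let k := AlgebraicClosure F
  have hKk : (Fintype.card K : k) ≠ 0 := by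
    intro h
    apply hKF
    apply (algebraMap F k).injective
    rw [map_natCast, map_zero]
    exact h
  obtain ⟨ψ, hψ⟩ := exists_prim hKk
  have hR : ext ρ k ≠ 1 := ext_ne_one ρ k hρ
  have hs := span_ext ρ k hspan
  have hfr : finrank k (Fin 12 → k) = 12 := by rw [finrank_fintype_fun_eq_card, Fintype.card_fin]
  have hdim := dim_cases (ext ρ k) hψ hKk hs hR
  rw [hfr] at hdim
  have h1 : ∀ b : K, b ≠ 0 → finrank k (LinearMap.range (E (ext ρ k) ψ b)) = 1 := by
    rcases hdim with h | h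
    · exact h.1
    · omega
  have h0 : finrank k (LinearMap.range (E (ext ρ k) ψ 0)) = 0 := by
    have h4 := finrank_eq (ext ρ k) hψ hKk
    rw [hfr, Finset.sum_congr rfl fun b hb => h1 b (Finset.ne_of_mem_erase hb), Finset.sum_const,
      Finset.card_erase_of_mem (Finset.mem_univ _), Finset.card_univ, smul_eq_mul, mul_one] at h4
    omega
  have hE0 : E0 ρ = 0 := by
    rw [Submodule.finrank_eq_zero, LinearMap.range_eq_bot, ← E0_ext ρ ψ] at h0
    have h2 : (E0 ρ).map (algebraMap F k) = 0 := by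
      apply Matrix.toLin'.injective
      rw [h0, map_zero]
    ext i j
    apply (algebraMap F k).injective
    have h3 := congrFun (congrFun h2 i) j
    rw [Matrix.map_apply] at h3
    rw [h3]
    simp
  have hfr13 : Fact (Nat.Prime 13) := ⟨by norm_num⟩
  have h4 := pow_eq_one_of_free (r := 13) (by norm_num) hQ hplus (m := 6) (by simp) (g := ρ (u 1))
    (by have := u_pow_card ρ; rwa [hK] at this) (hfix _) (by
      intro v hv
      have h5 := E0_fix ρ hr hKF hv
      rw [hE0, Matrix.zero_mulVec] at h5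
      exact h5.symm)
  rcases hF with h | h <;> rw [h] at h4
  · exact dec1 h4
  · exact dec2 h4

/-- **`PSL₂(11)`, degree 12, characteristic 2**. -/
theorem not_plus_eleven (hρ : ρ ≠ 1)
    (hspan : Submodule.span F (Set.range fun g => (ρ g : Matrix (Fin 12) (Fin 12) F)) = ⊤)
    (hK : Fintype.card K = 11) (hF : Fintype.card F = 4)
    {Q : (Fin 12 → F) → F} (hQ : IsNondegenerateQuadraticForm Q)
    (hfix : ∀ g v, Q ((ρ g : Matrix (Fin 12) (Fin 12) F) *ᵥ v) = Q v) : ¬ IsPlusTypeOn Q ⊤ := by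
  classical
  intro hplus
  have hr : (Fintype.card K).Prime := by rw [hK]; norm_num
  have hKF : (Fintype.card K : F) ≠ 0 := by
    rw [hK]
    intro h
    rw [CharP.cast_eq_zero_iff F 2] at h
    omega
  obtain ⟨c, hc1, hcmul, ⟨a, ha⟩, hD, hrank⟩ := plus_data ρ hρ hspan hr (by rw [hK]; decide) hKF (by rw [hK])
  have hc10 : c a ^ 10 = 1 := by
    have := c_pow_card hc1 hcmul a
    rwa [hK] at this
  have hca0 : c a ≠ 0 := by
    intro h
    rw [h, zero_pow (by norm_num)] at hc10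
    exact zero_ne_one hc10
  -- the fixed space
  let W : Submodule F (Fin 12 → F) := LinearMap.range (Matrix.toLin' (E0 ρ))
  have hWd : finrank F W = 2 := hrank
  have hWfix : ∀ v, v ∈ W ↔ (ρ (u 1) : Matrix (Fin 12) (Fin 12) F) *ᵥ v = v := by
    intro v
    constructor
    · rintro ⟨y, rfl⟩
      rw [Matrix.toLin'_apply, Matrix.mulVec_mulVec, u_E0]
    · intro h
      exact ⟨v, by rw [Matrix.toLin'_apply, E0_fix ρ hr hKF h]⟩
  have hWE : ∀ v ∈ W, E0 ρ *ᵥ v = v := fun v hv => E0_fix ρ hr hKF ((hWfix v).1 hv)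
  have hB := hQ.polar_bilinear
  -- fixed vectors of `t (a ^ j)` in `W`
  have hfree : ∀ b : Kˣ, c b ^ 2 ≠ 1 → ∀ w ∈ W, (ρ (t b) : Matrix (Fin 12) (Fin 12) F) *ᵥ w = w → w = 0 := by
    intro b hb w hw hbw
    have hb0 : c b ≠ 0 := by
      have h := c_pow_card hc1 hcmul b
      intro h0
      rw [hK, h0, zero_pow (by norm_num)] at h
      exact zero_ne_one h
    have hDne : (Dm ρ b).det ≠ 0 := by
      intro h
      have h6 := hD b
      rw [h, map_zero] at h6
      rcases mul_eq_zero.1 h6.symm with h5 | h5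
      · apply hKF
        apply (algebraMap F (AlgebraicClosure F)).injective
        rw [map_natCast, map_zero]
        exact neg_eq_zero.1 h5
      · apply hb
        have h7 := sub_eq_zero.1 (pow_eq_zero_iff two_ne_zero |>.1 h5)
        rw [sq]
        nth_rewrite 2 [h7]
        exact mul_inv_cancel₀ hb0
    have hbw' : (ρ (t b⁻¹) : Matrix (Fin 12) (Fin 12) F) *ᵥ w = w := by
      conv_lhs => rw [← hbw]
      rw [Matrix.mulVec_mulVec, ← Units.val_mul, ← map_mul, ← t_mul, inv_mul_cancel, t_one, map_one, Units.val_one,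
        Matrix.one_mulVec]
    have h7 : Dm ρ b *ᵥ w = 0 := by
      unfold Dm
      rw [Matrix.add_mulVec, Matrix.sub_mulVec, u_fix ρ hr ((hWfix w).1 hw), u_fix ρ hr ((hWfix w).1 hw), sub_self,
        zero_add, ← Matrix.mulVec_mulVec, hWE w hw, ← Matrix.mulVec_mulVec, Matrix.sub_mulVec, hbw, hbw', sub_self,
        Matrix.mulVec_zero]
    by_contra hw0
    exact hDne (Matrix.exists_mulVec_eq_zero_iff.1 ⟨w, hw0, h7⟩)
  -- the isometry of order five
  let T : Module.End F (Fin 12 → F) := Matrix.toLin' (ρ (t (a ^ 2)) : Matrix (Fin 12) (Fin 12) F)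
  have hT : ∀ v, T v = (ρ (t (a ^ 2)) : Matrix (Fin 12) (Fin 12) F) *ᵥ v := fun v => Matrix.toLin'_apply _ _
  have ha10 : a ^ 10 = 1 := by
    have := pow_card_eq_one (x := a)
    rwa [Fintype.card_units, hK] at this
  have hF3 : ∀ μ : F, μ ≠ 0 → μ ^ 3 = 1 := by
    intro μ hμ
    have := FiniteField.pow_card_sub_one_eq_one μ hμ
    rwa [hF] at this
  -- eigenvectors of `T`
  have hTeig : ∀ w ∈ W, ∀ μ : F, T w = μ • w → w = 0 := by
    intro w hw μ hμ
    by_contra hw0
    have hTpow : ∀ j : ℕ, (ρ (t (a ^ (2 * j))) : Matrix (Fin 12) (Fin 12) F) *ᵥ w = μ ^ j • w := by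
      intro j
      induction j with
      | zero => rw [mul_zero, pow_zero, t_one, map_one, Units.val_one, Matrix.one_mulVec, pow_zero, one_smul]
      | succ j ih =>
        have h8 : a ^ (2 * (j + 1)) = a ^ (2 * j) * a ^ 2 := by rw [mul_add, mul_one, pow_add]
        rw [h8, t_mul, map_mul, Units.val_mul, ← Matrix.mulVec_mulVec, ← hT, hμ, Matrix.mulVec_smul, ih, smul_smul,
          pow_succ, mul_comm]
    have h5 := hTpow 5
    rw [ha10, t_one, map_one, Units.val_one, Matrix.one_mulVec] at h5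
    have h6 : (μ ^ 5 - 1) • w = 0 := by rw [sub_smul, one_smul, ← h5, sub_self]
    have h7 : μ ^ 5 = 1 := sub_eq_zero.1 ((smul_eq_zero.1 h6).resolve_right hw0)
    have hμ0 : μ ≠ 0 := by
      rintro rfl
      rw [zero_pow (by norm_num)] at h7
      exact zero_ne_one h7
    have h8 := hF3 μ hμ0
    have h9 : μ = 1 := by
      have h10 : μ * μ ^ 5 = (μ ^ 3) ^ 2 := by ring
      rwa [h7, h8, mul_one, one_pow] at h10
    rw [h9, one_smul, hT] at hμ
    apply hw0
    refine hfree (a ^ 2) ?_ w hw hμ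
    intro h10
    apply ha
    have h11 : c a ^ 4 = 1 := by
      rw [c_pow hc1 hcmul] at h10
      rw [← h10]; ring
    have h12 : c a ^ 2 * (c a ^ 4) ^ 2 = c a ^ 10 := by ring
    rwa [h11, hc10, one_pow, mul_one] at h12
  have hTW : ∀ w ∈ W, T w ∈ W := by
    rintro _ ⟨y, rfl⟩
    refine ⟨(ρ (t (a ^ 2)) : Matrix (Fin 12) (Fin 12) F) *ᵥ y, ?_⟩
    rw [hT, Matrix.toLin'_apply, Matrix.toLin'_apply, Matrix.mulVec_mulVec, Matrix.mulVec_mulVec, t_E0]
  have h2F : (2 : F) = 0 := CharTwo.two_eq_zero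
  have hchar : ∀ w : Fin 12 → F, QuadraticMap.polar Q w w = 2 * Q w := by
    intro w
    have h5 : w + w = (2 : F) • w := by rw [two_smul]
    unfold QuadraticMap.polar
    rw [h5, hQ.smul]
    ring
  have han := aniso_of_isometry hQ hWd (T := T) (fun v => by rw [hT]; exact hfix _ _) hTW hTeig ?_ ?_ hchar
  · have hfr11 : Fact (Nat.Prime 11) := ⟨by norm_num⟩
    have h4 := pow_eq_neg_of_aniso (r := 11) (by norm_num) hQ hplus (m := 6) (by simp) (g := ρ (u 1))
      (by have := u_pow_card ρ; rwa [hK] at this) (hfix _) hWfix hWd han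
    rw [hF] at h4
    exact dec3 h4
  · -- eigenvectors of `T²`
    intro w hw μ hμ
    have h5 : T w = μ ^ 3 • w := by
      have h6 : T (T (T (T (T (T w))))) = μ ^ 3 • w := by
        rw [hμ]
        simp only [map_smul, hμ, smul_smul]
        congr 1
        ring
      have h7 : T (T (T (T (T w)))) = w := by
        simp only [hT, Matrix.mulVec_mulVec, ← Units.val_mul, ← map_mul, ← t_mul]
        rw [show a ^ 2 * (a ^ 2 * (a ^ 2 * (a ^ 2 * a ^ 2))) = a ^ 10 by simp only [← pow_add], ha10, t_one, map_one,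
          Units.val_one, Matrix.one_mulVec]
      rw [h7] at h6
      exact h6
    exact hTeig w hw _ h5
  · -- nondegenerate on `W`
    intro w hw h5
    by_contra hw0
    obtain ⟨v, hv⟩ := (hQ.nondegenerate w hw0).2
    apply hv
    have h6 := adj_E0 ρ hQ hfix w v
    rw [hWE w hw] at h6
    rw [← h6]
    exact h5 _ ⟨v, Matrix.toLin'_apply _ _⟩

end Core

end Cfsg.Agent.H114.Ty
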