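import Cfsg.Agent.H114.TyL2
import Cfsg.Agent.ClassicalGeometry.OrthDickson
import Cfsg.Agent.H925.OrthBasic

/-!
# `SL₂(q)`, `q ≡ 1 (mod 4)`, degree `(q - 1) / 2`: no quadratic form in characteristic two (helper114)

* `even_rank` : a perfect group of isometries consists of elements with `rank (g - 1)` even;
* `no_quad` : `ρ : SL₂(K) → GL_n(F)` irreducible, `2 n + 1 = |K|`, `n` even, `ρ (-1) = 1` (e.g. `char F = 2`) ⟹ no
  invariant non-degenerate quadratic form.
-/

set_option autoImplicit false
set_option linter.unusedSectionVars false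

namespace Cfsg.Agent.H114.Ty

open Matrix Module Cfsg Cfsg.Geo Cfsg.Agent.H464.Sl2 Cfsg.Agent.H915.LD
open Cfsg.Agent.ClassicalGeometry.OrthDickson

section Even

variable {ι : Type} [Fintype ι] [DecidableEq ι] {F : Type*} [Field F] {P : Subgroup (GL ι F)}

theorem fix_dim_add_rank (M : Matrix ι ι F) :
    (M - 1).rank + finrank F (LinearMap.ker (Matrix.toLin' (M - 1))) = Fintype.card ι := by
  have h1 := LinearMap.finrank_range_add_finrank_ker (Matrix.toLin' (M - 1))
  rw [finrank_fintype_fun_eq_card] at h1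
  exact h1

/-- **A perfect group of isometries consists of elements with `rank (g - 1)` even.** -/
theorem even_rank (hP : commutator P = ⊤) {Q : (ι → F) → F} (hQ : IsNondegenerateQuadraticForm Q)
    (hfix : ∀ g ∈ P, ∀ v, Q ((g : Matrix ι ι F) *ᵥ v) = Q v) (h4 : Fintype.card ι ≠ 4) {g : GL ι F} (hg : g ∈ P) :
    Even ((g : Matrix ι ι F) - 1).rank := by
  have hnd : (QuadraticMap.polarBilin (H925.qf hQ)).Nondegenerate := by
    refine ⟨fun x hx => ?_, fun x hx => ?_⟩
    · by_contra h
      obtain ⟨y, hy⟩ := (hQ.nondegenerate x h).2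
      exact hy (hx y)
    · by_contra h
      obtain ⟨y, hy⟩ := (hQ.nondegenerate x h).1
      exact hy (hx y)
  have hle : P ≤ isometryGroup F (⇑(H925.qf hQ)) := fun g hg v _ => hfix g hg v
  let φ : P →* ℤˣ := (dsignHom (H925.qf hQ) hnd (Or.inr h4)).comp (Subgroup.inclusion hle)
  have h1 : φ ⟨g, hg⟩ = 1 := by
    have h2 : (⟨g, hg⟩ : P) ∈ commutator P := by rw [hP]; trivial
    exact Abelianization.commutator_subset_ker φ h2
  have h2 : φ ⟨g, hg⟩ = dsign (H925.qf hQ) ⟨g, hle hg⟩ := rfl
  rw [h2, dsign_def] at h1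
  have h3 := fix_dim_add_rank (g : Matrix ι ι F)
  have h5 : LinearMap.ker (Matrix.toLin' ((g : Matrix ι ι F) - 1)) =
      Cfsg.Agent.ClassicalGeometry.OrthCharTwo.fixSp (⟨g, hle hg⟩ : isometryGroup F (⇑(H925.qf hQ))) := by
    ext x
    rw [LinearMap.mem_ker, Matrix.toLin'_apply, Matrix.sub_mulVec, Matrix.one_mulVec, sub_eq_zero]
    rfl
  rw [h5] at h3
  rw [← h3] at h1
  by_contra hodd
  rw [Nat.not_even_iff_odd] at hodd
  obtain ⟨m, hm⟩ := hodd
  have h6 : Odd (finrank F (Cfsg.Agent.ClassicalGeometry.OrthCharTwo.fixSp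
      (⟨g, hle hg⟩ : isometryGroup F (⇑(H925.qf hQ)))) + (((g : Matrix ι ι F) - 1).rank +
      finrank F (Cfsg.Agent.ClassicalGeometry.OrthCharTwo.fixSp (⟨g, hle hg⟩ : isometryGroup F (⇑(H925.qf hQ)))))) := by
    rw [hm]
    exact ⟨m + finrank F (Cfsg.Agent.ClassicalGeometry.OrthCharTwo.fixSp
      (⟨g, hle hg⟩ : isometryGroup F (⇑(H925.qf hQ)))), by ring⟩
  rw [h6.neg_one_pow] at h1
  exact absurd h1 (by decide)

end Even

section Weil

variable {n : ℕ} {F : Type*} [Field F] [Finite F] {K : Type*} [Field K] [Fintype K]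
  (ρ : SpecialLinearGroup (Fin 2) K →* GL (Fin n) F)

/-- the fixed space of a torus generator is one-dimensional -/
theorem finrank_fix (hρ : ρ ≠ 1) (hspan : Submodule.span F (Set.range fun g => (ρ g : Matrix (Fin n) (Fin n) F)) = ⊤)
    (hodd : Odd (Fintype.card K)) (hK : (Fintype.card K : F) ≠ 0) (hn : 2 * n + 1 = Fintype.card K)
    (hn1 : 1 < n) (hz : ρ (t (-1)) = 1) {a : Kˣ} (ha : orderOf a = Fintype.card K - 1) :
    ((ρ (t a) : Matrix (Fin n) (Fin n) F) - 1).rank + 1 = n := by
  classical
  let k := AlgebraicClosure F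
  have hKk : (Fintype.card K : k) ≠ 0 := by
    intro h
    apply hK
    apply (algebraMap F k).injective
    rw [map_natCast, map_zero]
    exact h
  obtain ⟨ψ, hψ⟩ := exists_prim hKk
  have hR : ext ρ k ≠ 1 := ext_ne_one ρ k hρ
  have hs := span_ext ρ k hspan
  have hfr : finrank k (Fin n → k) = n := by rw [finrank_fintype_fun_eq_card, Fintype.card_fin]
  set R := ext ρ k with hRdef
  -- a weight
  obtain ⟨b₀, hb₀, hb₀'⟩ := exists_E_ne R hψ hKk hR
  have hone : finrank k (LinearMap.range (E R ψ b₀)) = 1 := by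
    have := finrank_E_le_one R hψ hKk hs hb₀
    omega
  -- the orbit weights
  have horb : ∀ x : Kˣ, finrank k (LinearMap.range (E R ψ ((x : K) ^ 2 * b₀))) = 1 := by
    intro x
    rw [finrank_E_mul_sq R, hone]
  -- the number of orbit weights is n
  have hcardsq : (Finset.univ.image fun x : Kˣ => ((x : K) ^ 2 * b₀)).card = n := by
    have h1 : 2 * (Finset.univ.image fun x : Kˣ => ((x : K) ^ 2 * b₀)).card = Fintype.card Kˣ := by
      have h2 : ∀ y ∈ Finset.univ.image (fun x : Kˣ => ((x : K) ^ 2 * b₀)),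
          (Finset.univ.filter fun x : Kˣ => ((x : K) ^ 2 * b₀) = y).card = 2 := by
        intro y hy
        obtain ⟨x, -, rfl⟩ := Finset.mem_image.1 hy
        have h3 : (Finset.univ.filter fun z : Kˣ => ((z : K) ^ 2 * b₀) = (x : K) ^ 2 * b₀) = {x, -x} := by
          ext z
          rw [Finset.mem_filter, Finset.mem_insert, Finset.mem_singleton]
          constructor
          · rintro ⟨-, h⟩
            have h4 := mul_right_cancel₀ hb₀ h
            rcases sq_eq_sq_iff_eq_or_eq_neg.1 h4 with h5 | h5
            · exact Or.inl (Units.ext h5)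
            · exact Or.inr (Units.ext (by rw [h5]; rfl))
          · rintro (rfl | rfl)
            · exact ⟨Finset.mem_univ _, rfl⟩
            · refine ⟨Finset.mem_univ _, ?_⟩
              rw [Units.val_neg, neg_sq]
        rw [h3, Finset.card_pair]
        intro h4
        have h5 : (x : K) = -(x : K) := by
          have := congrArg Units.val h4
          rwa [Units.val_neg] at this
        have h6 : (2 : K) * x = 0 := by linear_combination h5
        have h7 : (2 : K) = 0 := (mul_eq_zero.1 h6).resolve_right x.ne_zero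
        have h8 : ringChar K = 2 := CharP.ringChar_of_prime_eq_zero Nat.prime_two (by exact_mod_cast h7)
        have h9 := FiniteField.even_card_iff_char_two.1 h8
        rcases hodd with ⟨m, hm⟩
        omega
      rw [← Finset.card_univ, Finset.card_eq_sum_card_image (fun x : Kˣ => ((x : K) ^ 2 * b₀)) Finset.univ,
        Finset.sum_congr rfl h2, Finset.sum_const, smul_eq_mul, mul_comm]
    rw [Fintype.card_units] at h1
    omega
  -- all other weights vanish
  have hzero : ∀ b : K, (∀ x : Kˣ, b ≠ (x : K) ^ 2 * b₀) → E R ψ b = 0 := by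
    intro b hb
    have h1 := finrank_eq_sum R hψ hKk
    rw [hfr] at h1
    have h2 : ∑ c ∈ Finset.univ.image (fun x : Kˣ => ((x : K) ^ 2 * b₀)), finrank k (LinearMap.range (E R ψ c)) = n := by
      rw [Finset.sum_congr rfl (g := fun _ => 1), Finset.sum_const, smul_eq_mul, mul_one, hcardsq]
      intro c hc
      obtain ⟨x, -, rfl⟩ := Finset.mem_image.1 hc
      exact horb x
    have h3 : b ∉ Finset.univ.image (fun x : Kˣ => ((x : K) ^ 2 * b₀)) := by
      intro h
      obtain ⟨x, -, hx⟩ := Finset.mem_image.1 h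
      exact hb x hx.symm
    have h4 : ∑ c ∈ insert b (Finset.univ.image (fun x : Kˣ => ((x : K) ^ 2 * b₀))),
        finrank k (LinearMap.range (E R ψ c)) ≤ ∑ c : K, finrank k (LinearMap.range (E R ψ c)) :=
      Finset.sum_le_sum_of_subset (Finset.subset_univ _)
    rw [Finset.sum_insert h3, h2, ← h1] at h4
    have h5 : finrank k (LinearMap.range (E R ψ b)) = 0 := by omega
    rwa [Submodule.finrank_eq_zero, LinearMap.range_eq_bot] at h5
  -- the fixed space over `k`
  have hrank : ((ρ (t a) : Matrix (Fin n) (Fin n) F) - 1).rank =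
      finrank k (LinearMap.range (R (t a) - 1)) := by
    rw [← H593.RobinsonRank.rank_map (algebraMap F k), Matrix.rank]
    have h1 : Matrix.mulVecLin (((ρ (t a) : Matrix (Fin n) (Fin n) F) - 1).map (algebraMap F k)) = R (t a) - 1 := by
      rw [hRdef, ext_apply]
      have h2 : ((ρ (t a) : Matrix (Fin n) (Fin n) F) - 1).map (algebraMap F k) =
          (ρ (t a) : Matrix (Fin n) (Fin n) F).map (algebraMap F k) - 1 := by
        rw [Matrix.map_sub _ (map_sub _), Matrix.map_one _ (map_zero _) (map_one _)]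
      rw [h2]
      change Matrix.toLin' _ = _
      rw [map_sub, Matrix.toLin'_one]
      rfl
    rw [h1]
  have hker : finrank k (LinearMap.ker (R (t a) - 1)) = 1 := by
    have hmem : ∀ v : Fin n → k, v ∈ LinearMap.ker (R (t a) - 1) ↔ R (t a) v = v := by
      intro v
      rw [LinearMap.mem_ker, LinearMap.sub_apply, Module.End.one_apply, sub_eq_zero]
    have hpow : ∀ (j : ℕ), t (a ^ j) = (t a) ^ j := fun j => map_pow tHom a j
    have hpowfix : ∀ v : Fin n → k, R (t a) v = v → ∀ j : ℕ, R (t (a ^ j)) v = v := by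
      intro v hv j
      rw [hpow, map_pow]
      induction j with
      | zero => simp
      | succ j ih => rw [pow_succ, Module.End.mul_apply, hv, ih]
    -- the map to the weight space
    let f : LinearMap.ker (R (t a) - 1) →ₗ[k] LinearMap.range (E R ψ b₀) :=
      (LinearMap.rangeRestrict (E R ψ b₀)).comp (Submodule.subtype _)
    have hf : ∀ v, (f v : Fin n → k) = E R ψ b₀ v := fun v => rfl
    have hgen : ∀ x : Kˣ, ∃ j : ℕ, x = a ^ j := by
      intro x
      have h1 : x ∈ Subgroup.zpowers a := by
        have h2 : Subgroup.zpowers a = ⊤ := by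
          rw [← Subgroup.card_eq_iff_eq_top, Nat.card_zpowers, ha, Nat.card_eq_fintype_card, Fintype.card_units]
        rw [h2]; trivial
      rw [← mem_powers_iff_mem_zpowers] at h1
      obtain ⟨j, hj⟩ := h1
      exact ⟨j, hj.symm⟩
    have hinj : Function.Injective f := by
      rw [← LinearMap.ker_eq_bot, LinearMap.ker_eq_bot']
      rintro ⟨v, hv⟩ h1
      have h2 : E R ψ b₀ v = 0 := congrArg Subtype.val h1
      have hfix := (hmem v).1 hv
      have h3 : ∀ b, E R ψ b v = 0 := by
        intro b
        by_cases hb : ∃ x : Kˣ, b = (x : K) ^ 2 * b₀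
        · obtain ⟨x, rfl⟩ := hb
          obtain ⟨j, hj⟩ := hgen x⁻¹
          have h4 := congrArg (fun g : Module.End k (Fin n → k) => g v) (t_mul_E R ψ x⁻¹ b₀)
          simp only [Module.End.mul_apply] at h4
          rw [h2, map_zero, hj, hpowfix v hfix, ← hj] at h4
          have h5 : b₀ / ((x⁻¹ : Kˣ) : K) ^ 2 = (x : K) ^ 2 * b₀ := by
            rw [Units.val_inv_eq_inv_val]
            have := x.ne_zero
            field_simp
          rw [h5] at h4
          exact h4.symm
        · push Not at hb
          rw [hzero b hb, LinearMap.zero_apply]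
      apply Subtype.ext
      change v = 0
      have h4 := congrArg (fun g : Module.End k (Fin n → k) => g v) (sum_E R hψ hKk)
      simp only [LinearMap.sum_apply, Module.End.one_apply] at h4
      rw [← h4]
      exact Finset.sum_eq_zero fun b _ => h3 b
    have hR1 : R (t (-1)) = 1 := by
      rw [hRdef, ext_apply, hz, Units.val_one, Matrix.map_one _ (map_zero _) (map_one _), Matrix.toLin'_one]
      rfl
    have han : a ^ n = -1 := by
      have h1 : (a ^ n) ^ 2 = 1 := by
        rw [← pow_mul, mul_comm, show 2 * n = orderOf a by rw [ha]; omega, pow_orderOf_eq_one]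
      have h2 : a ^ n ≠ 1 := by
        intro h
        have := orderOf_dvd_of_pow_eq_one h
        rw [ha] at this
        have := Nat.le_of_dvd (by omega) this
        omega
      have h3 : ((a ^ n : Kˣ) : K) ^ 2 = 1 := by
        rw [← Units.val_pow_eq_pow_val, h1, Units.val_one]
      rcases (mul_self_eq_one_iff.1 (by rw [← sq]; exact h3) : ((a ^ n : Kˣ) : K) = 1 ∨ ((a ^ n : Kˣ) : K) = -1) with h4 | h4
      · exact absurd (Units.ext h4) h2
      · exact Units.ext (by rw [h4]; rfl)
    have hsurj : Function.Surjective f := by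
      rintro ⟨e, he⟩
      have hee : E R ψ b₀ e = e := E_apply_self R hψ hKk ⟨e, he⟩
      let v : Fin n → k := ∑ i ∈ Finset.range n, R (t (a ^ i)) e
      have hv : R (t a) v = v := by
        change R (t a) (∑ i ∈ Finset.range n, R (t (a ^ i)) e) = _
        rw [map_sum]
        have h1 : ∀ i ∈ Finset.range n, R (t a) (R (t (a ^ i)) e) = R (t (a ^ (i + 1))) e := by
          intro i _
          rw [← Module.End.mul_apply, ← map_mul, ← t_mul, pow_succ']
        rw [Finset.sum_congr rfl h1]
        have h2 := Finset.sum_range_succ (fun i => R (t (a ^ i)) e) n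
        have h3 := Finset.sum_range_succ' (fun i => R (t (a ^ i)) e) n
        rw [h2] at h3
        rw [han, hR1, Module.End.one_apply, pow_zero, t_one, map_one, Module.End.one_apply] at h3
        exact (add_right_cancel h3).symm
      refine ⟨⟨v, (hmem v).2 hv⟩, Subtype.ext ?_⟩
      rw [hf]
      change E R ψ b₀ (∑ i ∈ Finset.range n, R (t (a ^ i)) e) = e
      rw [map_sum, Finset.sum_eq_single 0]
      · rw [pow_zero, t_one, map_one, Module.End.one_apply, hee]
      · intro i hi hi0
        have h1 := congrArg (fun g : Module.End k (Fin n → k) => g e) (t_mul_E R ψ (a ^ i) (((a ^ i : Kˣ) : K) ^ 2 * b₀))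
        simp only [Module.End.mul_apply] at h1
        have h2 : (((a ^ i : Kˣ) : K) ^ 2 * b₀) / ((a ^ i : Kˣ) : K) ^ 2 = b₀ := by
          have := (a ^ i).ne_zero
          field_simp
        rw [h2] at h1
        rw [← h1]
        have h3 : ((a ^ i : Kˣ) : K) ^ 2 * b₀ ≠ b₀ := by
          intro h
          have h4 : ((a ^ i : Kˣ) : K) ^ 2 = 1 := mul_right_cancel₀ hb₀ (by rw [h, one_mul])
          have h5 : a ^ (i * 2) = 1 := by
            apply Units.ext
            rw [pow_mul, Units.val_pow_eq_pow_val, h4, Units.val_one]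
          have h6 := orderOf_dvd_of_pow_eq_one h5
          rw [ha] at h6
          have h7 := Nat.le_of_dvd (by omega) h6
          rw [Finset.mem_range] at hi
          omega
        rw [E_apply_ne R hψ hKk h3 ⟨e, he⟩, map_zero]
      · intro h
        exfalso
        apply h
        rw [Finset.mem_range]
        omega
    rw [(LinearEquiv.ofBijective f ⟨hinj, hsurj⟩).finrank_eq, hone]
  have h1 := LinearMap.finrank_range_add_finrank_ker (R (t a) - 1)
  rw [hker, hfr] at h1
  rw [hrank, h1]

/-- **No invariant quadratic form.** -/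
theorem no_quad {P : Subgroup (GL (Fin n) F)} (hC : Core P) (hρP : ρ.range = P) (hρ : ρ ≠ 1)
    (hspan : Submodule.span F (Set.range fun g => (ρ g : Matrix (Fin n) (Fin n) F)) = ⊤)
    (hodd : Odd (Fintype.card K)) (hK : (Fintype.card K : F) ≠ 0) (hn : 2 * n + 1 = Fintype.card K)
    (heven : Even n) (hn4 : n ≠ 4) (hn0 : n ≠ 0) (hz : ρ (t (-1)) = 1) : ¬ FixQ P := by
  classical
  rintro ⟨Q, hQ, hfix⟩
  obtain ⟨a, ha⟩ := IsCyclic.exists_generator (α := Kˣ)
  have hord : orderOf a = Fintype.card K - 1 := by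
    rw [orderOf_eq_card_of_forall_mem_zpowers ha, Nat.card_eq_fintype_card, Fintype.card_units]
  have h1 := finrank_fix ρ hρ hspan hodd hK hn (by obtain ⟨m, hm⟩ := heven; omega) hz hord
  have h2 := even_rank hC.commutator_top hQ (fun g hg v => hfix _ ⟨g, hg, rfl⟩ v)
    (by rw [Fintype.card_fin]; exact hn4) (g := ρ (t a)) (by rw [← hρP]; exact ⟨_, rfl⟩)
  rw [← h1] at heven
  obtain ⟨x, hx⟩ := h2
  obtain ⟨y, hy⟩ := heven
  omega

end Weil

end Cfsg.Agent.H114.Ty
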