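import Cfsg.Agent.H114.RtTrace

/-!
# Elements of order 3 in `SL₂(q)`, `q = 1 mod 3` (helper114)
-/

set_option autoImplicit false
set_option linter.unusedSectionVars false

namespace Cfsg.Agent.H114.Rt

open Matrix Module Cfsg.Agent.H464.Sl2

variable {K : Type*} [Field K]

theorem eq_t_of_off {g : SpecialLinearGroup (Fin 2) K} (h10 : g.1 1 0 = 0) (h01 : g.1 0 1 = 0) :
    ∃ a : Kˣ, g = t a := by
  have hdet : g.1 0 0 * g.1 1 1 - g.1 0 1 * g.1 1 0 = 1 := by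
    have := g.2
    rwa [Matrix.det_fin_two] at this
  rw [h10, h01, mul_zero, sub_zero] at hdet
  refine ⟨⟨g.1 0 0, g.1 1 1, hdet, by rw [mul_comm]; exact hdet⟩, ?_⟩
  apply Subtype.ext
  ext i j
  fin_cases i <;> fin_cases j
  · rfl
  · exact h01
  · exact h10
  · rfl

theorem eq_w_of_diag {g : SpecialLinearGroup (Fin 2) K} (h00 : g.1 0 0 = 0) (h11 : g.1 1 1 = 0) :
    ∃ c : Kˣ, g = w c := by
  have hdet : g.1 0 0 * g.1 1 1 - g.1 0 1 * g.1 1 0 = 1 := by
    have := g.2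
    rwa [Matrix.det_fin_two] at this
  rw [h00, zero_mul, zero_sub] at hdet
  refine ⟨⟨g.1 1 0, -g.1 0 1, by linear_combination hdet, by linear_combination hdet⟩, ?_⟩
  apply Subtype.ext
  ext i j
  fin_cases i <;> fin_cases j
  · exact h00
  · exact (neg_neg _).symm
  · rfl
  · exact h11

theorem entries_mul_t (g : SpecialLinearGroup (Fin 2) K) (a : Kˣ) :
    (g * t a).1 = !![g.1 0 0 * a, g.1 0 1 * ((a⁻¹ : Kˣ) : K); g.1 1 0 * a, g.1 1 1 * ((a⁻¹ : Kˣ) : K)] := by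
  change g.1 * !![(a : K), 0; 0, ((a⁻¹ : Kˣ) : K)] = _
  ext i j
  fin_cases i <;> fin_cases j <;> simp [Matrix.mul_apply, Fin.sum_univ_two]

theorem entries_t_mul (g : SpecialLinearGroup (Fin 2) K) (a : Kˣ) :
    (t a * g).1 = !![(a : K) * g.1 0 0, (a : K) * g.1 0 1; ((a⁻¹ : Kˣ) : K) * g.1 1 0, ((a⁻¹ : Kˣ) : K) * g.1 1 1] := by
  change !![(a : K), 0; 0, ((a⁻¹ : Kˣ) : K)] * g.1 = _
  ext i j
  fin_cases i <;> fin_cases j <;> simp [Matrix.mul_apply, Fin.sum_univ_two]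

theorem sub_inv_ne {a : Kˣ} (ha : a ^ 2 ≠ 1) : (a : K) - ((a⁻¹ : Kˣ) : K) ≠ 0 := by
  intro h
  apply ha
  have h1 : a = a⁻¹ := Units.ext (sub_eq_zero.1 h)
  rw [sq]
  nth_rewrite 2 [h1]
  exact mul_inv_cancel a

theorem eq_t_of_comm {g : SpecialLinearGroup (Fin 2) K} {a : Kˣ} (ha : a ^ 2 ≠ 1) (h : g * t a = t a * g) :
    ∃ b : Kˣ, g = t b := by
  have h1 := congrArg Subtype.val h
  rw [entries_mul_t, entries_t_mul] at h1
  have h2 := congrFun (congrFun h1 0) 1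
  have h3 := congrFun (congrFun h1 1) 0
  have h2' : g.1 0 1 * ((a⁻¹ : Kˣ) : K) = (a : K) * g.1 0 1 := h2
  have h3' : g.1 1 0 * (a : K) = ((a⁻¹ : Kˣ) : K) * g.1 1 0 := h3
  have hne := sub_inv_ne ha
  apply eq_t_of_off
  · have h4 : g.1 1 0 * ((a : K) - ((a⁻¹ : Kˣ) : K)) = 0 := by linear_combination h3'
    exact (mul_eq_zero.1 h4).resolve_right hne
  · have h4 : g.1 0 1 * ((a : K) - ((a⁻¹ : Kˣ) : K)) = 0 := by linear_combination -h2'
    exact (mul_eq_zero.1 h4).resolve_right hne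

theorem eq_w_of_inv {g : SpecialLinearGroup (Fin 2) K} {a : Kˣ} (ha : a ^ 2 ≠ 1) (h : g * t a = t a⁻¹ * g) :
    ∃ c : Kˣ, g = w c := by
  have h1 := congrArg Subtype.val h
  rw [entries_mul_t, entries_t_mul, inv_inv] at h1
  have h2 := congrFun (congrFun h1 0) 0
  have h3 := congrFun (congrFun h1 1) 1
  have h2' : g.1 0 0 * (a : K) = ((a⁻¹ : Kˣ) : K) * g.1 0 0 := h2
  have h3' : g.1 1 1 * ((a⁻¹ : Kˣ) : K) = (a : K) * g.1 1 1 := h3
  have hne := sub_inv_ne ha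
  apply eq_w_of_diag
  · have h4 : g.1 0 0 * ((a : K) - ((a⁻¹ : Kˣ) : K)) = 0 := by linear_combination h2'
    exact (mul_eq_zero.1 h4).resolve_right hne
  · have h4 : g.1 1 1 * ((a : K) - ((a⁻¹ : Kˣ) : K)) = 0 := by linear_combination -h3'
    exact (mul_eq_zero.1 h4).resolve_right hne

theorem w_conj_t (a : Kˣ) : w 1 * t a * (w 1)⁻¹ = t a⁻¹ := by
  rw [mul_inv_eq_iff_eq_mul]
  apply Subtype.ext
  change !![0, -((1⁻¹ : Kˣ) : K); ((1 : Kˣ) : K), 0] * !![(a : K), 0; 0, ((a⁻¹ : Kˣ) : K)] =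
    !![((a⁻¹ : Kˣ) : K), 0; 0, ((a⁻¹⁻¹ : Kˣ) : K)] * !![0, -((1⁻¹ : Kˣ) : K); ((1 : Kˣ) : K), 0]
  ext i j
  fin_cases i <;> fin_cases j <;> simp [Matrix.mul_apply, Fin.sum_univ_two]

variable [Fintype K] [DecidableEq K]

/-- transitivity on the projective line -/
theorem exists_act (x : Option K) : ∃ k : SpecialLinearGroup (Fin 2) K, act k none = x := by
  rcases x with _ | x
  · exact ⟨1, act_one _⟩
  · exact ⟨u x * w 1, by rw [act_mul, act_w_none, act_u, add_zero]⟩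

theorem upper_of_fix {g : SpecialLinearGroup (Fin 2) K} (h : act g none = none) : g.1 1 0 = 0 := by
  by_contra hne
  rw [act_none, if_neg hne] at h
  exact absurd h (by simp)

/-- A split noncentral element is conjugate to a diagonal one. -/
theorem exists_conj_t (h2 : (2 : K) ≠ 0) {g : SpecialLinearGroup (Fin 2) K} {a : Kˣ} (ha : a ^ 2 ≠ 1)
    (hg : g.1 0 0 + g.1 1 1 = (a : K) + ((a⁻¹ : Kˣ) : K)) :
    ∃ k : SpecialLinearGroup (Fin 2) K, g = k * t a * k⁻¹ := by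
  have hne := sub_inv_ne ha
  have hai : (a : K) * ((a⁻¹ : Kˣ) : K) = 1 := by rw [← Units.val_mul, mul_inv_cancel, Units.val_one]
  have hd : (g.1 0 0 + g.1 1 1) ^ 2 - 4 = ((a : K) - ((a⁻¹ : Kˣ) : K)) ^ 2 := by
    rw [hg]
    linear_combination 4 * hai
  have hnc : ∀ ε : Kˣ, ε ^ 2 = 1 → g ≠ t ε := by
    rintro ε hε rfl
    have h1 : (t ε).1 0 0 + (t ε).1 1 1 = 2 * (ε : K) := by
      rw [t_val_of_sq hε]
      simp
      ring
    have hε' : (ε : K) ^ 2 = 1 := by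
      have := congrArg (fun z : Kˣ => (z : K)) hε
      simpa using this
    rw [h1] at hd
    have h3 : ((a : K) - ((a⁻¹ : Kˣ) : K)) ^ 2 = 0 := by
      rw [← hd]
      linear_combination 4 * hε'
    exact hne (pow_eq_zero_iff two_ne_zero |>.1 h3)
  have hfix : fix g = 2 := by
    rw [fix_noncentral h2 hnc, hd, nsq_sq h2 hne]
  obtain ⟨x, hx⟩ : ∃ x, act g x = x := by
    have h3 : (Finset.univ.filter fun x => act g x = x).Nonempty := by
      rw [← Finset.card_pos]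
      unfold fix at hfix
      omega
    obtain ⟨x, hx⟩ := h3
    exact ⟨x, (Finset.mem_filter.1 hx).2⟩
  obtain ⟨k, hk⟩ := exists_act x
  have h4 : act (k⁻¹ * g * k) none = none := by
    rw [act_mul, act_mul, hk, hx, ← hk, ← act_mul, inv_mul_cancel, act_one]
  have h10 := upper_of_fix h4
  set g' := k⁻¹ * g * k with hg'
  have hgg : g = k * g' * k⁻¹ := by rw [hg']; group
  have htr : g'.1 0 0 + g'.1 1 1 = (a : K) + ((a⁻¹ : Kˣ) : K) := by
    have := tr_conj k⁻¹ g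
    rw [inv_inv] at this
    rw [← hg, ← this]
  have hdet : g'.1 0 0 * g'.1 1 1 = 1 := by
    have := g'.2
    rw [Matrix.det_fin_two, h10, mul_zero, sub_zero] at this
    exact this
  -- `g'` is upper triangular with diagonal entry `a` or `a⁻¹`
  have hcase : g'.1 0 0 = (a : K) ∨ g'.1 0 0 = ((a⁻¹ : Kˣ) : K) := by
    have h5 : (g'.1 0 0 - (a : K)) * (g'.1 0 0 - ((a⁻¹ : Kˣ) : K)) = 0 := by
      linear_combination (g'.1 0 0) * htr - hdet + hai
    rcases mul_eq_zero.1 h5 with h | h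
    · exact Or.inl (sub_eq_zero.1 h)
    · exact Or.inr (sub_eq_zero.1 h)
  have key : ∀ b : Kˣ, b ^ 2 ≠ 1 → g'.1 0 0 = (b : K) → g'.1 1 1 = ((b⁻¹ : Kˣ) : K) →
      ∃ k1 : SpecialLinearGroup (Fin 2) K, g' = k1 * t b * k1⁻¹ := by
    intro b hb h00 h11
    have hneb := sub_inv_ne hb
    -- `u z t b u (-z) = [b, z (b⁻¹ - b)]`
    refine ⟨u (-(g'.1 0 1) / ((b : K) - ((b⁻¹ : Kˣ) : K))), ?_⟩
    rw [eq_mul_inv_iff_mul_eq]
    apply Subtype.ext
    set z := -(g'.1 0 1) / ((b : K) - ((b⁻¹ : Kˣ) : K)) with hz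
    have hz' : z * ((b : K) - ((b⁻¹ : Kˣ) : K)) = -(g'.1 0 1) := div_mul_cancel₀ _ hneb
    have e1 : g'.1 = !![(b : K), g'.1 0 1; 0, ((b⁻¹ : Kˣ) : K)] := by
      ext i j
      fin_cases i <;> fin_cases j
      · exact h00
      · rfl
      · exact h10
      · exact h11
    change g'.1 * !![1, z; 0, 1] = !![1, z; 0, 1] * !![(b : K), 0; 0, ((b⁻¹ : Kˣ) : K)]
    rw [e1]
    ext i j
    fin_cases i <;> fin_cases j <;> simp [Matrix.mul_apply, Fin.sum_univ_two]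
    rw [← Units.val_inv_eq_inv_val]
    linear_combination hz'
  rcases hcase with h | h
  · have h11 : g'.1 1 1 = ((a⁻¹ : Kˣ) : K) := by linear_combination htr - h
    obtain ⟨k1, hk1⟩ := key a ha h h11
    refine ⟨k * k1, ?_⟩
    rw [hgg, hk1]
    group
  · have h11 : g'.1 1 1 = ((a⁻¹⁻¹ : Kˣ) : K) := by rw [inv_inv]; linear_combination htr - h
    have ha' : (a⁻¹) ^ 2 ≠ 1 := by
      intro h
      apply ha
      rw [inv_pow, inv_eq_one] at h
      exact h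
    obtain ⟨k1, hk1⟩ := key a⁻¹ ha' h h11
    refine ⟨k * k1 * w 1, ?_⟩
    rw [hgg, hk1, ← w_conj_t]
    group

/-- Elements of order three. -/
theorem exists_conj_three (h2 : (2 : K) ≠ 0) {ζ : Kˣ} (hζ : ζ ^ 3 = 1) (hζ1 : ζ ≠ 1)
    {g : SpecialLinearGroup (Fin 2) K} (hg : g ^ 3 = 1) (hg1 : g ≠ 1) :
    ∃ k : SpecialLinearGroup (Fin 2) K, g = k * t ζ * k⁻¹ := by
  have hζ2 : ζ ^ 2 ≠ 1 := by
    intro h
    apply hζ1
    have : ζ ^ 3 = ζ ^ 2 * ζ := pow_succ ζ 2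
    rw [h, hζ, one_mul] at this
    exact this.symm
  have hsum : (ζ : K) + ((ζ⁻¹ : Kˣ) : K) = -1 := by
    have h1 : (ζ : K) ^ 3 = 1 := by
      have := congrArg (fun z : Kˣ => (z : K)) hζ
      simpa using this
    have h4 : ((ζ : K) - 1) * ((ζ : K) ^ 2 + ζ + 1) = 0 := by linear_combination h1
    have h5 : (ζ : K) ^ 2 + ζ + 1 = 0 := by
      refine (mul_eq_zero.1 h4).resolve_left ?_
      intro h
      apply hζ1
      apply Units.ext
      rw [Units.val_one]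
      exact sub_eq_zero.1 h
    have h6 := ζ.ne_zero
    rw [Units.val_inv_eq_inv_val]
    field_simp
    linear_combination h5
  have hdet : g.1 0 0 * g.1 1 1 - g.1 0 1 * g.1 1 0 = 1 := by
    have := g.2
    rwa [Matrix.det_fin_two] at this
  apply exists_conj_t h2 hζ2
  rw [hsum]
  obtain ⟨τ, hτ⟩ : ∃ τ, τ = g.1 0 0 + g.1 1 1 := ⟨_, rfl⟩
  rw [← hτ]
  -- Cayley-Hamilton
  have hsq : g.1 * g.1 = τ • g.1 - 1 := by
    ext i j
    fin_cases i <;> fin_cases j <;> simp [Matrix.mul_apply, Fin.sum_univ_two, hτ] <;>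
      first | linear_combination -hdet | ring_nf
  have hcube : g.1 * (g.1 * g.1) = 1 := by
    have := congrArg Subtype.val hg
    rw [pow_succ, pow_two] at this
    rw [← Matrix.mul_assoc]
    exact this
  have h4 : (τ ^ 2 - 1) • g.1 = (τ + 1) • (1 : Matrix (Fin 2) (Fin 2) K) := by
    rw [hsq, Matrix.mul_sub, Matrix.mul_one, Matrix.mul_smul, hsq, smul_sub, smul_smul] at hcube
    have h5 : (τ ^ 2 - 1) • g.1 = (τ * τ) • g.1 - τ • 1 - g.1 + τ • 1 := by
      rw [sub_smul, one_smul, sq]; abel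
    rw [h5, hcube, add_smul, one_smul, add_comm]
  by_contra hne
  have h5 : τ + 1 ≠ 0 := fun h => hne (by linear_combination h)
  have h6 : (τ - 1) • g.1 = (1 : Matrix (Fin 2) (Fin 2) K) := by
    have h7 : (τ + 1) • ((τ - 1) • g.1) = (τ + 1) • (1 : Matrix (Fin 2) (Fin 2) K) := by
      rw [← h4, smul_smul]
      congr 1
      ring
    exact smul_right_injective _ h5 h7
  have e00 := congrFun (congrFun h6 0) 0
  have e11 := congrFun (congrFun h6 1) 1
  have e01 := congrFun (congrFun h6 0) 1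
  have e10 := congrFun (congrFun h6 1) 0
  simp only [Matrix.smul_apply, smul_eq_mul, Matrix.one_apply_eq] at e00 e11
  simp only [Matrix.smul_apply, smul_eq_mul] at e01 e10
  rw [Matrix.one_apply_ne (by decide)] at e01 e10
  have h7 : τ - 1 ≠ 0 := by
    intro h
    rw [h, zero_mul] at e00
    exact zero_ne_one e00
  have h8 : τ * (τ - 1) = 2 := by linear_combination e00 + e11 + (τ - 1) * hτ
  -- `(τ - 2) (τ + 1) = 0`
  have h9 : (τ - 2) * (τ + 1) = 0 := by linear_combination h8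
  have h10 : τ = 2 := sub_eq_zero.1 ((mul_eq_zero.1 h9).resolve_right h5)
  apply hg1
  apply Subtype.ext
  rw [h10] at h6
  have e : (2 : K) - 1 = 1 := by norm_num
  rw [e, one_smul] at h6
  rw [h6]
  rfl

end Cfsg.Agent.H114.Rt
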