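import Cfsg.Agent.H114.RtSys
import Cfsg.Agent.H114.RtConj
import Cfsg.Agent.H882.Del.Mat

/-!
# The root system of a representation of `SL₂(q)` with character `fix - 2`, and its stabiliser (helper114)
-/

set_option autoImplicit false
set_option linter.unusedSectionVars false

namespace Cfsg.Agent.H114.Rt

open Matrix Cfsg Cfsg.Geo Cfsg.Agent.H464.Sl2 Cfsg.Agent.H882.Del
open Cfsg.Agent.LieClassical.OrthCore Cfsg.Agent.LieClassical.OrthTrans

universe u v

variable {K : Type v} [Field K] [Fintype K] [DecidableEq K] {F : Type u} [Field F] {n : ℕ}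
  (ρ : SpecialLinearGroup (Fin 2) K →* GL (Fin n) F)

/-- the vectors -/
noncomputable def vv (v0 : Fin n → F) (x : K) : Fin n → F := (ρ (u x) : Matrix (Fin n) (Fin n) F) *ᵥ v0

/-- the properties of `v₀` -/
structure Good0 (v0 : Fin n → F) : Prop where
  ne : v0 ≠ 0
  ft : ∀ a : Kˣ, (ρ (t a) : Matrix (Fin n) (Fin n) F) *ᵥ v0 = v0
  fw : ∀ c : Kˣ, (ρ (w c) : Matrix (Fin n) (Fin n) F) *ᵥ v0 = -v0
  fwu : ∀ x : K, x ≠ 0 → (ρ (w 1) : Matrix (Fin n) (Fin n) F) *ᵥ vv ρ v0 x = vv ρ v0 (-x⁻¹) - v0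

variable {ρ} {v0 : Fin n → F}

theorem mul_vec (g h : SpecialLinearGroup (Fin 2) K) (y : Fin n → F) :
    (ρ (g * h) : Matrix (Fin n) (Fin n) F) *ᵥ y = (ρ g : Matrix (Fin n) (Fin n) F) *ᵥ
      ((ρ h : Matrix (Fin n) (Fin n) F) *ᵥ y) := by
  rw [map_mul, Units.val_mul, Matrix.mulVec_mulVec]

theorem vv_zero : vv ρ v0 (0 : K) = v0 := by
  unfold vv
  rw [u_zero, map_one, Units.val_one, Matrix.one_mulVec]

theorem u_vv (y x : K) : (ρ (u y) : Matrix (Fin n) (Fin n) F) *ᵥ vv ρ v0 x = vv ρ v0 (y + x) := by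
  unfold vv
  rw [← mul_vec, ← u_add]

namespace Good0

variable (h : Good0 ρ v0)

include h

theorem t_vv (a : Kˣ) (x : K) : (ρ (t a) : Matrix (Fin n) (Fin n) F) *ᵥ vv ρ v0 x = vv ρ v0 ((a : K) ^ 2 * x) := by
  unfold vv
  rw [← mul_vec, t_mul_u, mul_vec, h.ft]

theorem w_zero (c : Kˣ) : (ρ (w c) : Matrix (Fin n) (Fin n) F) *ᵥ vv ρ v0 0 = -v0 := by
  rw [vv_zero, h.fw]

theorem w_vv (c : Kˣ) {x : K} (hx : x ≠ 0) : (ρ (w c) : Matrix (Fin n) (Fin n) F) *ᵥ vv ρ v0 x =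
    vv ρ v0 (-((c : K) ^ 2 * x)⁻¹) - v0 := by
  rw [← w_one_mul_t, mul_vec, h.t_vv, h.fwu _ (mul_ne_zero (pow_ne_zero 2 c.ne_zero) hx)]

/-- every `ρ g v₀` is a root -/
theorem mem_rts (g : SpecialLinearGroup (Fin 2) K) : (ρ g : Matrix (Fin n) (Fin n) F) *ᵥ v0 ∈ rts F (vv ρ v0) := by
  rcases bruhat g with ⟨x, a, rfl⟩ | ⟨x, c, y, rfl⟩
  · rw [mul_vec, h.ft]
    exact Or.inl ⟨x, 1, Or.inl rfl, by rw [one_smul]; rfl⟩
  · rw [mul_vec, mul_vec]
    change _ *ᵥ (_ *ᵥ vv ρ v0 y) ∈ _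
    by_cases hy : y = 0
    · subst hy
      rw [h.w_zero, Matrix.mulVec_neg]
      exact Or.inl ⟨x, -1, Or.inr rfl, by rw [neg_one_smul]; rfl⟩
    · rw [h.w_vv c hy, Matrix.mulVec_sub, u_vv]
      refine Or.inr ⟨x + -((c : K) ^ 2 * y)⁻¹, x, ?_, rfl⟩
      intro h1
      have h2 : ((c : K) ^ 2 * y)⁻¹ = 0 := by linear_combination -h1
      exact (inv_ne_zero (mul_ne_zero (pow_ne_zero 2 c.ne_zero) hy)) h2

/-- every root is some `ρ g v₀` -/
theorem of_mem_rts {x : Fin n → F} (hx : x ∈ rts F (vv ρ v0)) :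
    ∃ g : SpecialLinearGroup (Fin 2) K, x = (ρ g : Matrix (Fin n) (Fin n) F) *ᵥ v0 := by
  rcases hx with ⟨i, ε, hε, rfl⟩ | ⟨i, j, hij, rfl⟩
  · rcases hε with rfl | rfl
    · exact ⟨u i, by rw [one_smul]; rfl⟩
    · refine ⟨u i * w 1, ?_⟩
      rw [mul_vec, h.fw, Matrix.mulVec_neg, neg_one_smul]
      rfl
  · have hz : -(i - j)⁻¹ ≠ 0 := neg_ne_zero.2 (inv_ne_zero (sub_ne_zero.2 hij))
    refine ⟨u j * (w 1 * u (-(i - j)⁻¹)), ?_⟩
    rw [mul_vec, mul_vec]
    change _ = _ *ᵥ (_ *ᵥ vv ρ v0 (-(i - j)⁻¹))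
    rw [h.fwu _ hz, Matrix.mulVec_sub, u_vv, inv_neg, inv_inv, neg_neg]
    have e : j + (i - j) = i := by ring
    rw [e]
    rfl

theorem sys (hn : Fintype.card K = n + 1) (hpos : 0 < n)
    (hspan : Submodule.span F (Set.range fun g => (ρ g : Matrix (Fin n) (Fin n) F)) = ⊤)
    (hE0 : ∑ x : K, (ρ (u x) : Matrix (Fin n) (Fin n) F) = 0) : Sys F (vv ρ v0) where
  span := by
    have h1 : ∀ g : SpecialLinearGroup (Fin 2) K, (ρ g : Matrix (Fin n) (Fin n) F) *ᵥ v0 ∈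
        Submodule.span F (Set.range (vv ρ v0)) := by
      intro g
      have hv : ∀ i, vv ρ v0 i ∈ Submodule.span F (Set.range (vv ρ v0)) := fun i => Submodule.subset_span ⟨i, rfl⟩
      rcases h.mem_rts g with ⟨i, ε, -, h2⟩ | ⟨i, j, -, h2⟩
      · rw [h2]
        exact Submodule.smul_mem _ _ (hv i)
      · rw [h2]
        exact Submodule.sub_mem _ (hv i) (hv j)
    have h2 : ∀ A : Matrix (Fin n) (Fin n) F, A *ᵥ v0 ∈ Submodule.span F (Set.range (vv ρ v0)) := by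
      intro A
      have hA : A ∈ Submodule.span F (Set.range fun g => (ρ g : Matrix (Fin n) (Fin n) F)) := by rw [hspan]; trivial
      induction hA using Submodule.span_induction with
      | mem x hx =>
        obtain ⟨g, rfl⟩ := hx
        exact h1 g
      | zero => rw [Matrix.zero_mulVec]; exact Submodule.zero_mem _
      | add x y _ _ hx hy => rw [Matrix.add_mulVec]; exact Submodule.add_mem _ hx hy
      | smul c x _ hx => rw [Matrix.smul_mulVec]; exact Submodule.smul_mem _ _ hx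
    rw [eq_top_iff]
    intro y _
    obtain ⟨j, hj⟩ : ∃ j, v0 j ≠ 0 := by
      by_contra hcon
      push Not at hcon
      exact h.ne (funext hcon)
    have h3 := h2 (fun i k => if k = j then y i * (v0 j)⁻¹ else 0)
    have h4 : (fun i k => if k = j then y i * (v0 j)⁻¹ else 0 : Matrix (Fin n) (Fin n) F) *ᵥ v0 = y := by
      ext i
      simp only [Matrix.mulVec, dotProduct]
      rw [Finset.sum_eq_single j]
      · rw [if_pos rfl, mul_assoc, inv_mul_cancel₀ hj, mul_one]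
      · intro b _ hb
        rw [if_neg hb, zero_mul]
      · intro h; exact absurd (Finset.mem_univ j) h
    rwa [h4] at h3
  card := by rw [hn, Module.finrank_fintype_fun_eq_card, Fintype.card_fin]
  pos := by rw [Module.finrank_fintype_fun_eq_card, Fintype.card_fin]; exact hpos
  sum := by
    unfold vv
    rw [← Matrix.sum_mulVec, hE0, Matrix.zero_mulVec]

section form

variable {Q : QuadraticForm F (Fin n → F)} (hfix : ∀ g v, Q ((ρ g : Matrix (Fin n) (Fin n) F) *ᵥ v) = Q v)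

omit h in
theorem polar_fix (hfix : ∀ g v, Q ((ρ g : Matrix (Fin n) (Fin n) F) *ᵥ v) = Q v)
    (g : SpecialLinearGroup (Fin 2) K) (x y : Fin n → F) :
    QuadraticMap.polar Q ((ρ g : Matrix (Fin n) (Fin n) F) *ᵥ x) ((ρ g : Matrix (Fin n) (Fin n) F) *ᵥ y) =
      QuadraticMap.polar Q x y := by
  unfold QuadraticMap.polar
  rw [← Matrix.mulVec_add, hfix, hfix, hfix]

include hfix in
theorem gr (h2 : (2 : F) ≠ 0) {iu : Kˣ} (hi : (iu : K) ^ 2 = -1) : Gr Q (vv ρ v0) (Q v0) := by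
  have hb : ∀ z : K, z ≠ 0 → QuadraticMap.polar Q v0 (vv ρ v0 z) = Q v0 := by
    intro z hz
    have h1 := polar_fix hfix (w 1) v0 (vv ρ v0 z)
    rw [h.fwu z hz, h.fw] at h1
    have h3 := polar_fix hfix (t (iu * (Units.mk0 z hz)⁻¹)) v0 (vv ρ v0 z)
    rw [h.ft, h.t_vv] at h3
    have e : ((iu * (Units.mk0 z hz)⁻¹ : Kˣ) : K) ^ 2 * z = -z⁻¹ := by
      rw [Units.val_mul, Units.val_inv_eq_inv_val, Units.val_mk0, mul_pow, hi]
      field_simp
    rw [e] at h3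
    rw [QuadraticMap.polar_neg_left, QuadraticMap.polar_sub_right, h3] at h1
    have h4 : QuadraticMap.polar Q v0 v0 = 2 * Q v0 := by
      unfold QuadraticMap.polar
      rw [← two_smul F v0, QuadraticMap.map_smul]
      simp only [smul_eq_mul]
      ring
    rw [h4] at h1
    have h5 : 2 * QuadraticMap.polar Q v0 (vv ρ v0 z) = 2 * Q v0 := by linear_combination -h1
    exact mul_left_cancel₀ h2 h5
  intro i j hij
  have h1 := polar_fix hfix (u (-i)) (vv ρ v0 i) (vv ρ v0 j)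
  rw [u_vv, u_vv, neg_add_cancel, vv_zero] at h1
  rw [← h1]
  apply hb
  intro h3
  apply hij
  linear_combination -h3

end form

end Good0

end Cfsg.Agent.H114.Rt
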