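import Cfsg.Agent.H464.Sl2Struct
import Mathlib.Topology.Compactification.OnePoint.ProjectiveLine

/-!
# The permutation module of `SL₂(K)` on the projective line (helper114)
-/

set_option autoImplicit false
set_option linter.unusedSectionVars false

namespace Cfsg.Agent.H114.Rt

open Matrix Cfsg.Agent.H464.Sl2

variable {K : Type*} [Field K] [DecidableEq K]

/-- the action on the projective line -/
noncomputable def act (g : SpecialLinearGroup (Fin 2) K) (x : Option K) : Option K :=
  ((SpecialLinearGroup.toGL g) • (show OnePoint K from x) : OnePoint K)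

theorem act_one (x : Option K) : act 1 x = x := by
  unfold act
  rw [map_one, one_smul]

theorem act_mul (g h : SpecialLinearGroup (Fin 2) K) (x : Option K) : act (g * h) x = act g (act h x) := by
  unfold act
  rw [map_mul, mul_smul]

theorem act_none (g : SpecialLinearGroup (Fin 2) K) :
    act g none = if g.1 1 0 = 0 then none else some (g.1 0 0 / g.1 1 0) :=
  OnePoint.smul_infty_eq_ite _

theorem act_some (g : SpecialLinearGroup (Fin 2) K) (x : K) :
    act g (some x) = if g.1 1 0 * x + g.1 1 1 = 0 then none else
      some ((g.1 0 0 * x + g.1 0 1) / (g.1 1 0 * x + g.1 1 1)) :=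
  OnePoint.smul_some_eq_ite

theorem act_injective (g : SpecialLinearGroup (Fin 2) K) : Function.Injective (act g) := by
  intro x y h
  have := congrArg (act g⁻¹) h
  rwa [← act_mul, ← act_mul, inv_mul_cancel, act_one, act_one] at this

theorem act_u_none (x : K) : act (u x) none = none := (act_none _).trans (if_pos rfl)

theorem act_u (x y : K) : act (u x) (some y) = some (x + y) := by
  rw [act_some]
  have h1 : (u x).1 1 0 = 0 := rfl
  have h2 : (u x).1 1 1 = 1 := rfl
  have h3 : (u x).1 0 0 = 1 := rfl
  have h4 : (u x).1 0 1 = x := rfl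
  rw [h1, h2, h3, h4, zero_mul, zero_add, if_neg one_ne_zero, one_mul, div_one, add_comm]

theorem act_t_none (a : Kˣ) : act (t a) none = none := (act_none _).trans (if_pos rfl)

theorem act_t (a : Kˣ) (y : K) : act (t a) (some y) = some ((a : K) ^ 2 * y) := by
  rw [act_some]
  have h1 : (t a).1 1 0 = 0 := rfl
  have h2 : (t a).1 1 1 = ((a⁻¹ : Kˣ) : K) := rfl
  have h3 : (t a).1 0 0 = a := rfl
  have h4 : (t a).1 0 1 = 0 := rfl
  rw [h1, h2, h3, h4, zero_mul, zero_add, if_neg (Units.ne_zero _), add_zero]
  congr 1
  have := a.ne_zero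
  rw [Units.val_inv_eq_inv_val]
  field_simp

theorem act_w_none (c : Kˣ) : act (w c) none = some 0 := by
  rw [act_none]
  have h1 : (w c).1 1 0 = c := rfl
  have h3 : (w c).1 0 0 = 0 := rfl
  rw [h1, h3, if_neg c.ne_zero, zero_div]

theorem act_w_zero (c : Kˣ) : act (w c) (some 0) = none := by
  rw [act_some]
  have h2 : (w c).1 1 1 = 0 := rfl
  rw [h2, mul_zero, zero_add, if_pos rfl]

theorem act_w (c : Kˣ) {y : K} (hy : y ≠ 0) :
    act (w c) (some y) = some (-((c : K) ^ 2 * y)⁻¹) := by
  rw [act_some]
  have h1 : (w c).1 1 0 = c := rfl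
  have h2 : (w c).1 1 1 = 0 := rfl
  have h3 : (w c).1 0 0 = 0 := rfl
  have h4 : (w c).1 0 1 = -((c⁻¹ : Kˣ) : K) := rfl
  have hc := c.ne_zero
  rw [h1, h2, h3, h4, add_zero, if_neg (mul_ne_zero hc hy)]
  congr 1
  rw [Units.val_inv_eq_inv_val]
  field_simp
  ring

/-! ### Permutation matrices -/

section pm

variable {F : Type*} [Field F]

/-- the permutation matrix -/
noncomputable def pm (F : Type*) [Field F] (g : SpecialLinearGroup (Fin 2) K) : Matrix (Option K) (Option K) F :=
  fun i j => if i = act g j then 1 else 0

variable [Fintype K]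

theorem pm_single (g : SpecialLinearGroup (Fin 2) K) (j : Option K) :
    pm F g *ᵥ Pi.single j 1 = Pi.single (act g j) 1 := by
  ext i
  rw [Matrix.mulVec_single]
  change (MulOpposite.op (1 : F) • (pm F g).col j) i = _
  rw [MulOpposite.op_one, one_smul]
  change pm F g i j = _
  unfold pm
  rw [Pi.single_apply]

theorem ext_single {A B : Matrix (Option K) (Option K) F} (h : ∀ j, A *ᵥ Pi.single j 1 = B *ᵥ Pi.single j 1) : A = B := by
  ext i j
  have := congrFun (h j) i
  rw [Matrix.mulVec_single, Matrix.mulVec_single] at this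
  simpa using this

theorem pm_one : pm F (1 : SpecialLinearGroup (Fin 2) K) = 1 :=
  ext_single fun j => by rw [pm_single, act_one, Matrix.one_mulVec]

theorem pm_mul (g h : SpecialLinearGroup (Fin 2) K) : pm F (g * h) = pm F g * pm F h :=
  ext_single fun j => by rw [← Matrix.mulVec_mulVec, pm_single, pm_single, pm_single, act_mul]

/-- the permutation representation -/
noncomputable def pmH (F : Type*) [Field F] : SpecialLinearGroup (Fin 2) K →* Matrix (Option K) (Option K) F where
  toFun := pm F
  map_one' := pm_one
  map_mul' := pm_mul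

/-- number of fixed points -/
noncomputable def fix (g : SpecialLinearGroup (Fin 2) K) : ℕ := (Finset.univ.filter fun x => act g x = x).card

theorem trace_pm (g : SpecialLinearGroup (Fin 2) K) : (pm F g).trace = (fix g : F) := by
  unfold Matrix.trace fix
  simp only [Matrix.diag_apply, pm]
  rw [Finset.sum_ite, Finset.sum_const_zero, add_zero, Finset.sum_const, nsmul_eq_mul, mul_one]
  congr 2
  ext x
  simp only [Finset.mem_filter, Finset.mem_univ, true_and]
  exact eq_comm

theorem fix_eq (g : SpecialLinearGroup (Fin 2) K) :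
    fix g = (if act g none = none then 1 else 0) + (Finset.univ.filter fun x : K => act g (some x) = some x).card := by
  unfold fix
  rw [Finset.card_filter, Fintype.sum_option, Finset.card_filter]

theorem fix_one : fix (1 : SpecialLinearGroup (Fin 2) K) = Fintype.card K + 1 := by
  unfold fix
  simp only [act_one, Finset.filter_true, Finset.card_univ, Fintype.card_option]

/-- upper triangular -/
theorem fix_upper {g : SpecialLinearGroup (Fin 2) K} (hg : g.1 1 0 = 0) :
    fix g = 1 + (Finset.univ.filter fun x : K => (g.1 0 0 - g.1 1 1) * x + g.1 0 1 = 0).card := by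
  have hdet : g.1 0 0 * g.1 1 1 = 1 := by
    have := g.2
    rw [Matrix.det_fin_two, hg, mul_zero, sub_zero] at this
    exact this
  have h11 : g.1 1 1 ≠ 0 := by
    intro h
    rw [h, mul_zero] at hdet
    exact zero_ne_one hdet
  rw [fix_eq, act_none, if_pos hg, if_pos rfl]
  congr 2
  ext x
  simp only [Finset.mem_filter, Finset.mem_univ, true_and]
  rw [act_some, hg, zero_mul, zero_add, if_neg h11, Option.some_inj, div_eq_iff h11]
  constructor
  · intro h; linear_combination h
  · intro h; linear_combination h

/-- not upper triangular -/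
theorem fix_lower {g : SpecialLinearGroup (Fin 2) K} (hg : g.1 1 0 ≠ 0) :
    fix g = (Finset.univ.filter fun x : K => g.1 1 0 * x ^ 2 + (g.1 1 1 - g.1 0 0) * x - g.1 0 1 = 0).card := by
  have hdet : g.1 0 0 * g.1 1 1 - g.1 0 1 * g.1 1 0 = 1 := by
    have := g.2
    rwa [Matrix.det_fin_two] at this
  rw [fix_eq, act_none, if_neg hg, if_neg (by simp), zero_add]
  congr 1
  ext x
  simp only [Finset.mem_filter, Finset.mem_univ, true_and]
  rw [act_some]
  by_cases h : g.1 1 0 * x + g.1 1 1 = 0
  · rw [if_pos h]
    constructor
    · intro h1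
      exact absurd h1 (by simp)
    · intro h1
      exfalso
      -- `x = - d / c`
      have h2 : g.1 0 0 * x + g.1 0 1 = 0 := by linear_combination x * h - h1
      have h3 : (1 : K) = 0 := by
        linear_combination -hdet + g.1 0 0 * h - g.1 1 0 * h2
      exact one_ne_zero h3
  · rw [if_neg h, Option.some_inj, div_eq_iff h]
    constructor
    · intro h1; linear_combination -h1
    · intro h1; linear_combination -h1

end pm

end Cfsg.Agent.H114.Rt
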