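import Cfsg.Agent.H114.RtPerm
import Cfsg.Agent.H906.Trace
import Cfsg.Agent.H882.Del.Max

/-!
# The root system `A_q` in a representation of `SL₂(q)` with character `fix - 2` (helper114)
-/

set_option autoImplicit false
set_option linter.unusedSectionVars false

namespace Cfsg.Agent.H114.Rt

open Matrix Cfsg Cfsg.Agent.H464.Sl2

variable {K : Type*} [Field K] [Fintype K] [DecidableEq K] {F : Type*} [Field F] {n : ℕ}
  (ρ : SpecialLinearGroup (Fin 2) K →* GL (Fin n) F)

/-- matrices of `ρ` -/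
noncomputable def rM : SpecialLinearGroup (Fin 2) K →* Matrix (Fin n) (Fin n) F := (Units.coeHom _).comp ρ

theorem rM_apply (g : SpecialLinearGroup (Fin 2) K) : rM ρ g = (ρ g : Matrix (Fin n) (Fin n) F) := rfl

/-- the group algebra on the module -/
noncomputable def RA : MonoidAlgebra F (SpecialLinearGroup (Fin 2) K) →ₐ[F] Matrix (Fin n) (Fin n) F :=
  MonoidAlgebra.lift F _ _ (rM ρ)

/-- the group algebra on the permutation module -/
noncomputable def PA (F : Type*) [Field F] :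
    MonoidAlgebra F (SpecialLinearGroup (Fin 2) K) →ₐ[F] Matrix (Option K) (Option K) F :=
  MonoidAlgebra.lift F _ _ (pmH F)

/-- the augmentation -/
noncomputable def EA (K : Type*) [Field K] (F : Type*) [Field F] : MonoidAlgebra F (SpecialLinearGroup (Fin 2) K) →ₐ[F] F :=
  MonoidAlgebra.lift F F _ 1

/-- group elements -/
noncomputable def og (F : Type*) [Field F] (g : SpecialLinearGroup (Fin 2) K) :
    MonoidAlgebra F (SpecialLinearGroup (Fin 2) K) := MonoidAlgebra.of F _ g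

theorem og_mul (g h : SpecialLinearGroup (Fin 2) K) : og F (g * h) = og F g * og F h := map_mul _ g h

theorem RA_og (g : SpecialLinearGroup (Fin 2) K) : RA ρ (og F g) = (ρ g : Matrix (Fin n) (Fin n) F) :=
  MonoidAlgebra.lift_of _ _

theorem PA_og (g : SpecialLinearGroup (Fin 2) K) : PA F (og F g) = pm F g := MonoidAlgebra.lift_of _ _

theorem EA_og (g : SpecialLinearGroup (Fin 2) K) : EA K F (og F g) = 1 := MonoidAlgebra.lift_of _ _

theorem PA_og_single (g : SpecialLinearGroup (Fin 2) K) (j : Option K) :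
    PA F (og F g) *ᵥ Pi.single j 1 = Pi.single (act g j) 1 := by rw [PA_og, pm_single]

section key

variable (hT : ∀ g, (ρ g : Matrix (Fin n) (Fin n) F).trace = (fix g : F) - 2)
  (hspan : Submodule.span F (Set.range fun g => (ρ g : Matrix (Fin n) (Fin n) F)) = ⊤)

include hT

theorem trace_RA (α : MonoidAlgebra F (SpecialLinearGroup (Fin 2) K)) :
    (RA ρ α).trace = (PA F α).trace - 2 * EA K F α := by
  induction α using MonoidAlgebra.induction_on with
  | of g =>
    change (RA ρ (og F g)).trace = (PA F (og F g)).trace - 2 * EA K F (og F g)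
    rw [RA_og, PA_og, EA_og, hT, trace_pm, mul_one]
  | add x y hx hy => rw [map_add, map_add, map_add, Matrix.trace_add, Matrix.trace_add, hx, hy]; ring
  | smul c x hx =>
    rw [map_smul, map_smul, map_smul, Matrix.trace_smul, Matrix.trace_smul, hx, smul_eq_mul, smul_eq_mul, smul_eq_mul]
    ring

include hspan

theorem RA_eq_zero {α : MonoidAlgebra F (SpecialLinearGroup (Fin 2) K)} (h1 : PA F α = 0) (h2 : EA K F α = 0) :
    RA ρ α = 0 := by
  refine H906.eq_zero_of_trace_mul hspan ?_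
  rintro _ ⟨g, rfl⟩
  change (RA ρ α * (ρ g : Matrix (Fin n) (Fin n) F)).trace = 0
  rw [← RA_og, ← map_mul, trace_RA ρ hT, map_mul, map_mul, h1, h2, zero_mul, zero_mul, Matrix.trace_zero, mul_zero,
    sub_zero]

end key

/-- the vector `e_0 - e_∞` -/
noncomputable def mv (K : Type*) [Field K] [DecidableEq K] (F : Type*) [Field F] : Option K → F :=
  Pi.single (some 0) 1 - Pi.single none 1

/-- the idempotent -/
noncomputable def f0 (K : Type*) [Field K] [Fintype K] [DecidableEq K] (F : Type*) [Field F] :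
    MonoidAlgebra F (SpecialLinearGroup (Fin 2) K) :=
  ((2 : F) * (Fintype.card Kˣ : F))⁻¹ • (∑ a : Kˣ, og F (t a) - ∑ c : Kˣ, og F (w c))

theorem EA_f0 : EA K F (f0 K F) = 0 := by
  unfold f0
  rw [map_smul, map_sub, map_sum, map_sum]
  simp only [EA_og, sub_self, smul_zero]

/-- the coefficients -/
noncomputable def ph (K : Type*) [Field K] [DecidableEq K] (F : Type*) [Field F] (j : Option K) : F :=
  if j = some 0 then 2⁻¹ else if j = none then -2⁻¹ else 0

theorem PA_f0_single (hN : (2 : F) * (Fintype.card Kˣ : F) ≠ 0) {iu : Kˣ} (hi : (iu : K) ^ 2 = -1) (j : Option K) :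
    PA F (f0 K F) *ᵥ Pi.single j 1 = ph K F j • mv K F := by
  have h2 : (2 : F) ≠ 0 := left_ne_zero_of_mul hN
  have hr : (Fintype.card Kˣ : F) ≠ 0 := right_ne_zero_of_mul hN
  have h1 : PA F (f0 K F) *ᵥ Pi.single j 1 = ((2 : F) * (Fintype.card Kˣ : F))⁻¹ •
      (∑ a : Kˣ, Pi.single (act (t a) j) (1 : F) - ∑ c : Kˣ, Pi.single (act (w c) j) (1 : F)) := by
    unfold f0
    rw [map_smul, map_sub, map_sum, map_sum, Matrix.smul_mulVec, Matrix.sub_mulVec, Matrix.sum_mulVec,
      Matrix.sum_mulVec]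
    simp only [PA_og_single]
  rw [h1]
  unfold ph mv
  rcases j with _ | x
  · rw [if_neg (by simp), if_pos rfl]
    simp only [act_t_none, act_w_none, Finset.sum_const, Finset.card_univ]
    rw [← Nat.cast_smul_eq_nsmul F, ← Nat.cast_smul_eq_nsmul F, ← smul_sub, smul_smul]
    have e : ((2 : F) * (Fintype.card Kˣ : F))⁻¹ * (Fintype.card Kˣ : F) = 2⁻¹ := by
      rw [mul_inv, mul_assoc, inv_mul_cancel₀ hr, mul_one]
    rw [e, neg_smul, ← smul_neg, neg_sub]
  · by_cases hx : x = 0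
    · subst hx
      rw [if_pos rfl]
      simp only [act_t, act_w_zero, mul_zero, Finset.sum_const, Finset.card_univ]
      rw [← Nat.cast_smul_eq_nsmul F, ← Nat.cast_smul_eq_nsmul F, ← smul_sub, smul_smul]
      have e : ((2 : F) * (Fintype.card Kˣ : F))⁻¹ * (Fintype.card Kˣ : F) = 2⁻¹ := by
        rw [mul_inv, mul_assoc, inv_mul_cancel₀ hr, mul_one]
      rw [e]
    · rw [if_neg (by simpa using hx), if_neg (by simp), zero_smul]
      have h3 : ∑ c : Kˣ, (Pi.single (act (w c) (some x)) (1 : F) : Option K → F) =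
          ∑ a : Kˣ, (Pi.single (act (t a) (some x)) (1 : F) : Option K → F) := by
        -- substitution `a = iu / (c x)`
        let X : Kˣ := Units.mk0 x hx
        rw [← Equiv.sum_comp ((Equiv.inv Kˣ).trans (Equiv.mulLeft (iu * X⁻¹)))
          (fun a : Kˣ => (Pi.single (act (t a) (some x)) (1 : F) : Option K → F))]
        refine Finset.sum_congr rfl fun c _ => ?_
        change _ = (Pi.single (act (t (iu * X⁻¹ * c⁻¹)) (some x)) (1 : F) : Option K → F)
        rw [act_w c hx, act_t]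
        congr 2
        have hc := c.ne_zero
        have e1 : ((iu * X⁻¹ * c⁻¹ : Kˣ) : K) = iu * x⁻¹ * (c : K)⁻¹ := by
          rw [Units.val_mul, Units.val_mul, Units.val_inv_eq_inv_val, Units.val_inv_eq_inv_val]
          rfl
        rw [e1]
        have e2 : ((iu : K) * x⁻¹ * (c : K)⁻¹) ^ 2 * x = (iu : K) ^ 2 * (((c : K) ^ 2 * x)⁻¹) := by
          field_simp
        rw [e2, hi]
        ring
      rw [h3, sub_self, smul_zero]

theorem PA_f0 (hN : (2 : F) * (Fintype.card Kˣ : F) ≠ 0) {iu : Kˣ} (hi : (iu : K) ^ 2 = -1) (y : Option K → F) :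
    PA F (f0 K F) *ᵥ y = (∑ j, y j * ph K F j) • mv K F := by
  have h1 : y = ∑ j, y j • (Pi.single j (1 : F) : Option K → F) := by
    ext i
    rw [Finset.sum_apply, Finset.sum_eq_single i]
    · simp
    · intro b _ hb
      rw [Pi.smul_apply, Pi.single_eq_of_ne (Ne.symm hb), smul_zero]
    · intro h; exact absurd (Finset.mem_univ i) h
  conv_lhs => rw [h1]
  rw [Matrix.mulVec_sum, Finset.sum_smul]
  refine Finset.sum_congr rfl fun j _ => ?_
  rw [Matrix.mulVec_smul, PA_f0_single hN hi, smul_smul]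

theorem PA_f0_mv (hN : (2 : F) * (Fintype.card Kˣ : F) ≠ 0) {iu : Kˣ} (hi : (iu : K) ^ 2 = -1) :
    PA F (f0 K F) *ᵥ mv K F = mv K F := by
  have h2 : (2 : F) ≠ 0 := left_ne_zero_of_mul hN
  have h3 : mv K F = Pi.single (some 0) 1 - Pi.single none 1 := rfl
  nth_rewrite 1 [h3]
  rw [Matrix.mulVec_sub, PA_f0_single hN hi, PA_f0_single hN hi, ← sub_smul]
  unfold ph
  rw [if_pos rfl, if_neg (by simp), if_pos rfl, sub_neg_eq_add]
  have : (2 : F)⁻¹ + 2⁻¹ = 1 := by
    field_simp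
    norm_num
  rw [this, one_smul]

theorem trace_PA_f0 (hN : (2 : F) * (Fintype.card Kˣ : F) ≠ 0) {iu : Kˣ} (hi : (iu : K) ^ 2 = -1) :
    (PA F (f0 K F)).trace = 1 := by
  have h2 : (2 : F) ≠ 0 := left_ne_zero_of_mul hN
  have h1 : ∀ j, PA F (f0 K F) j j = ph K F j * mv K F j := by
    intro j
    have h3 := congrFun (PA_f0_single hN hi j) j
    rw [Matrix.mulVec_single, MulOpposite.op_one, one_smul, Pi.smul_apply, smul_eq_mul] at h3
    exact h3
  unfold Matrix.trace
  simp only [Matrix.diag_apply, h1]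
  rw [Fintype.sum_option, ← Finset.add_sum_erase _ _ (Finset.mem_univ (0 : K)), Finset.sum_eq_zero]
  · unfold ph mv
    rw [if_neg (by simp), if_pos rfl, if_pos rfl, Pi.sub_apply, Pi.sub_apply, Pi.single_eq_same, Pi.single_eq_same,
      Pi.single_eq_of_ne (by simp), Pi.single_eq_of_ne (by simp)]
    field_simp
    norm_num
  · intro x hx
    have hx0 := Finset.ne_of_mem_erase hx
    unfold ph
    rw [if_neg (by simpa using hx0), if_neg (by simp), zero_mul]

section main

variable (hT : ∀ g, (ρ g : Matrix (Fin n) (Fin n) F).trace = (fix g : F) - 2)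
  (hspan : Submodule.span F (Set.range fun g => (ρ g : Matrix (Fin n) (Fin n) F)) = ⊤)
  (hN : (2 : F) * (Fintype.card Kˣ : F) ≠ 0) {iu : Kˣ} (hi : (iu : K) ^ 2 = -1)

include hT hspan hN hi

theorem RA_mul_f0 {α : MonoidAlgebra F (SpecialLinearGroup (Fin 2) K)} (h : PA F α *ᵥ mv K F = 0) :
    RA ρ α * RA ρ (f0 K F) = 0 := by
  rw [← map_mul]
  refine RA_eq_zero ρ hT hspan (ext_single fun j => ?_) ?_
  · rw [map_mul, ← Matrix.mulVec_mulVec, PA_f0_single hN hi, Matrix.mulVec_smul, h, smul_zero, Matrix.zero_mulVec]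
  · rw [map_mul, EA_f0, mul_zero]

omit hspan in
theorem RA_f0_ne : RA ρ (f0 K F) ≠ 0 := by
  intro h
  have h1 := trace_RA ρ hT (f0 K F)
  rw [h, Matrix.trace_zero, trace_PA_f0 hN hi, EA_f0, mul_zero, sub_zero] at h1
  exact zero_ne_one h1

omit hT hN hi in
theorem RA_surj (A : Matrix (Fin n) (Fin n) F) : ∃ α, RA ρ α = A := by
  have hA : A ∈ Submodule.span F (Set.range fun g => (ρ g : Matrix (Fin n) (Fin n) F)) := by rw [hspan]; trivial
  induction hA using Submodule.span_induction with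
  | mem x hx =>
    obtain ⟨g, rfl⟩ := hx
    exact ⟨og F g, RA_og ρ g⟩
  | zero => exact ⟨0, map_zero _⟩
  | add x y _ _ hx hy =>
    obtain ⟨a, ha⟩ := hx
    obtain ⟨b, hb⟩ := hy
    exact ⟨a + b, by rw [map_add, ha, hb]⟩
  | smul c x _ hx =>
    obtain ⟨a, ha⟩ := hx
    exact ⟨c • a, by rw [map_smul, ha]⟩

theorem RA_f0_idem : RA ρ (f0 K F) * RA ρ (f0 K F) = RA ρ (f0 K F) := by
  have h := RA_mul_f0 ρ hT hspan hN hi (α := f0 K F - 1) (by
    rw [map_sub, map_one, Matrix.sub_mulVec, Matrix.one_mulVec, PA_f0_mv hN hi, sub_self])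
  rw [map_sub, map_one, sub_mul, one_mul, sub_eq_zero] at h
  exact h

/-- The idempotent has rank one. -/
theorem RA_f0_compress (A : Matrix (Fin n) (Fin n) F) :
    ∃ c : F, RA ρ (f0 K F) * A * RA ρ (f0 K F) = c • RA ρ (f0 K F) := by
  obtain ⟨α, rfl⟩ := RA_surj ρ hspan A
  refine ⟨∑ j, (PA F α *ᵥ mv K F) j * ph K F j, ?_⟩
  have h := RA_mul_f0 ρ hT hspan hN hi (α := f0 K F * α - (∑ j, (PA F α *ᵥ mv K F) j * ph K F j) • 1) (by
    rw [map_sub, map_smul, map_one, Matrix.sub_mulVec, Matrix.smul_mulVec, Matrix.one_mulVec, map_mul,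
      ← Matrix.mulVec_mulVec, PA_f0 hN hi, sub_self])
  rw [map_sub, map_mul, map_smul, map_one, sub_mul, smul_mul_assoc, one_mul, sub_eq_zero] at h
  exact h

/-- **The data**: a vector `v₀` with its properties. -/
theorem exists_v0 : ∃ v0 : Fin n → F, v0 ≠ 0 ∧ RA ρ (f0 K F) *ᵥ v0 = v0 ∧
    (∀ a : Kˣ, (ρ (t a) : Matrix (Fin n) (Fin n) F) *ᵥ v0 = v0) ∧
    (∀ c : Kˣ, (ρ (w c) : Matrix (Fin n) (Fin n) F) *ᵥ v0 = -v0) ∧
    ∀ x : K, x ≠ 0 → (ρ (w 1) : Matrix (Fin n) (Fin n) F) *ᵥ ((ρ (u x) : Matrix (Fin n) (Fin n) F) *ᵥ v0) =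
      (ρ (u (-x⁻¹)) : Matrix (Fin n) (Fin n) F) *ᵥ v0 - v0 := by
  have h0 : ∃ y, RA ρ (f0 K F) *ᵥ y ≠ 0 := by
    by_contra hcon
    push Not at hcon
    apply RA_f0_ne ρ hT hN hi
    ext i j
    have := congrFun (hcon (Pi.single j 1)) i
    rw [Matrix.mulVec_single] at this
    simpa using this
  obtain ⟨y, hy⟩ := h0
  have key : ∀ α : MonoidAlgebra F (SpecialLinearGroup (Fin 2) K), PA F α *ᵥ mv K F = 0 →
      RA ρ α *ᵥ (RA ρ (f0 K F) *ᵥ y) = 0 := by
    intro α h
    rw [Matrix.mulVec_mulVec, RA_mul_f0 ρ hT hspan hN hi h, Matrix.zero_mulVec]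
  refine ⟨RA ρ (f0 K F) *ᵥ y, hy, ?_, fun a => ?_, fun c => ?_, fun x hx => ?_⟩
  · rw [Matrix.mulVec_mulVec, RA_f0_idem ρ hT hspan hN hi]
  · have h := key (og F (t a) - 1) (by
      rw [map_sub, map_one, Matrix.sub_mulVec, Matrix.one_mulVec]
      unfold mv
      rw [Matrix.mulVec_sub, PA_og_single, PA_og_single, act_t_none, act_t, mul_zero, sub_self])
    rw [map_sub, map_one, Matrix.sub_mulVec, Matrix.one_mulVec, RA_og, sub_eq_zero] at h
    exact h
  · have h := key (og F (w c) + 1) (by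
      rw [map_add, map_one, Matrix.add_mulVec, Matrix.one_mulVec]
      unfold mv
      rw [Matrix.mulVec_sub, PA_og_single, PA_og_single, act_w_none, act_w_zero]
      abel)
    rw [map_add, map_one, Matrix.add_mulVec, Matrix.one_mulVec, RA_og] at h
    exact eq_neg_of_add_eq_zero_left h
  · have h := key (og F (w 1) * og F (u x) - og F (u (-x⁻¹)) + 1) (by
      rw [map_add, map_sub, map_mul, map_one, Matrix.add_mulVec, Matrix.sub_mulVec, Matrix.one_mulVec,
        ← Matrix.mulVec_mulVec]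
      unfold mv
      rw [Matrix.mulVec_sub, Matrix.mulVec_sub, PA_og_single, PA_og_single, Matrix.mulVec_sub, PA_og_single,
        PA_og_single, PA_og_single, PA_og_single, act_u_none, act_u_none, act_w_none, act_u, act_u, add_zero, add_zero,
        act_w 1 hx, Units.val_one, one_pow, one_mul]
      abel)
    rw [map_add, map_sub, map_mul, map_one, Matrix.add_mulVec, Matrix.sub_mulVec, Matrix.one_mulVec,
        ← Matrix.mulVec_mulVec, RA_og, RA_og, RA_og] at h
    have h3 := eq_neg_of_add_eq_zero_left h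
    rw [sub_eq_iff_eq_add] at h3
    rw [h3]
    abel

theorem RA_f0_of_fixed {v : Fin n → F} (ht : ∀ a : Kˣ, (ρ (t a) : Matrix (Fin n) (Fin n) F) *ᵥ v = v)
    (hw : ∀ c : Kˣ, (ρ (w c) : Matrix (Fin n) (Fin n) F) *ᵥ v = -v) : RA ρ (f0 K F) *ᵥ v = v := by
  have h2 : (2 : F) ≠ 0 := left_ne_zero_of_mul hN
  have hr : (Fintype.card Kˣ : F) ≠ 0 := right_ne_zero_of_mul hN
  unfold f0
  rw [map_smul, map_sub, map_sum, map_sum, Matrix.smul_mulVec, Matrix.sub_mulVec, Matrix.sum_mulVec,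
      Matrix.sum_mulVec]
  simp only [RA_og, ht, hw, Finset.sum_const, Finset.card_univ]
  rw [smul_neg, sub_neg_eq_add, ← Nat.cast_smul_eq_nsmul F, ← two_smul F, smul_smul, smul_smul,
    mul_assoc, inv_mul_cancel₀ hN, one_smul]

/-- **Uniqueness** of `v₀` up to scalars. -/
theorem unique_v0 {v0 : Fin n → F} (hv0 : v0 ≠ 0) (hf : RA ρ (f0 K F) *ᵥ v0 = v0) {v : Fin n → F}
    (ht : ∀ a : Kˣ, (ρ (t a) : Matrix (Fin n) (Fin n) F) *ᵥ v = v)
    (hw : ∀ c : Kˣ, (ρ (w c) : Matrix (Fin n) (Fin n) F) *ᵥ v = -v) : ∃ c : F, v = c • v0 := by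
  obtain ⟨A, hA⟩ : ∃ A : Matrix (Fin n) (Fin n) F, A *ᵥ v0 = v := by
    obtain ⟨j, hj⟩ : ∃ j, v0 j ≠ 0 := by
      by_contra hcon
      push Not at hcon
      exact hv0 (funext hcon)
    refine ⟨fun i k => if k = j then v i * (v0 j)⁻¹ else 0, ?_⟩
    ext i
    simp only [Matrix.mulVec, dotProduct]
    rw [Finset.sum_eq_single j]
    · rw [if_pos rfl, mul_assoc, inv_mul_cancel₀ hj, mul_one]
    · intro b _ hb
      rw [if_neg hb, zero_mul]
    · intro h; exact absurd (Finset.mem_univ j) h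
  obtain ⟨c, hc⟩ := RA_f0_compress ρ hT hspan hN hi A
  refine ⟨c, ?_⟩
  have h1 := congrArg (fun M => M *ᵥ v0) hc
  simp only [← Matrix.mulVec_mulVec, Matrix.smul_mulVec, hf, hA] at h1
  rw [RA_f0_of_fixed ρ hT hspan hN hi ht hw] at h1
  exact h1

end main

end Cfsg.Agent.H114.Rt
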