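import Cfsg.Agent.H114.RtPerm
import Cfsg.Agent.H464.L2TrE

/-!
# Cuspidal representations of `SL₂(K)` whose character is `fix - 2` (helper114)
-/

set_option autoImplicit false
set_option linter.unusedSectionVars false

namespace Cfsg.Agent.H114.Rt

open Matrix Module Cfsg.Agent.H464.Sl2

variable {K : Type*} [Field K] [Fintype K] [DecidableEq K]

/-- number of square roots -/
noncomputable def nsq (δ : K) : ℕ := (Finset.univ.filter fun y : K => y ^ 2 = δ).card

theorem nsq_zero : nsq (0 : K) = 1 := by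
  unfold nsq
  have : (Finset.univ.filter fun y : K => y ^ 2 = 0) = {0} := by
    ext y
    simp
  rw [this, Finset.card_singleton]

theorem nsq_sq (h2 : (2 : K) ≠ 0) {s : K} (hs : s ≠ 0) : nsq (s ^ 2) = 2 := by
  unfold nsq
  have : (Finset.univ.filter fun y : K => y ^ 2 = s ^ 2) = {s, -s} := by
    ext y
    simp only [Finset.mem_filter, Finset.mem_univ, true_and, Finset.mem_insert, Finset.mem_singleton]
    exact sq_eq_sq_iff_eq_or_eq_neg
  rw [this, Finset.card_pair]
  intro h
  apply hs
  have h3 : 2 * s = 0 := by linear_combination h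
  exact (mul_eq_zero.1 h3).resolve_left h2

theorem nsq_non {δ : K} (h : ¬ IsSquare δ) : nsq δ = 0 := by
  unfold nsq
  rw [Finset.card_eq_zero, Finset.filter_eq_empty_iff]
  intro y _ hy
  exact h ⟨y, by rw [← hy, sq]⟩

theorem fix_lower_card (h2 : (2 : K) ≠ 0) {g : SpecialLinearGroup (Fin 2) K} (hg : g.1 1 0 ≠ 0) :
    fix g = nsq ((g.1 0 0 + g.1 1 1) ^ 2 - 4) := by
  have hdet : g.1 0 0 * g.1 1 1 - g.1 0 1 * g.1 1 0 = 1 := by
    have := g.2
    rwa [Matrix.det_fin_two] at this
  have h4 : (4 : K) ≠ 0 := by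
    have : (4 : K) = 2 * 2 := by norm_num
    rw [this]
    exact mul_ne_zero h2 h2
  rw [fix_lower hg]
  unfold nsq
  refine Finset.card_bij (fun x _ => 2 * g.1 1 0 * x + (g.1 1 1 - g.1 0 0)) ?_ ?_ ?_
  · intro x hx
    rw [Finset.mem_filter] at hx ⊢
    refine ⟨Finset.mem_univ _, ?_⟩
    linear_combination (4 * g.1 1 0) * hx.2 - 4 * hdet
  · intro x _ y _ h
    have h3 : (2 * g.1 1 0) * (x - y) = 0 := by linear_combination h
    exact sub_eq_zero.1 ((mul_eq_zero.1 h3).resolve_left (mul_ne_zero h2 hg))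
  · intro y hy
    rw [Finset.mem_filter] at hy
    refine ⟨(y - (g.1 1 1 - g.1 0 0)) / (2 * g.1 1 0), ?_, ?_⟩
    · rw [Finset.mem_filter]
      refine ⟨Finset.mem_univ _, ?_⟩
      have h5 : (4 * g.1 1 0) * (g.1 1 0 * ((y - (g.1 1 1 - g.1 0 0)) / (2 * g.1 1 0)) ^ 2 +
        (g.1 1 1 - g.1 0 0) * ((y - (g.1 1 1 - g.1 0 0)) / (2 * g.1 1 0)) - g.1 0 1) = 0 := by
        have h6 : (2 * g.1 1 0) * ((y - (g.1 1 1 - g.1 0 0)) / (2 * g.1 1 0)) = y - (g.1 1 1 - g.1 0 0) :=
          mul_div_cancel₀ _ (mul_ne_zero h2 hg)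
        generalize (y - (g.1 1 1 - g.1 0 0)) / (2 * g.1 1 0) = z at h6 ⊢
        have h7 := hy.2
        linear_combination h7 + 4 * hdet + (2 * g.1 1 0 * z + 2 * (g.1 1 1 - g.1 0 0) + y - (g.1 1 1 - g.1 0 0)) * h6
      exact (mul_eq_zero.1 h5).resolve_left (mul_ne_zero h4 hg)
    · rw [mul_div_cancel₀ _ (mul_ne_zero h2 hg)]
      ring

theorem eq_t_of_upper {g : SpecialLinearGroup (Fin 2) K} (h10 : g.1 1 0 = 0) (h01 : g.1 0 1 = 0)
    (h : g.1 0 0 = g.1 1 1) : ∃ ε : Kˣ, ε ^ 2 = 1 ∧ g = t ε := by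
  have hdet : g.1 0 0 * g.1 1 1 - g.1 0 1 * g.1 1 0 = 1 := by
    have := g.2
    rwa [Matrix.det_fin_two] at this
  rw [h10, h01, mul_zero, sub_zero] at hdet
  refine ⟨⟨g.1 0 0, g.1 1 1, hdet, by rw [mul_comm]; exact hdet⟩, ?_, ?_⟩
  · apply Units.ext
    rw [Units.val_pow_eq_pow_val, Units.val_one]
    change g.1 0 0 ^ 2 = 1
    rw [sq]
    nth_rewrite 2 [h]
    exact hdet
  · apply Subtype.ext
    ext i j
    fin_cases i <;> fin_cases j
    · rfl
    · exact h01
    · exact h10
    · rfl

theorem fix_noncentral (h2 : (2 : K) ≠ 0) {g : SpecialLinearGroup (Fin 2) K} (hg : ∀ ε : Kˣ, ε ^ 2 = 1 → g ≠ t ε) :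
    fix g = nsq ((g.1 0 0 + g.1 1 1) ^ 2 - 4) := by
  by_cases h10 : g.1 1 0 = 0
  · have hdet : g.1 0 0 * g.1 1 1 = 1 := by
      have := g.2
      rw [Matrix.det_fin_two, h10, mul_zero, sub_zero] at this
      exact this
    rw [fix_upper h10]
    by_cases h : g.1 0 0 = g.1 1 1
    · have h01 : g.1 0 1 ≠ 0 := by
        intro h01
        obtain ⟨ε, hε, h3⟩ := eq_t_of_upper h10 h01 h
        exact hg ε hε h3
      have h3 : (g.1 0 0 + g.1 1 1) ^ 2 - 4 = 0 := by
        linear_combination (g.1 0 0 - g.1 1 1) * h + 4 * hdet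
      rw [h3, nsq_zero]
      have h5 : (Finset.univ.filter fun x : K => (g.1 0 0 - g.1 1 1) * x + g.1 0 1 = 0) = ∅ := by
        rw [Finset.filter_eq_empty_iff]
        intro x _ hx
        rw [h, sub_self, zero_mul, zero_add] at hx
        exact h01 hx
      rw [h5, Finset.card_empty]
    · have h3 : (g.1 0 0 + g.1 1 1) ^ 2 - 4 = (g.1 0 0 - g.1 1 1) ^ 2 := by linear_combination 4 * hdet
      have h4 := sub_ne_zero.2 h
      rw [h3, nsq_sq h2 h4]
      have h5 : (Finset.univ.filter fun x : K => (g.1 0 0 - g.1 1 1) * x + g.1 0 1 = 0) =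
          {-(g.1 0 1) / (g.1 0 0 - g.1 1 1)} := by
        ext x
        simp only [Finset.mem_filter, Finset.mem_univ, true_and, Finset.mem_singleton]
        rw [eq_div_iff h4]
        constructor
        · intro h; linear_combination h
        · intro h; linear_combination h
      rw [h5, Finset.card_singleton]
  · exact fix_lower_card h2 h10

theorem fix_t {ε : Kˣ} (hε : ε ^ 2 = 1) : fix (t ε) = Fintype.card K + 1 := by
  unfold fix
  have h5 : ∀ x : Option K, act (t ε) x = x := by
    intro x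
    have hε' : (ε : K) ^ 2 = 1 := by
      have := congrArg (fun z : Kˣ => (z : K)) hε
      simpa using this
    rcases x with _ | x
    · exact act_t_none ε
    · rw [act_t, hε', one_mul]
  simp only [h5, Finset.filter_true, Finset.card_univ, Fintype.card_option]

section

variable {k : Type*} [Field k] {V : Type*} [AddCommGroup V] [Module k V]
  [FiniteDimensional k V] (R : SpecialLinearGroup (Fin 2) K →* Module.End k V) {ψ : AddChar K k}
  (hψ : ψ.IsPrimitive) (hK : (Fintype.card K : k) ≠ 0)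

include hψ hK

/-- **The trace is the number of fixed points minus two.** -/
theorem chi_eq_fix (h2 : (2 : K) ≠ 0) (h3K : 3 ≤ Fintype.card K) (hspan : Submodule.span k (Set.range R) = ⊤)
    (hall : ∀ b : K, b ≠ 0 → finrank k (LinearMap.range (E R ψ b)) = 1)
    (h0 : finrank k (LinearMap.range (E R ψ 0)) = 0) (hc : ∀ ε : Kˣ, ε ^ 2 = 1 → R (t ε) = 1)
    (hns : ∀ τ : K, NonSplit τ → chi R (Zt τ) = -2) (g : SpecialLinearGroup (Fin 2) K) :
    chi R g = (fix g : k) - 2 := by
  by_cases hg : ∃ ε : Kˣ, ε ^ 2 = 1 ∧ g = t ε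
  · obtain ⟨ε, hε, rfl⟩ := hg
    rw [fix_t hε]
    unfold chi
    rw [hc ε hε, LinearMap.trace_one, finrank_eq_sum R hψ hK,
        ← Finset.add_sum_erase _ _ (Finset.mem_univ (0 : K)), h0, zero_add,
        Finset.sum_congr rfl fun b hb => hall b (Finset.ne_of_mem_erase hb), Finset.sum_const,
        Finset.card_erase_of_mem (Finset.mem_univ _), Finset.card_univ, smul_eq_mul, mul_one,
        Nat.cast_sub Fintype.card_pos, Nat.cast_one]
    push_cast
    ring
  · push Not at hg
    rw [fix_noncentral h2 hg, chi_eq R hψ hK h3K hspan hall hg]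
    set τ := g.1 0 0 + g.1 1 1 with hτ
    have h4 : (4 : K) ≠ 0 := by
      have : (4 : K) = 2 * 2 := by norm_num
      rw [this]
      exact mul_ne_zero h2 h2
    by_cases hsq : IsSquare (τ ^ 2 - 4)
    · obtain ⟨s, hs⟩ := hsq
      by_cases hs0 : s = 0
      · rw [hs, hs0, mul_zero, nsq_zero]
        -- `τ = 2 ε`
        have h5 : τ ^ 2 - 4 = 0 := by rw [hs, hs0, mul_zero]
        obtain ⟨h, ε, y, hε, h1⟩ := exists_conj_unip g h5
        have h6 : τ = (t ε).1 0 0 + (t ε).1 1 1 := by
          have h7 := tr_conj h (t ε * u y)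
          rw [← h1, ← hτ] at h7
          rw [h7]
          have e2 : (t ε * u y).1 = !![(ε : K), ε * y; 0, ((ε⁻¹ : Kˣ) : K)] := by
            change !![(ε : K), 0; 0, ((ε⁻¹ : Kˣ) : K)] * !![1, y; 0, 1] = _
            ext i j
            fin_cases i <;> fin_cases j <;> simp [Matrix.mul_apply, Fin.sum_univ_two]
          rw [e2]
          rfl
        have h7 := ct_central R hψ hK h3K hspan hall hε (c := 1) (by rw [hc ε hε, one_smul])
        rw [← h6, h0, Nat.cast_zero, zero_sub, one_mul] at h7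
        rw [h7]
        norm_num
      · rw [hs, ← sq, nsq_sq h2 hs0]
        -- `a = (τ + s) / 2`
        have hprod : ((τ + s) / 2) * ((τ - s) / 2) = 1 := by
          field_simp
          linear_combination hs
        let a : Kˣ := ⟨(τ + s) / 2, (τ - s) / 2, hprod, by rw [mul_comm]; exact hprod⟩
        have ha : a ^ 2 ≠ 1 := by
          intro h
          have h5 : a⁻¹ = a := by
            rw [inv_eq_iff_mul_eq_one, ← sq, h]
          have h6 : (τ - s) / 2 = (τ + s) / 2 := congrArg (fun z : Kˣ => (z : K)) h5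
          apply hs0
          have h7 : 2 * s = 0 := by
            field_simp at h6
            linear_combination -h6
          exact (mul_eq_zero.1 h7).resolve_left h2
        have h5 : chi R (t a) = ct R τ := by
          rw [chi_eq R hψ hK h3K hspan hall (g := t a)]
          · congr 1
            change (τ + s) / 2 + (τ - s) / 2 = τ
            field_simp
            ring
          · intro ε hε h
            apply ha
            have h6 : (a : K) = ε := congrFun (congrFun (congrArg Subtype.val h) 0) 0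
            rw [Units.ext h6, hε]
        have h6 : E R ψ 0 = 0 := by
          rw [Submodule.finrank_eq_zero, LinearMap.range_eq_bot] at h0
          exact h0
        rw [← h5, chi_t R hψ hK ha, h6, mul_zero, map_zero]
        norm_num
    · rw [nsq_non hsq]
      have hτn : NonSplit τ := by
        intro x hx
        apply hsq
        refine ⟨2 * x - τ, ?_⟩
        linear_combination (-4) * hx
      have h5 : ct R τ = chi R (Zt τ) := rfl
      rw [h5, hns τ hτn]
      norm_num

end

end Cfsg.Agent.H114.Rt
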