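import Cfsg.Agent.H114.StValue
import Cfsg.Agent.Solvable.Glauberman
import Cfsg.Agent.Characters.CentralCharacter
import Cfsg.Agent.Characters.Core

/-!
# The value of the Steinberg character at a `p`-regular element (helper114)

* `card_conj_eq` : a `p'`-element of `P = V P₀`, `V` a normal `p`-subgroup with `V ∩ P₀ = 1`, has `|C_V(g)|` conjugates
  under `V` in `P₀` ...
* `value` : **the Steinberg module of a finite building with a group of characteristic `p`**: the value of the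
  character at an element `g` of order prime to `p` is `±` the `p`-part of `|C(g)|`.
-/

set_option autoImplicit false
set_option linter.unusedSectionVars false

namespace Cfsg.Agent.H114.StRegular

open Cfsg Cfsg.Agent.Tits.Core Cfsg.Agent.Tits.Core.Bldg Cfsg.Agent.Tits.Exchange Cfsg.Agent.H167.AltTrace
  Cfsg.Agent.H167.SteinbergMod Cfsg.Agent.H167.AltBldg Cfsg.Agent.H114.StValue

/-- The fixed points of a `p'`-element on the conjugates of a complement. -/
theorem card_conj_eq {G : Type*} [Group G] [Finite G] {p : ℕ} [Fact p.Prime] (V P0 P : Subgroup G)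
    (hV : IsPGroup p V) (hVP : V ≤ P) (hnorm : ∀ x ∈ P, ∀ v ∈ V, x * v * x⁻¹ ∈ V)
    (hfac : ∀ x ∈ P, ∃ v ∈ V, v⁻¹ * x ∈ P0) (hfree : ∀ v ∈ V, v ∈ P0 → v = 1) {g : G} (hg : g ∈ P)
    (hp : ¬ p ∣ orderOf g) :
    Nat.card {v : V // (v : G)⁻¹ * g * v ∈ P0} = Nat.card ↥(V ⊓ Subgroup.centralizer ({g} : Set G)) := by
  -- a conjugate in `P0`
  have hz : ∀ a ∈ Subgroup.zpowers g, a ∈ P := by
    intro a ha
    have : Subgroup.zpowers g ≤ P := by rw [Subgroup.zpowers_le]; exact hg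
    exact this ha
  have hAK : Subgroup.zpowers g ≤ Subgroup.normalizer (V : Set G) := by
    intro a ha
    rw [Subgroup.mem_normalizer_iff]
    intro v
    constructor
    · exact hnorm a (hz a ha) v
    · intro h
      have := hnorm a⁻¹ (inv_mem (hz a ha)) _ h
      have e : a⁻¹ * (a * v * a⁻¹) * a⁻¹⁻¹ = v := by group
      rwa [e] at this
  have hcop : (Nat.card (Subgroup.zpowers g)).Coprime (Nat.card V) := by
    obtain ⟨k, hk⟩ := hV.exists_card_eq
    rw [hk, Nat.card_zpowers]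
    exact Nat.Coprime.pow_right _ ((Nat.Prime.coprime_iff_not_dvd Fact.out).2 hp).symm
  have hsolv : Group.IsSolvable (Subgroup.zpowers g) ∨ Group.IsSolvable V := by
    left
    infer_instance
  obtain ⟨v1, hv1, hfix⟩ := Solvable.Glauberman.exists_smul_fixed (Subgroup.zpowers g) V hAK hcop hsolv
    (X := G ⧸ P0) (QuotientGroup.mk 1) (by
      intro a ha
      obtain ⟨v, hv, h⟩ := hfac a (hz a ha)
      refine ⟨v, hv, ?_⟩
      change (QuotientGroup.mk (a * 1) : G ⧸ P0) = QuotientGroup.mk (v * 1)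
      rw [eq_comm, QuotientGroup.eq]
      simpa using h)
  have h1 : v1⁻¹ * g * v1 ∈ P0 := by
    have h2 := hfix g (Subgroup.mem_zpowers g)
    change (QuotientGroup.mk (g * (v1 * 1)) : G ⧸ P0) = QuotientGroup.mk (v1 * 1) at h2
    rw [eq_comm, QuotientGroup.eq] at h2
    have e : (v1 * 1)⁻¹ * (g * (v1 * 1)) = v1⁻¹ * g * v1 := by group
    rwa [e] at h2
  have key : ∀ v ∈ V, v⁻¹ * g * v ∈ P0 → (v * v1⁻¹) * g = g * (v * v1⁻¹) := by
    intro v hv h2
    set w := v1⁻¹ * v with hw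
    have hwV : w ∈ V := mul_mem (inv_mem hv1) hv
    -- `w⁻¹ (g1 w g1⁻¹) = (v⁻¹ g v) g1⁻¹`
    have h3 : w⁻¹ * ((v1⁻¹ * g * v1) * w * (v1⁻¹ * g * v1)⁻¹) = (v⁻¹ * g * v) * (v1⁻¹ * g * v1)⁻¹ := by
      rw [hw]; group
    have h4 : (v1⁻¹ * g * v1) * w * (v1⁻¹ * g * v1)⁻¹ ∈ V :=
      hnorm _ (mul_mem (mul_mem (inv_mem (hVP hv1)) hg) (hVP hv1)) w hwV
    have h5 : (v⁻¹ * g * v) * (v1⁻¹ * g * v1)⁻¹ = 1 := by
      apply hfree
      · rw [← h3]
        exact mul_mem (inv_mem hwV) h4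
      · exact mul_mem h2 (inv_mem h1)
    rw [mul_inv_eq_one] at h5
    calc (v * v1⁻¹) * g = v * (v1⁻¹ * g * v1) * v1⁻¹ := by group
      _ = v * (v⁻¹ * g * v) * v1⁻¹ := by rw [h5]
      _ = g * (v * v1⁻¹) := by group
  symm
  refine Nat.card_congr (Equiv.ofBijective (fun c : ↥(V ⊓ Subgroup.centralizer ({g} : Set G)) =>
    (⟨⟨(c : G) * v1, mul_mem c.2.1 hv1⟩, ?_⟩ : {v : V // (v : G)⁻¹ * g * v ∈ P0})) ⟨?_, ?_⟩)
  · have h2 := Subgroup.mem_centralizer_singleton_iff.1 c.2.2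
    have e : ((c : G) * v1)⁻¹ * g * ((c : G) * v1) = v1⁻¹ * ((c : G)⁻¹ * (g * c)) * v1 := by group
    change ((c : G) * v1)⁻¹ * g * ((c : G) * v1) ∈ P0
    rw [e, ← h2, inv_mul_cancel_left]
    exact h1
  · intro c c' h
    have h2 := congrArg (fun x : {v : V // (v : G)⁻¹ * g * v ∈ P0} => ((x : V) : G)) h
    exact Subtype.ext (mul_right_cancel h2)
  · rintro ⟨⟨v, hv⟩, h2⟩
    refine ⟨⟨v * v1⁻¹, V.mul_mem hv (V.inv_mem hv1), ?_⟩, ?_⟩
    · exact Subgroup.mem_centralizer_singleton_iff.2 (key v hv h2)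
    · apply Subtype.ext
      apply Subtype.ext
      exact inv_mul_cancel_right v v1

variable {I : Type*} [DecidableEq I] {M : CoxeterMatrix I} {W : Type*} [Group W] {cs : CoxeterSystem M W}
  {C : Type*} [Finite W] (Δ : Bldg cs C) {G : Type*} [Group G] [MulAction G C]
  (hiso : ∀ (g : G) (x y : C), Δ.δ (g • x) (g • y) = Δ.δ x y)

/-- The stabiliser of a residue. -/
def stabRes (x : C) (K : Finset I) : Subgroup G where
  carrier := {k | Δ.δ x (k • x) ∈ WJ cs (K : Set I)}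
  mul_mem' := by
    intro k k' h h'
    have h2 : Δ.δ (k • x) ((k * k') • x) ∈ WJ cs (K : Set I) := by rw [mul_smul, hiso]; exact h'
    exact Δ.mem_Res_trans h h2
  one_mem' := by
    show Δ.δ x ((1 : G) • x) ∈ WJ cs (K : Set I)
    rw [one_smul]
    exact Δ.self_mem_Res _ _
  inv_mem' := by
    intro k h
    show Δ.δ x (k⁻¹ • x) ∈ WJ cs (K : Set I)
    rw [← hiso k, smul_inv_smul]
    exact Δ.mem_Res_symm h

theorem mem_stabRes {x : C} {K : Finset I} {k : G} : k ∈ stabRes Δ hiso x K ↔ Δ.δ x (k • x) ∈ WJ cs (K : Set I) :=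
  Iff.rfl

/-- The number of the residues opposite to the `K`-residue of `c` fixed by `g`. -/
theorem card_fixed_opp [Fintype C] (htr : ∀ x y x' y', Δ.δ x y = Δ.δ x' y' → ∃ g : G, g • x = x' ∧ g • y = y')
    (c a0 : C) (ha0 : Δ.Opp c a0) (K : Finset I) (V : Subgroup G)
    (hVP : ∀ v ∈ V, Δ.δ c (v • c) ∈ WJ cs (K : Set I))
    (hfac : ∀ x : G, Δ.δ c (x • c) ∈ WJ cs (K : Set I) → ∃ v ∈ V, v⁻¹ * x ∈ stabRes Δ hiso a0 (opK cs K))
    (hfree : ∀ v ∈ V, v ∈ stabRes Δ hiso a0 (opK cs K) → v = 1) (g : G) :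
    Nat.card {x : OppRes Δ c K // opK cs K ⊆ (oSys Δ c K).N x ∧ Δ.δ x.1 (g • x.1) ∈ WJ cs (opK cs K : Set I)} =
      Nat.card {v : V // (v : G)⁻¹ * g * v ∈ stabRes Δ hiso a0 (opK cs K)} := by
  have : Finite (OppRes Δ c K) := Subtype.finite
  have : Fintype (OppRes Δ c K) := Fintype.ofFinite _
  set S := oSys Δ c K with hS
  have hsub : opK cs K ⊆ opK cs K := Finset.Subset.refl _
  have heq := S.equiv (opK cs K) hsub
  have hr : ∀ x y : C, ∀ k : G, Δ.δ x y ∈ WJ cs (opK cs K : Set I) →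
      Δ.δ (k • x) (k • y) ∈ WJ cs (opK cs K : Set I) := fun x y k h => by rwa [hiso]
  -- the opposite chambers `v • a0`
  have hmem : ∀ v : V, w0 cs * Δ.δ c ((v : G) • a0) ∈ WJ cs (opK cs K : Set I) := fun v =>
    mem_smul Δ hiso (hVP v v.2) (opp_mem Δ K ha0)
  let F : V → OppRes Δ c K := fun v => ((S.gt hsub ⟨(v : G) • a0, hmem v⟩ : {i // opK cs K ⊆ S.N i}) : OppRes Δ c K)
  have hF : ∀ v : V, Δ.δ ((v : G) • a0) (F v).1 ∈ WJ cs (opK cs K : Set I) := fun v =>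
    S.gt_rel hsub ⟨(v : G) • a0, hmem v⟩
  have hfix : ∀ v : V, Δ.δ (F v).1 (g • (F v).1) ∈ WJ cs (opK cs K : Set I) ↔
      (v : G)⁻¹ * g * v ∈ stabRes Δ hiso a0 (opK cs K) := by
    intro v
    rw [mem_stabRes, ← hiso (v : G) a0]
    have e : (v : G) • ((v : G)⁻¹ * g * v) • a0 = g • (v : G) • a0 := by
      rw [smul_smul, smul_smul]
      congr 1
      group
    rw [e]
    constructor
    · intro h
      exact Δ.mem_Res_trans (hF v) (Δ.mem_Res_trans h (Δ.mem_Res_symm (hr _ _ g (hF v))))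
    · intro h
      exact Δ.mem_Res_trans (Δ.mem_Res_symm (hF v)) (Δ.mem_Res_trans h (hr _ _ g (hF v)))
  symm
  refine Nat.card_congr (Equiv.ofBijective (fun v : {v : V // (v : G)⁻¹ * g * v ∈ stabRes Δ hiso a0 (opK cs K)} =>
    (⟨F v.1, (S.gt hsub _).2, (hfix v.1).2 v.2⟩ :
      {x : OppRes Δ c K // opK cs K ⊆ S.N x ∧ Δ.δ x.1 (g • x.1) ∈ WJ cs (opK cs K : Set I)})) ⟨?_, ?_⟩)
  · intro v v' h
    have h1 : F v.1 = F v'.1 := congrArg (fun x : {x : OppRes Δ c K // opK cs K ⊆ S.N x ∧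
      Δ.δ x.1 (g • x.1) ∈ WJ cs (opK cs K : Set I)} => x.1) h
    apply Subtype.ext
    apply Subtype.ext
    have h2 : Δ.δ (((v.1 : V) : G) • a0) (((v'.1 : V) : G) • a0) ∈ WJ cs (opK cs K : Set I) := by
      have h3 := hF v'.1
      rw [← h1] at h3
      exact Δ.mem_Res_trans (hF v.1) (Δ.mem_Res_symm h3)
    have h4 : ((v.1 : V) : G)⁻¹ * ((v'.1 : V) : G) = 1 := by
      apply hfree _ (mul_mem (inv_mem v.1.2) v'.1.2)
      rw [mem_stabRes, ← hiso ((v.1 : V) : G), smul_smul, mul_inv_cancel_left]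
      exact h2
    exact inv_mul_eq_one.1 h4
  · rintro ⟨x, hx, hx2⟩
    -- a chamber opposite to `c` in the residue of `x`
    obtain ⟨z, hz, hz2⟩ := Δ.exists_δ_mul_mem_Res (J := (opK cs K : Set I)) c (Δ.self_mem_Res _ x.1)
      (inv_mem x.2)
    have hz3 : Δ.δ c z = w0 cs := by
      rw [hz2, mul_inv_rev, w0_inv, mul_inv_cancel_left]
    obtain ⟨b, hb1, hb2⟩ := htr c a0 c z (by rw [hz3]; exact ha0)
    obtain ⟨v, hv, hvb⟩ := hfac b (by rw [hb1]; exact Δ.self_mem_Res _ _)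
    have h1 : Δ.δ (v • a0) x.1 ∈ WJ cs (opK cs K : Set I) := by
      rw [mem_stabRes, ← hiso v, smul_smul, mul_inv_cancel_left, hb2] at hvb
      exact Δ.mem_Res_trans hvb (Δ.mem_Res_symm hz)
    have h2 : F ⟨v, hv⟩ = x := by
      have := (S.gt_eq_iff hsub (x := ⟨v • a0, hmem ⟨v, hv⟩⟩) (y := ⟨x, hx⟩)).2 h1
      exact congrArg Subtype.val this
    have h3 := (hfix ⟨v, hv⟩).1 (by rw [h2]; exact hx2)
    exact ⟨⟨⟨v, hv⟩, h3⟩, Subtype.ext h2⟩

/-- **The value at an element fixing a residue of minimal rank**. -/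
theorem character_eq_card [Fintype C] [Finite G] {p : ℕ} [Fact p.Prime]
    (htr : ∀ x y x' y', Δ.δ x y = Δ.δ x' y' → ∃ g : G, g • x = x' ∧ g • y = y')
    (c a0 : C) (ha0 : Δ.Opp c a0)
    (hap : ∀ y, Δ.Opp c y → ∃ a : W → C, (∀ v w, Δ.δ (a v) (a w) = v⁻¹ * w) ∧ a 1 = c ∧ a (w0 cs) = y)
    (K : Finset I) (V : Subgroup G) (hV : IsPGroup p V)
    (hVP : ∀ v ∈ V, Δ.δ c (v • c) ∈ WJ cs (K : Set I))
    (hnorm : ∀ x : G, Δ.δ c (x • c) ∈ WJ cs (K : Set I) → ∀ v ∈ V, x * v * x⁻¹ ∈ V)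
    (hfac : ∀ x : G, Δ.δ c (x • c) ∈ WJ cs (K : Set I) → ∃ v ∈ V, v⁻¹ * x ∈ stabRes Δ hiso a0 (opK cs K))
    (hfree : ∀ v ∈ V, v ∈ stabRes Δ hiso a0 (opK cs K) → v = 1) {g : G}
    (hg : Δ.δ c (g • c) ∈ WJ cs (K : Set I))
    (hmin : ∀ (x : C) (L : Finset I), Δ.δ x (g • x) ∈ WJ cs (L : Set I) → K.card ≤ L.card)
    (hp : ¬ p ∣ orderOf g) :
    (stRep Δ hiso).character g = (-1 : ℂ) ^ (opK cs K).card *
      (Nat.card ↥(V ⊓ Subgroup.centralizer ({g} : Set G)) : ℂ) := by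
  rw [character_min Δ hiso c K hap ⟨a0, ha0⟩ hg hmin,
    card_fixed_opp Δ hiso htr c a0 ha0 K V hVP hfac hfree g,
    card_conj_eq V (stabRes Δ hiso a0 (opK cs K)) (stabRes Δ hiso c K) hV hVP hnorm hfac hfree hg hp]

/-- An irreducible character of degree the `p`-part of `|G|` with a value `± p ^ k` at `g`, where `p ^ k` is the order
of a `p`-subgroup of `C(g)`. -/
theorem eq_of_pow {G : Type*} [Group G] [Finite G] {p : ℕ} [Fact p.Prime] {χ : G → ℂ} (hχ : IsIrrCharacter G χ)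
    (hdeg : χ 1 = ((p ^ (Nat.card G).factorization p : ℕ) : ℂ)) {g : G} {ε : ℂ} (hε : ε = 1 ∨ ε = -1)
    (Q : Subgroup G) (hQ : IsPGroup p Q) (hQg : Q ≤ Subgroup.centralizer ({g} : Set G))
    (hv : χ g = ε * (Nat.card Q : ℂ)) :
    Nat.card Q = p ^ (Nat.card ↥(Subgroup.centralizer ({g} : Set G))).factorization p := by
  have hpp : p.Prime := Fact.out
  obtain ⟨k, hk⟩ := hQ.exists_card_eq
  set Cg := Subgroup.centralizer ({g} : Set G) with hCg
  have hCpos : Nat.card Cg ≠ 0 := Nat.card_pos.ne'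
  have hGpos : Nat.card G ≠ 0 := Nat.card_pos.ne'
  have hipos : Cg.index ≠ 0 := Subgroup.index_ne_zero_of_finite
  have h1 : k ≤ (Nat.card Cg).factorization p := by
    rw [← hpp.pow_dvd_iff_le_factorization hCpos, ← hk]
    exact Subgroup.card_dvd_of_le hQg
  obtain ⟨n, ρ, hρ, rfl⟩ := hχ
  have hint := Characters.CentralCharacter.isIntegral_index_mul_character_div ρ g
  have hd : (Module.finrank ℂ (Fin n → ℂ) : ℂ) = ((p ^ (Nat.card G).factorization p : ℕ) : ℂ) := by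
    rw [← hdeg, Representation.char_one]
  rw [hd, hv, hk] at hint
  set a := (Nat.card G).factorization p with ha
  have hpa : ((p ^ a : ℕ) : ℂ) ≠ 0 := Nat.cast_ne_zero.2 (pow_ne_zero _ hpp.ne_zero)
  -- remove the sign
  have hint2 : IsIntegral ℤ (((Cg.index * p ^ k : ℕ) : ℂ) / ((p ^ a : ℕ) : ℂ)) := by
    rcases hε with h | h
    · rw [h, one_mul] at hint
      push_cast at hint ⊢
      exact hint
    · rw [h] at hint
      have := hint.neg
      push_cast at this ⊢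
      have e : -((Cg.index : ℂ) * (-1 * (p : ℂ) ^ k) / (p : ℂ) ^ a) = (Cg.index : ℂ) * (p : ℂ) ^ k / (p : ℂ) ^ a := by
        ring
      rwa [e] at this
  have h2 : p ^ a ∣ Cg.index * p ^ k := by
    have h3 : (((Cg.index * p ^ k : ℕ) : ℂ) / ((p ^ a : ℕ) : ℂ)) =
        algebraMap ℚ ℂ (((Cg.index * p ^ k : ℕ) : ℚ) / ((p ^ a : ℕ) : ℚ)) := by
      simp
    rw [h3, isIntegral_algebraMap_iff (algebraMap ℚ ℂ).injective] at hint2
    obtain ⟨z, hz⟩ := IsIntegrallyClosed.isIntegral_iff.1 hint2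
    have hpa' : ((p ^ a : ℕ) : ℚ) ≠ 0 := Nat.cast_ne_zero.2 (pow_ne_zero _ hpp.ne_zero)
    rw [eq_div_iff hpa'] at hz
    have h4 : z * ((p ^ a : ℕ) : ℤ) = ((Cg.index * p ^ k : ℕ) : ℤ) := by
      have : ((z * ((p ^ a : ℕ) : ℤ) : ℤ) : ℚ) = (((Cg.index * p ^ k : ℕ) : ℤ) : ℚ) := by
        push_cast
        push_cast at hz
        exact hz
      exact_mod_cast this
    exact Int.natCast_dvd_natCast.1 ⟨z, by rw [← h4]; ring⟩
  have h3 : (Nat.card Cg).factorization p ≤ k := by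
    have h4 := (hpp.pow_dvd_iff_le_factorization (mul_ne_zero hipos (pow_ne_zero _ hpp.ne_zero))).1 h2
    rw [Nat.factorization_mul hipos (pow_ne_zero _ hpp.ne_zero), Nat.factorization_pow] at h4
    simp only [Finsupp.coe_add, Pi.add_apply, Finsupp.coe_smul, Pi.smul_apply, smul_eq_mul,
      hpp.factorization_self, mul_one] at h4
    have h5 : a = (Nat.card Cg).factorization p + Cg.index.factorization p := by
      rw [ha, ← Cg.card_mul_index, Nat.factorization_mul hCpos hipos]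
      rfl
    omega
  rw [hk, le_antisymm h1 h3]

/-- **The Steinberg character at a `p`-regular element.** -/
theorem value [Fintype I] [Fintype C] [Finite G] {p : ℕ} [Fact p.Prime]
    (htr : ∀ x y x' y', Δ.δ x y = Δ.δ x' y' → ∃ g : G, g • x = x' ∧ g • y = y')
    (c a0 : C) (ha0 : Δ.Opp c a0)
    (hap : ∀ y, Δ.Opp c y → ∃ a : W → C, (∀ v w, Δ.δ (a v) (a w) = v⁻¹ * w) ∧ a 1 = c ∧ a (w0 cs) = y)
    (V : Finset I → Subgroup G) (hV : ∀ K, IsPGroup p (V K))
    (hVP : ∀ K, ∀ v ∈ V K, Δ.δ c (v • c) ∈ WJ cs (K : Set I))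
    (hnorm : ∀ (K : Finset I) (x : G), Δ.δ c (x • c) ∈ WJ cs (K : Set I) → ∀ v ∈ V K, x * v * x⁻¹ ∈ V K)
    (hfac : ∀ (K : Finset I) (x : G), Δ.δ c (x • c) ∈ WJ cs (K : Set I) →
      ∃ v ∈ V K, v⁻¹ * x ∈ stabRes Δ hiso a0 (opK cs K))
    (hfree : ∀ (K : Finset I), ∀ v ∈ V K, v ∈ stabRes Δ hiso a0 (opK cs K) → v = 1)
    (hirr : IsIrrCharacter G (stRep Δ hiso).character)
    (hdeg : (stRep Δ hiso).character 1 = ((p ^ (Nat.card G).factorization p : ℕ) : ℂ)) (g : G)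
    (hp : ¬ p ∣ orderOf g) :
    (stRep Δ hiso).character g =
        ((p ^ (Nat.card ↥(Subgroup.centralizer ({g} : Set G))).factorization p : ℕ) : ℂ) ∨
      (stRep Δ hiso).character g =
        -((p ^ (Nat.card ↥(Subgroup.centralizer ({g} : Set G))).factorization p : ℕ) : ℂ) := by
  classical
  -- a fixed residue of minimal rank
  have hex : ∃ n : ℕ, ∃ (x : C) (K : Finset I), Δ.δ x (g • x) ∈ WJ cs (K : Set I) ∧ K.card = n := by
    refine ⟨_, c, Finset.univ, ?_, rfl⟩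
    rw [Finset.coe_univ]
    exact mem_WJ_univ cs _
  obtain ⟨x, K, hx, hK⟩ := Nat.find_spec hex
  have hmin : ∀ (y : C) (L : Finset I), Δ.δ y (g • y) ∈ WJ cs (L : Set I) → K.card ≤ L.card := by
    intro y L hy
    rw [hK]
    exact Nat.find_min' hex ⟨y, L, hy, rfl⟩
  obtain ⟨h, hh, -⟩ := htr c c x x (by rw [(Δ.eq_one c c).2 rfl, (Δ.eq_one x x).2 rfl])
  set g' := h⁻¹ * g * h with hg'
  have hconj : g = h * g' * h⁻¹ := by rw [hg']; group
  have hg'c : Δ.δ c (g' • c) ∈ WJ cs (K : Set I) := by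
    rw [← hiso h, hh, smul_smul, hg']
    have : h * (h⁻¹ * g * h) = g * h := by group
    rw [this, mul_smul, hh]
    exact hx
  have hmin' : ∀ (y : C) (L : Finset I), Δ.δ y (g' • y) ∈ WJ cs (L : Set I) → K.card ≤ L.card := by
    intro y L hy
    apply hmin (h • y) L
    rw [← hiso h, smul_smul] at hy
    have : h * g' = g * h := by rw [hg']; group
    rwa [this, mul_smul] at hy
  have hord : orderOf g' = orderOf g := by
    have := orderOf_injective (MulAut.conj h).toMonoidHom (MulAut.conj h).injective g'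
    rw [← this, hconj]
    rfl
  have hval := character_eq_card Δ hiso (p := p) htr c a0 ha0 hap K (V K) (hV K) (hVP K) (hnorm K) (hfac K)
    (hfree K) hg'c hmin' (by rw [hord]; exact hp)
  have hcl : (stRep Δ hiso).character g = (stRep Δ hiso).character g' := by
    rw [hconj, Representation.char_conj]
  have hε : ((-1 : ℂ) ^ (opK cs K).card = 1 ∨ (-1 : ℂ) ^ (opK cs K).card = -1) := neg_one_pow_eq_or ℂ _
  have hcard : Nat.card ↥(Subgroup.centralizer ({g'} : Set G)) = Nat.card ↥(Subgroup.centralizer ({g} : Set G)) := by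
    refine Nat.card_congr ⟨fun y => ⟨h * y * h⁻¹, ?_⟩, fun y => ⟨h⁻¹ * y * h, ?_⟩, ?_, ?_⟩
    · have := Subgroup.mem_centralizer_singleton_iff.1 y.2
      rw [Subgroup.mem_centralizer_singleton_iff, hconj]
      calc h * (y : G) * h⁻¹ * (h * g' * h⁻¹) = h * ((y : G) * g') * h⁻¹ := by group
        _ = h * (g' * y) * h⁻¹ := by rw [this]
        _ = _ := by group
    · have := Subgroup.mem_centralizer_singleton_iff.1 y.2
      rw [Subgroup.mem_centralizer_singleton_iff, hg']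
      calc h⁻¹ * (y : G) * h * (h⁻¹ * g * h) = h⁻¹ * ((y : G) * g) * h := by group
        _ = h⁻¹ * (g * y) * h := by rw [this]
        _ = _ := by group
    · intro y
      apply Subtype.ext
      change h⁻¹ * (h * (y : G) * h⁻¹) * h = y
      group
    · intro y
      apply Subtype.ext
      change h * (h⁻¹ * (y : G) * h) * h⁻¹ = y
      group
  have hfin := eq_of_pow (p := p) hirr hdeg (g := g') hε (V K ⊓ Subgroup.centralizer ({g'} : Set G))
    (IsPGroup.to_le (hV K) inf_le_left) inf_le_right hval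
  rw [hcl, hval, hfin, hcard]
  rcases hε with h1 | h1
  · left
    rw [h1, one_mul]
  · right
    rw [h1, neg_one_mul]

end Cfsg.Agent.H114.StRegular
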