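import Cfsg.Agent.H167.AltBldg

/-!
# The value of the Steinberg module at an element fixing a residue of minimal rank (helper114)

* `character_min` : if `g` fixes the `K`-residue of `c` and no residue of smaller rank, the value of the character of
  the Steinberg module of a finite building at `g` is `(-1) ^ |K|` times the number of residues opposite to the
  `K`-residue of `c` which are fixed by `g`.
-/

set_option autoImplicit false
set_option linter.unusedSectionVars false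

namespace Cfsg.Agent.H114.StValue

open Cfsg Cfsg.Agent.Tits.Core Cfsg.Agent.Tits.Core.Bldg Cfsg.Agent.Tits.Exchange Cfsg.Agent.H167.AltTrace
  Cfsg.Agent.H167.SteinbergMod Cfsg.Agent.H167.AltBldg

variable {I : Type*} [DecidableEq I] {M : CoxeterMatrix I} {W : Type*} [Group W] {cs : CoxeterSystem M W}
  {C : Type*}

/-- The opposite type. -/
noncomputable def opK (cs : CoxeterSystem M W) (K : Finset I) : Finset I := K.image (op cs)

theorem coe_opK (K : Finset I) : ((opK cs K : Finset I) : Set I) = op cs '' (K : Set I) := Finset.coe_image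

section

variable [Finite W] (Δ : Bldg cs C)

/-- The chambers opposite to some chamber of the `K`-residue of `c`. -/
abbrev OppRes (c : C) (K : Finset I) : Type _ := {x : C // w0 cs * Δ.δ c x ∈ WJ cs (opK cs K : Set I)}

theorem mem_closed {c : C} {K : Finset I} {x y : C} (hx : w0 cs * Δ.δ c x ∈ WJ cs (opK cs K : Set I))
    (hxy : Δ.δ x y ∈ WJ cs (opK cs K : Set I)) : w0 cs * Δ.δ c y ∈ WJ cs (opK cs K : Set I) := by
  obtain ⟨t, ht, h⟩ := Δ.exists_mul_of_mem c hxy
  rw [h, ← mul_assoc]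
  exact mul_mem hx ht

variable {G : Type*} [Group G] [MulAction G C] (hiso : ∀ (g : G) (x y : C), Δ.δ (g • x) (g • y) = Δ.δ x y)

include hiso in
theorem mem_smul {c : C} {K : Finset I} {g : G} (hg : Δ.δ c (g • c) ∈ WJ cs (K : Set I)) {x : C}
    (hx : w0 cs * Δ.δ c x ∈ WJ cs (opK cs K : Set I)) : w0 cs * Δ.δ c (g • x) ∈ WJ cs (opK cs K : Set I) := by
  obtain ⟨t, ht, h⟩ := Δ.exists_mul_of_mem_left (g • x) hg
  rw [hiso] at h
  have h1 := w0_conj_mem_WJ cs ht
  rw [← coe_opK] at h1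
  have h2 : w0 cs * Δ.δ c (g • x) = (w0 cs * t * w0 cs) * (w0 cs * Δ.δ c x) := by
    rw [h]
    have : (w0 cs * t * w0 cs) * (w0 cs * Δ.δ c x) = w0 cs * t * (w0 cs * w0 cs) * Δ.δ c x := by
      simp only [mul_assoc]
    rw [this, w0_mul_self, mul_one]
    simp only [mul_assoc]
  rw [h2]
  exact mul_mem h1 hx

/-- The action on the chambers opposite to the `K`-residue of `c`. -/
@[reducible] def actOpp (c : C) (K : Finset I) (P : Subgroup G) (hP : ∀ g ∈ P, Δ.δ c (g • c) ∈ WJ cs (K : Set I)) :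
    MulAction P (OppRes Δ c K) where
  smul g x := ⟨(g : G) • x.1, mem_smul Δ hiso (hP g g.2) x.2⟩
  one_smul x := Subtype.ext (one_smul G x.1)
  mul_smul g h x := Subtype.ext (mul_smul (g : G) (h : G) x.1)

/-- The system of residues. -/
noncomputable def oSys (c : C) (K : Finset I) : Sys (OppRes Δ c K) (opK cs K) :=
  resSys Δ (opK cs K) (fun x : OppRes Δ c K => x.1) Subtype.val_injective
    (fun x y hxy => ⟨⟨y, mem_closed Δ x.2 hxy⟩, rfl⟩) c

theorem r_oSys (c : C) (K L : Finset I) (x y : OppRes Δ c K) :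
    (oSys Δ c K).r L x y ↔ Δ.δ x.1 y.1 ∈ WJ cs (L : Set I) := Iff.rfl

theorem mem_N_oSys (c : C) (K : Finset I) (x : OppRes Δ c K) (i : I) :
    i ∈ (oSys Δ c K).N x ↔ i ∈ opK cs K ∧ cs.length (Δ.δ c x.1) < cs.length (Δ.δ c x.1 * cs.simple i) := by
  classical
  unfold oSys resSys
  simp

theorem N_eq_empty_iff (c : C) (K : Finset I) (x : OppRes Δ c K) : (oSys Δ c K).N x = ∅ ↔ Δ.Opp c x.1 := by
  unfold Bldg.Opp
  constructor
  · intro h
    have h1 : IsMinR cs (opK cs K : Set I) (w0 cs * Δ.δ c x.1) := by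
      rw [isMinR_iff]
      intro i hi
      have h2 : ¬ (cs.length (Δ.δ c x.1) < cs.length (Δ.δ c x.1 * cs.simple i)) := by
        intro h3
        have h4 : i ∈ (oSys Δ c K).N x := (mem_N_oSys Δ c K x i).2 ⟨Finset.mem_coe.1 hi, h3⟩
        rw [h] at h4
        exact absurd h4 (Finset.notMem_empty i)
      have h3 := cs.length_mul_simple_ne (Δ.δ c x.1) i
      have h4 := length_w0_mul cs (Δ.δ c x.1)
      have h5 := length_w0_mul cs (Δ.δ c x.1 * cs.simple i)
      rw [← mul_assoc] at h5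
      omega
    have h2 := h1 _ (inv_mem x.2)
    rw [mul_inv_cancel, cs.length_one, cs.length_inv] at h2
    have h3 : w0 cs * Δ.δ c x.1 = 1 := cs.length_eq_zero_iff.1 (by omega)
    have h4 : Δ.δ c x.1 = w0 cs * (w0 cs * Δ.δ c x.1) := by rw [← mul_assoc, w0_mul_self, one_mul]
    rw [h4, h3, mul_one]
  · intro h
    rw [Finset.eq_empty_iff_forall_notMem]
    intro i hi
    have h1 := ((mem_N_oSys Δ c K x i).1 hi).2
    rw [h] at h1
    have h2 := length_le_w0 cs (w0 cs * cs.simple i)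
    omega

variable [Fintype C]

/-- Restriction to the chambers opposite to the residue. -/
noncomputable def res (c : C) (K : Finset I) [Fintype (OppRes Δ c K)] : Harm Δ →ₗ[ℂ] (oSys Δ c K).harm where
  toFun f := ⟨fun x => (f : C → ℂ) x.1, by
    classical
    intro t ht x
    have h1 := (mem_Harm Δ).1 f.2 t x.1
    refine Eq.trans ?_ h1
    have h2 : ∀ y : C, (if y ∈ Δ.Pan t x.1 then (f : C → ℂ) y else 0) ≠ 0 →
        ∃ z : OppRes Δ c K, z.1 = y := by
      intro y hy
      have hy' : y ∈ Δ.Pan t x.1 := by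
        by_contra hn
        rw [if_neg hn] at hy
        exact hy rfl
      rw [Δ.Pan_eq_Res, Δ.mem_Res] at hy'
      exact ⟨⟨y, mem_closed Δ x.2 (WJ_mono cs (Set.singleton_subset_iff.2 (Finset.mem_coe.2 ht)) hy')⟩, rfl⟩
    have h3 : ∑ y : C, (if y ∈ Δ.Pan t x.1 then (f : C → ℂ) y else 0) =
        ∑ z : OppRes Δ c K, (if z.1 ∈ Δ.Pan t x.1 then (f : C → ℂ) z.1 else 0) := by
      have h5 := Finset.sum_map Finset.univ ⟨fun z : OppRes Δ c K => z.1, Subtype.val_injective⟩
        (fun y => if y ∈ Δ.Pan t x.1 then (f : C → ℂ) y else 0)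
      refine Eq.trans ?_ h5
      symm
      apply Finset.sum_subset (Finset.subset_univ _)
      intro y _ hy
      by_contra hne
      obtain ⟨z, hz⟩ := h2 y hne
      exact hy (Finset.mem_map.2 ⟨z, Finset.mem_univ _, hz⟩)
    rw [h3]
    refine Finset.sum_congr rfl fun z _ => ?_
    have h4 : (oSys Δ c K).r {t} x z ↔ z.1 ∈ Δ.Pan t x.1 := by
      rw [r_oSys, Δ.Pan_eq_Res, Δ.mem_Res, Finset.coe_singleton]
    by_cases h5 : z.1 ∈ Δ.Pan t x.1
    · rw [if_pos h5, if_pos (h4.2 h5)]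
    · rw [if_neg h5, if_neg (fun h6 => h5 (h4.1 h6))]⟩
  map_add' _ _ := rfl
  map_smul' _ _ := rfl

theorem res_apply (c : C) (K : Finset I) [Fintype (OppRes Δ c K)] (f : Harm Δ) (x : OppRes Δ c K) :
    ((res Δ c K f : (oSys Δ c K).harm) : OppRes Δ c K → ℂ) x = (f : C → ℂ) x.1 := rfl

theorem opp_mem {c : C} (K : Finset I) {y : C} (hy : Δ.Opp c y) :
    w0 cs * Δ.δ c y ∈ WJ cs (opK cs K : Set I) := by
  rw [show Δ.δ c y = w0 cs from hy, w0_mul_self]
  exact one_mem _

theorem res_injective (c : C) (K : Finset I) [Fintype (OppRes Δ c K)] : Function.Injective (res Δ c K) := by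
  intro f f' h
  apply restr_injective Δ c
  funext y
  have h1 := congrArg (fun u : (oSys Δ c K).harm => (u : OppRes Δ c K → ℂ) ⟨y.1, opp_mem Δ K y.2⟩) h
  exact h1

/-- The Steinberg module is isomorphic to the harmonic functions on the chambers opposite to a residue. -/
noncomputable def resEquiv (c : C) (K : Finset I) [Fintype (OppRes Δ c K)]
    (hap : ∀ y, Δ.Opp c y → ∃ a : W → C, (∀ v w, Δ.δ (a v) (a w) = v⁻¹ * w) ∧ a 1 = c ∧ a (w0 cs) = y)
    (hne : ∃ y, Δ.Opp c y) : Harm Δ ≃ₗ[ℂ] (oSys Δ c K).harm :=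
  LinearEquiv.ofBijective (res Δ c K) (by
    have hE : Nonempty (OppRes Δ c K) := by
      obtain ⟨y, hy⟩ := hne
      exact ⟨⟨y, opp_mem Δ K hy⟩⟩
    have : Fintype {y // Δ.Opp c y} := Fintype.ofFinite _
    have h1 : Module.finrank ℂ (Harm Δ) = Module.finrank ℂ (oSys Δ c K).harm := by
      rw [(oSys Δ c K).finrank_harm, (LinearEquiv.ofBijective (restr Δ c)
        ⟨restr_injective Δ c, restr_surjective Δ c hap⟩).finrank_eq, Module.finrank_fintype_fun_eq_card,
        ← Nat.card_eq_fintype_card]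
      refine Nat.card_congr ⟨fun y => ⟨⟨y.1, opp_mem Δ K y.2⟩, (N_eq_empty_iff Δ c K _).2 y.2⟩,
        fun x => ⟨x.1.1, (N_eq_empty_iff Δ c K _).1 x.2⟩, fun _ => rfl, fun _ => rfl⟩
    exact ⟨res_injective Δ c K, (LinearMap.injective_iff_surjective_of_finrank_eq_finrank h1).1
      (res_injective Δ c K)⟩)

theorem resEquiv_apply (c : C) (K : Finset I) [Fintype (OppRes Δ c K)]
    (hap : ∀ y, Δ.Opp c y → ∃ a : W → C, (∀ v w, Δ.δ (a v) (a w) = v⁻¹ * w) ∧ a 1 = c ∧ a (w0 cs) = y)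
    (hne : ∃ y, Δ.Opp c y) (f : Harm Δ) : resEquiv Δ c K hap hne f = res Δ c K f := rfl

/-- **The alternating sum on the chambers opposite to a residue fixed by `g`.** -/
theorem character_res (c : C) (K : Finset I)
    (hap : ∀ y, Δ.Opp c y → ∃ a : W → C, (∀ v w, Δ.δ (a v) (a w) = v⁻¹ * w) ∧ a 1 = c ∧ a (w0 cs) = y)
    (hne : ∃ y, Δ.Opp c y) {g : G} (hg : Δ.δ c (g • c) ∈ WJ cs (K : Set I)) :
    (stRep Δ hiso).character g = ∑ L ∈ (opK cs K).powerset, (-1 : ℂ) ^ L.card *
      (Nat.card {x : OppRes Δ c K // L ⊆ (oSys Δ c K).N x ∧ Δ.δ x.1 (g • x.1) ∈ WJ cs (L : Set I)} : ℂ) := by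
  have : Finite (OppRes Δ c K) := Subtype.finite
  have : Fintype (OppRes Δ c K) := Fintype.ofFinite _
  have hE : Nonempty (OppRes Δ c K) := by
    obtain ⟨y, hy⟩ := hne
    exact ⟨⟨y, opp_mem Δ K hy⟩⟩
  have hP : ∀ k ∈ Subgroup.zpowers g, Δ.δ c (k • c) ∈ WJ cs (K : Set I) := by
    have h1 : ∀ k k' : G, Δ.δ c (k • c) ∈ WJ cs (K : Set I) → Δ.δ c (k' • c) ∈ WJ cs (K : Set I) →
        Δ.δ c ((k * k') • c) ∈ WJ cs (K : Set I) := by
      intro k k' h h'
      have h2 : Δ.δ (k • c) ((k * k') • c) ∈ WJ cs (K : Set I) := by rw [mul_smul, hiso]; exact h'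
      exact Δ.mem_Res_trans h h2
    have h2 : ∀ k : G, Δ.δ c (k • c) ∈ WJ cs (K : Set I) → Δ.δ c (k⁻¹ • c) ∈ WJ cs (K : Set I) := by
      intro k h
      rw [← hiso k, smul_inv_smul]
      exact Δ.mem_Res_symm h
    let S : Subgroup G :=
      { carrier := {k | Δ.δ c (k • c) ∈ WJ cs (K : Set I)}
        mul_mem' := fun {a b} ha hb => h1 a b ha hb
        one_mem' := by
          show Δ.δ c ((1 : G) • c) ∈ WJ cs (K : Set I)
          rw [one_smul]; exact Δ.self_mem_Res _ _
        inv_mem' := fun {a} ha => h2 a ha }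
    intro k hk
    have h3 : Subgroup.zpowers g ≤ S := by rw [Subgroup.zpowers_le]; exact hg
    exact h3 hk
  let _ := actOpp Δ hiso c K (Subgroup.zpowers g) hP
  set S := oSys Δ c K with hS
  have hr : ∀ L, L ⊆ opK cs K → ∀ (k : Subgroup.zpowers g) (x y : OppRes Δ c K), S.r L x y →
      S.r L (k • x) (k • y) := by
    intro L _ k x y h
    rw [hS, r_oSys] at h ⊢
    change Δ.δ ((k : G) • x.1) ((k : G) • y.1) ∈ _
    rwa [hiso]
  have h1 := S.trace_harm hr ⟨g, Subgroup.mem_zpowers g⟩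
  refine Eq.trans ?_ h1
  change LinearMap.trace ℂ (Harm Δ) (stRep Δ hiso g) = _
  rw [← LinearMap.trace_conj' (stRep Δ hiso g) (resEquiv Δ c K hap hne)]
  congr 1
  apply LinearMap.ext
  intro f
  obtain ⟨f', rfl⟩ := (resEquiv Δ c K hap hne).surjective f
  rw [LinearEquiv.conj_apply_apply, LinearEquiv.symm_apply_apply, resEquiv_apply, resEquiv_apply]
  rfl

/-- **The value of the Steinberg module** at an element `g` fixing the `K`-residue of `c` and no residue of smaller
rank. -/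
theorem character_min (c : C) (K : Finset I)
    (hap : ∀ y, Δ.Opp c y → ∃ a : W → C, (∀ v w, Δ.δ (a v) (a w) = v⁻¹ * w) ∧ a 1 = c ∧ a (w0 cs) = y)
    (hne : ∃ y, Δ.Opp c y) {g : G} (hg : Δ.δ c (g • c) ∈ WJ cs (K : Set I))
    (hmin : ∀ (x : C) (L : Finset I), Δ.δ x (g • x) ∈ WJ cs (L : Set I) → K.card ≤ L.card) :
    (stRep Δ hiso).character g = (-1 : ℂ) ^ (opK cs K).card *
      (Nat.card {x : OppRes Δ c K // opK cs K ⊆ (oSys Δ c K).N x ∧
        Δ.δ x.1 (g • x.1) ∈ WJ cs (opK cs K : Set I)} : ℂ) := by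
  classical
  rw [character_res Δ hiso c K hap hne hg]
  refine Finset.sum_eq_single_of_mem (opK cs K) (Finset.mem_powerset_self _) ?_
  intro L hL hne'
  rw [Finset.mem_powerset] at hL
  have hlt : L.card < K.card :=
    lt_of_lt_of_le (Finset.card_lt_card (lt_of_le_of_ne hL hne')) Finset.card_image_le
  have : IsEmpty {x : OppRes Δ c K // L ⊆ (oSys Δ c K).N x ∧ Δ.δ x.1 (g • x.1) ∈ WJ cs (L : Set I)} := by
    constructor
    rintro ⟨x, -, hx⟩
    have := hmin _ _ hx
    omega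
  rw [Nat.card_of_isEmpty, Nat.cast_zero, mul_zero]

end

end Cfsg.Agent.H114.StValue
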