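import Cfsg.Agent.H114.TyProd

/-!
# Determinants through the weight decomposition (helper114)

`R : SL₂(K) → End V` irreducible over an algebraically closed field, `|K| = r` an odd prime.

* `det_minus` : no `U`-fixed points, all weights once ⟹ `det (R u₁ - R u₋₁) = r`;
* `det_plus` : `dim V^U = 2`, all nonzero weights once ⟹
  `det (R u₁ - R u₋₁ + E₀ (R t - R t⁻¹) E₀) = - r (c - c⁻¹)²`, `c` an eigenvalue of `t` on `V^U`.
-/

set_option autoImplicit false
set_option linter.unusedSectionVars false

namespace Cfsg.Agent.H114.Ty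

open Matrix Module Cfsg Cfsg.Agent.H464.Sl2

variable {K : Type*} [Field K] [Fintype K] {k : Type*} [Field k] {V : Type*} [AddCommGroup V] [Module k V]
  [FiniteDimensional k V] (R : SpecialLinearGroup (Fin 2) K →* Module.End k V) {ψ : AddChar K k}
  (hψ : ψ.IsPrimitive) (hK : (Fintype.card K : k) ≠ 0)

theorem decomp_symm_single [DecidableEq K] (b : K) (x : LinearMap.range (E R ψ b)) :
    (decomp R hψ hK).symm (Pi.single b x) = (x : V) := by
  rw [LinearEquiv.symm_apply_eq]
  funext c
  apply Subtype.ext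
  change _ = E R ψ c (x : V)
  obtain ⟨y, hy⟩ := x.2
  by_cases h : c = b
  · subst h
    rw [Pi.single_eq_same, ← hy, ← Module.End.mul_apply, E_mul_self R hψ hK]
  · rw [Pi.single_eq_of_ne h, ← hy, ← Module.End.mul_apply, E_mul_of_ne R hψ hK h, LinearMap.zero_apply]
    rfl

include hψ hK in
theorem det_weights (T : Module.End k V) (d : K → k)
    (h : ∀ b, ∃ (m : ℕ) (s : Basis (Fin m) k (LinearMap.range (E R ψ b))) (c : Fin m → k),
      (∀ j, T (s j : V) = c j • (s j : V)) ∧ ∏ j, c j = d b) : LinearMap.det T = ∏ b, d b := by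
  classical
  choose m s c hs hd using h
  let B : Basis (Σ b : K, Fin (m b)) k V := (Pi.basis s).map (decomp R hψ hK).symm
  have hB : ∀ i, B i = (s i.1 i.2 : V) := by
    rintro ⟨b, j⟩
    change (decomp R hψ hK).symm (Pi.basis s ⟨b, j⟩) = _
    rw [Pi.basis_apply]
    exact decomp_symm_single R hψ hK b (s b j)
  rw [det_of_basis B T (fun i => c i.1 i.2) (fun i => by rw [hB]; exact hs i.1 i.2), Fintype.prod_sigma]
  exact Finset.prod_congr rfl fun b _ => hd b

theorem u_apply {b : K} (x : LinearMap.range (E R ψ b)) (y : K) (hE : E R ψ b (x : V) = x) :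
    R (u y) (x : V) = ψ (b * y) • (x : V) := by
  have h1 := congrArg (fun f : Module.End k V => f (x : V)) (R_mul_E R ψ b y)
  simp only [Module.End.mul_apply, hE, LinearMap.smul_apply] at h1
  exact h1

include hψ hK in
theorem E_apply_self {b : K} (x : LinearMap.range (E R ψ b)) : E R ψ b (x : V) = x := by
  obtain ⟨y, hy⟩ := x.2
  rw [← hy, ← Module.End.mul_apply, E_mul_self R hψ hK]

include hψ hK in
theorem E_apply_ne {b c : K} (h : b ≠ c) (x : LinearMap.range (E R ψ c)) : E R ψ b (x : V) = 0 := by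
  obtain ⟨y, hy⟩ := x.2
  rw [← hy, ← Module.End.mul_apply, E_mul_of_ne R hψ hK h, LinearMap.zero_apply]

include hψ hK in
/-- **Degree `q - 1`.** -/
theorem det_minus (hr : (Fintype.card K).Prime) (h2 : Odd (Fintype.card K))
    (h1 : ∀ b : K, b ≠ 0 → finrank k (LinearMap.range (E R ψ b)) = 1)
    (h0 : finrank k (LinearMap.range (E R ψ 0)) = 0) :
    LinearMap.det (R (u 1) - R (u (-1))) = (Fintype.card K : k) := by
  classical
  rw [det_weights R hψ hK _ (fun b => if b = 0 then 1 else ψ b - ψ (-b)) ?_, ← prod_sub_inv hr h2 hψ,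
    ← Finset.mul_prod_erase _ _ (Finset.mem_univ (0 : K)), if_pos rfl, one_mul]
  · exact Finset.prod_congr rfl fun b hb => by rw [if_neg (Finset.ne_of_mem_erase hb)]
  · intro b
    refine ⟨_, finBasis k _, fun _ => ψ b - ψ (-b), fun j => ?_, ?_⟩
    · rw [LinearMap.sub_apply, u_apply R _ _ (E_apply_self R hψ hK _), u_apply R _ _ (E_apply_self R hψ hK _),
        mul_one, mul_neg_one, sub_smul]
    · rw [Finset.prod_const, Finset.card_univ, Fintype.card_fin]
      by_cases hb : b = 0
      · rw [hb, h0, pow_zero, if_pos rfl]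
      · rw [h1 b hb, pow_one, if_neg hb]

theorem t_mul_w (a : Kˣ) : t a * w (1 : Kˣ) = w 1 * t a⁻¹ := by
  apply Subtype.ext
  ext i j
  fin_cases i <;> fin_cases j <;> simp

include hψ hK in
/-- **Degree `q + 1`.** -/
theorem det_plus (hspan : Submodule.span k (Set.range R) = ⊤) (hr : (Fintype.card K).Prime)
    (h2 : Odd (Fintype.card K))
    (h1 : ∀ b : K, b ≠ 0 → finrank k (LinearMap.range (E R ψ b)) = 1)
    (h0 : finrank k (LinearMap.range (E R ψ 0)) = 2) {v : V} (hv0 : v ≠ 0) (hv : E R ψ 0 v = v) (c : Kˣ → k)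
    (ht : ∀ a : Kˣ, R (t a) v = c a • v) (a : Kˣ) :
    LinearMap.det (R (u 1) - R (u (-1)) + E R ψ 0 * (R (t a) - R (t a⁻¹)) * E R ψ 0) =
      - (Fintype.card K : k) * (c a - c a⁻¹) ^ 2 := by
  classical
  have hle := fixed_aux R hψ hK hspan hv0 hv fun a => ⟨c a, ht a⟩
  set v' := E R ψ 0 (R (w 1) v) with hv'
  have ht' : ∀ a : Kˣ, R (t a) v' = c a⁻¹ • v' := by
    intro a
    have h3 := congrArg (fun f : Module.End k V => f (R (w 1) v)) (t_mul_E R ψ a 0)
    rw [zero_div] at h3
    simp only [Module.End.mul_apply] at h3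
    rw [hv', h3]
    have h4 := congrArg (fun g => R g v) (t_mul_w a)
    simp only [map_mul, Module.End.mul_apply] at h4
    rw [h4, ht, map_smul, map_smul]
  have hv'E : E R ψ 0 v' = v' := E_apply_self R hψ hK ⟨v', LinearMap.mem_range_self _ _⟩
  rw [det_weights R hψ hK _ (fun b => if b = 0 then -(c a - c a⁻¹) ^ 2 else ψ b - ψ (-b)) ?_, ← prod_sub_inv hr h2 hψ,
    ← Finset.mul_prod_erase _ _ (Finset.mem_univ (0 : K)), if_pos rfl]
  · rw [Finset.prod_congr rfl (g := fun b => ψ b - ψ (-b)) fun b hb => by rw [if_neg (Finset.ne_of_mem_erase hb)]]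
    ring
  · intro b
    by_cases hb : b = 0
    · subst hb
      let x : LinearMap.range (E R ψ 0) := ⟨v, by rw [← hv]; exact LinearMap.mem_range_self _ _⟩
      let y : LinearMap.range (E R ψ 0) := ⟨v', LinearMap.mem_range_self _ _⟩
      have hspan' : ⊤ ≤ Submodule.span k (Set.range ![x, y]) := by
        rintro ⟨z, hz⟩ -
        have h3 := hle hz
        rw [Submodule.mem_span_pair] at h3
        obtain ⟨α, β, h3⟩ := h3
        have h4 : (⟨z, hz⟩ : LinearMap.range (E R ψ 0)) = α • x + β • y := Subtype.ext h3.symm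
        rw [h4]
        exact Submodule.add_mem _ (Submodule.smul_mem _ _ (Submodule.subset_span ⟨0, rfl⟩))
          (Submodule.smul_mem _ _ (Submodule.subset_span ⟨1, rfl⟩))
      let s := basisOfTopLeSpanOfCardEqFinrank ![x, y] hspan' (by rw [h0, Fintype.card_fin])
      have hs : ∀ j, s j = ![x, y] j := fun j => by
        simp [s]
      refine ⟨2, s, ![c a - c a⁻¹, c a⁻¹ - c a], ?_, ?_⟩
      · intro j
        have hu : ∀ z : LinearMap.range (E R ψ 0), (R (u 1) - R (u (-1))) (z : V) = 0 := by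
          intro z
          rw [LinearMap.sub_apply, u_apply R _ _ (E_apply_self R hψ hK _), u_apply R _ _ (E_apply_self R hψ hK _),
            zero_mul, zero_mul, sub_self]
        rw [hs, LinearMap.add_apply, hu, zero_add]
        fin_cases j
        · change (E R ψ 0 * (R (t a) - R (t a⁻¹)) * E R ψ 0) v = (c a - c a⁻¹) • v
          rw [Module.End.mul_apply, Module.End.mul_apply, hv, LinearMap.sub_apply, ht, ht, ← sub_smul, map_smul, hv]
        · change (E R ψ 0 * (R (t a) - R (t a⁻¹)) * E R ψ 0) v' = (c a⁻¹ - c a) • v'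
          rw [Module.End.mul_apply, Module.End.mul_apply, hv'E, LinearMap.sub_apply, ht', ht', inv_inv, ← sub_smul,
            map_smul, hv'E]
      · rw [Fin.prod_univ_two, if_pos rfl]
        simp only [Matrix.cons_val_zero, Matrix.cons_val_one]
        ring
    · refine ⟨_, finBasis k _, fun _ => ψ b - ψ (-b), fun j => ?_, ?_⟩
      · rw [LinearMap.add_apply, Module.End.mul_apply, E_apply_ne R hψ hK (Ne.symm hb), map_zero, add_zero,
          LinearMap.sub_apply, u_apply R _ _ (E_apply_self R hψ hK _), u_apply R _ _ (E_apply_self R hψ hK _),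
          mul_one, mul_neg_one, sub_smul]
      · rw [Finset.prod_const, Finset.card_univ, Fintype.card_fin, h1 b hb, pow_one, if_neg hb]

end Cfsg.Agent.H114.Ty
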