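import Cfsg.Agent.H926.MinusA
import Cfsg.Agent.H160.QDisc
import Cfsg.Agent.H464.L2StageOne

/-!
# The type of a quadratic form from a skew-adjoint operator (helper114)

* `plus_iff` : `n = 2 m`, `char F ≠ 2`, `D` skew-adjoint for the polar form, `det D ≠ 0` ⟹
  (`Q` has plus type ⟺ `(-1)^m * det D` is a square).
-/

set_option autoImplicit false
set_option linter.unusedSectionVars false

namespace Cfsg.Agent.H114.Ty

open Cfsg.Geo Matrix
open Cfsg.Agent.H922 (toBilin toBilin_isSymm)

variable {ι : Type} [Fintype ι] [DecidableEq ι] {F : Type*} [Field F]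

/-- The Gram determinant times the determinant of a skew-adjoint operator is a square. -/
theorem isSquare_gram_mul {Q : (ι → F) → F} (hQ : IsNondegenerateQuadraticForm Q) (h2 : (2 : F) ≠ 0)
    {D : Matrix ι ι F} (hD : ∀ x y, QuadraticMap.polar Q x (D *ᵥ y) = - QuadraticMap.polar Q (D *ᵥ x) y)
    (hdet : D.det ≠ 0) :
    IsSquare ((LinearMap.BilinForm.toMatrix (Pi.basisFun F ι) (toBilin hQ.polar_bilinear)).det * D.det) := by
  classical
  let b := Pi.basisFun F ι
  let A : LinearMap.BilinForm F (ι → F) := LinearMap.BilinForm.compRight (toBilin hQ.polar_bilinear) D.toLin'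
  have hAap : ∀ x y, A x y = QuadraticMap.polar Q x (D *ᵥ y) := by
    intro x y
    show toBilin hQ.polar_bilinear x (D.toLin' y) = _
    rw [Matrix.toLin'_apply, Cfsg.Agent.H922.toBilin_apply]
  have hA : A.IsAlt := by
    intro x
    rw [hAap]
    have h1 := hD x x
    rw [QuadraticMap.polar_comm Q (D *ᵥ x) x] at h1
    have h3 : (2 : F) * QuadraticMap.polar Q x (D *ᵥ x) = 0 := by linear_combination h1
    exact (mul_eq_zero.1 h3).resolve_left h2
  have hnd : ∀ u, (∀ v, A u v = 0) → u = 0 := by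
    intro u hu
    by_contra h
    obtain ⟨y, hy⟩ := (hQ.nondegenerate u h).2
    apply hy
    have h3 : D *ᵥ (D⁻¹ *ᵥ y) = y := by
      rw [Matrix.mulVec_mulVec, Matrix.mul_nonsing_inv _ (isUnit_iff_ne_zero.2 hdet), Matrix.one_mulVec]
    rw [← h3, ← hAap]
    exact hu _
  have h1 := H160.QDisc.isSquare_det_of_isAlt A hA hnd b
  have h3 : LinearMap.BilinForm.toMatrix b A =
      LinearMap.BilinForm.toMatrix b (toBilin hQ.polar_bilinear) * LinearMap.toMatrix b b D.toLin' :=
    LinearMap.BilinForm.toMatrix_compRight b (toBilin hQ.polar_bilinear) D.toLin'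
  rw [h3, Matrix.det_mul, LinearMap.det_toMatrix, LinearMap.det_toLin'] at h1
  exact h1

/-- **The type from a skew-adjoint operator.** -/
theorem plus_iff [Finite F] {Q : (ι → F) → F} (hQ : IsNondegenerateQuadraticForm Q) (h2 : (2 : F) ≠ 0)
    {m : ℕ} (hm : Fintype.card ι = 2 * m) {D : Matrix ι ι F}
    (hD : ∀ x y, QuadraticMap.polar Q x (D *ᵥ y) = - QuadraticMap.polar Q (D *ᵥ x) y) (hdet : D.det ≠ 0) :
    IsPlusTypeOn Q ⊤ ↔ IsSquare ((-1) ^ m * D.det) := by
  have h1 := isSquare_gram_mul hQ h2 hD hdet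
  have hg : (LinearMap.BilinForm.toMatrix (Pi.basisFun F ι) (toBilin hQ.polar_bilinear)).det ≠ 0 := by
    apply (LinearMap.BilinForm.nondegenerate_iff_det_ne_zero _).1
    refine ⟨fun x hx => ?_, fun x hx => ?_⟩
    · by_contra h
      obtain ⟨y, hy⟩ := (hQ.nondegenerate x h).2
      exact hy (hx y)
    · by_contra h
      obtain ⟨y, hy⟩ := (hQ.nondegenerate x h).1
      exact hy (hx y)
  obtain ⟨a, ha⟩ := h1
  have ha0 : a ≠ 0 := by
    intro h
    rw [h, mul_zero] at ha
    exact (mul_ne_zero hg hdet) ha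
  have hsgn : ((-1 : F) ^ m) * (-1) ^ m = 1 := by
    rw [← mul_pow]; simp
  constructor
  · intro hp
    obtain ⟨s, hs⟩ := H925.det_plus hQ hp hm (Pi.basisFun F ι)
    have hs0 : s ≠ 0 := by
      intro h
      rw [hs, h] at hg
      simp at hg
    refine ⟨a / s, ?_⟩
    rw [hs] at ha
    field_simp
    linear_combination ha
  · rintro ⟨s, hs⟩
    have hs0 : s ≠ 0 := by
      intro h
      rw [h, mul_zero] at hs
      rcases mul_eq_zero.1 hs with h | h
      · rw [h, mul_zero] at hsgn
        exact zero_ne_one hsgn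
      · exact hdet h
    refine H926.plus_of_det hQ h2 hm (Pi.basisFun F ι) (s := a / s) ?_
    have h3 : (LinearMap.BilinForm.toMatrix (Pi.basisFun F ι) (toBilin hQ.polar_bilinear)).det * (s * s) =
        (-1) ^ m * (a * a) := by
      rw [← hs, ← ha]; ring
    field_simp
    linear_combination h3

end Cfsg.Agent.H114.Ty
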