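import Mathlib

/-!
# Squares in finite fields for the types of `L₂(11)` and `L₂(13)` (helper114)
-/

set_option autoImplicit false

namespace Cfsg.Agent.H114.Ty

/-- A natural number in a finite field of cardinality `p ^ (2 k + 1)`: square iff square mod `p`. -/
theorem isSquare_natCast_iff {F : Type*} [Field F] [Fintype F] {p k : ℕ} (hp : p.Prime) (h2 : p ≠ 2)
    (hF : Fintype.card F = p ^ (2 * k + 1)) (a : ℕ) (ha : (a : F) ≠ 0) : IsSquare (a : F) ↔ IsSquare (a : ZMod p) := by
  have := Fact.mk hp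
  have hchar : CharP F p := by
    obtain ⟨r, hr⟩ := CharP.exists F
    obtain ⟨n, hrp, hn⟩ := FiniteField.card F r
    rw [hF] at hn
    have h3 : p = r := (Nat.Prime.pow_inj' hp hrp (by omega) n.ne_zero hn).1
    rwa [h3]
  have hF2 : ringChar F ≠ 2 := by rw [ringChar.eq F p]; exact h2
  have hp2 : ringChar (ZMod p) ≠ 2 := by rw [ringChar.eq (ZMod p) p]; exact h2
  let f := ZMod.castHom (dvd_refl p) F
  have hf : Function.Injective f := f.injective
  have ha' : (a : ZMod p) ≠ 0 := by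
    intro h
    apply ha
    have := congrArg f h
    rwa [map_natCast, map_zero] at this
  rw [FiniteField.isSquare_iff hF2 ha, FiniteField.isSquare_iff hp2 ha', hF, ZMod.card]
  have hodd : Odd p := hp.odd_of_ne_two h2
  obtain ⟨m, hm⟩ := hodd
  have h3 : ((a : ZMod p) ^ (p / 2)) ^ 2 = 1 := by
    rw [← pow_mul, show p / 2 * 2 = p - 1 by omega]
    exact ZMod.pow_card_sub_one_eq_one ha'
  have h4 : (p ^ (2 * k + 1)) / 2 = (p / 2) * ∑ i ∈ Finset.range (2 * k + 1), p ^ i := by
    have h5 : (∑ i ∈ Finset.range (2 * k + 1), p ^ i) * (p - 1) = p ^ (2 * k + 1) - 1 := by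
      have := Nat.geomSum_eq (m := p) hp.two_le (2 * k + 1)
      rw [this, Nat.div_mul_cancel]
      exact Nat.sub_one_dvd_pow_sub_one p (2 * k + 1) |>.trans (dvd_refl _)
    have h6 : Odd (p ^ (2 * k + 1)) := Odd.pow ⟨m, hm⟩
    obtain ⟨s, hs⟩ := h6
    have h7 : p - 1 = 2 * (p / 2) := by omega
    rw [h7, hs] at h5
    rw [hs]
    have h8 : (2 * s + 1) / 2 = s := by omega
    rw [h8]
    have h9 : 2 * s + 1 - 1 = 2 * s := by omega
    rw [h9] at h5
    have h10 : 2 * ((p / 2) * ∑ i ∈ Finset.range (2 * k + 1), p ^ i) = 2 * s := by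
      rw [← h5]; ring
    omega
  have hoddsum : Odd (∑ i ∈ Finset.range (2 * k + 1), p ^ i) := by
    have h5 : ∀ j, (∑ i ∈ Finset.range j, p ^ i) % 2 = j % 2 := by
      intro j
      induction j with
      | zero => simp
      | succ j ih =>
        rw [Finset.sum_range_succ, Nat.add_mod, ih]
        have h6 : p ^ j % 2 = 1 := Nat.odd_iff.1 (Odd.pow ⟨m, hm⟩)
        rw [h6]
        omega
    rw [Nat.odd_iff, h5]
    omega
  obtain ⟨s, hs⟩ := hoddsum
  have h5 : ((a : F)) ^ (p ^ (2 * k + 1) / 2) = f ((a : ZMod p) ^ (p / 2)) := by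
    rw [h4, pow_mul, hs, pow_succ, pow_mul]
    have h6 : (a : F) ^ (p / 2) = f ((a : ZMod p) ^ (p / 2)) := by rw [map_pow, map_natCast]
    rw [h6, ← map_pow f _ 2, h3, map_one, one_pow, one_mul]
  rw [h5]
  constructor
  · intro h
    apply hf
    rw [h, map_one]
  · intro h
    rw [h, map_one]

end Cfsg.Agent.H114.Ty

namespace Cfsg.Agent.H114.Ty

theorem isSquare_neg_iff {p : ℕ} [Fact p.Prime] (h2 : p ≠ 2) (a : ZMod p) (ha : a ≠ 0) :
    IsSquare (-a) ↔ (if p % 4 = 3 then ¬ IsSquare a else IsSquare a) := by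
  classical
  have hn : (-a) ≠ 0 := neg_ne_zero.2 ha
  have hchar : ringChar (ZMod p) ≠ 2 := by rw [ringChar.eq (ZMod p) p]; exact h2
  have hodd : p % 4 = 1 ∨ p % 4 = 3 := by
    have := (Fact.out : p.Prime).eq_two_or_odd
    omega
  have hneg : (-a) = (-1) * a := by ring
  split_ifs with h
  · have h1 : ¬ IsSquare (-1 : ZMod p) := by
      rw [ZMod.exists_sq_eq_neg_one_iff]
      simp [h]
    rw [← quadraticChar_neg_one_iff_not_isSquare] at h1
    rw [← quadraticChar_one_iff_isSquare hn, ← quadraticChar_neg_one_iff_not_isSquare, hneg, map_mul, h1]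
    constructor
    · intro h3; linarith
    · intro h3; linarith
  · have h1 : IsSquare (-1 : ZMod p) := by
      rw [ZMod.exists_sq_eq_neg_one_iff]
      exact h
    constructor
    · intro h3
      have := h1.mul h3
      rwa [neg_one_mul, neg_neg] at this
    · intro h3
      rw [hneg]
      exact h1.mul h3

theorem isSquare_neg_eleven {p : ℕ} [hp : Fact p.Prime] (h2 : p ≠ 2) (h11 : p ≠ 11) :
    IsSquare (-11 : ZMod p) ↔ IsSquare (p : ZMod 11) := by
  have : Fact (Nat.Prime 11) := ⟨by norm_num⟩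
  have h11' : ((11 : ℕ) : ZMod p) ≠ 0 := by
    intro h
    rw [ZMod.natCast_eq_zero_iff] at h
    have := (Nat.prime_dvd_prime_iff_eq hp.out (by norm_num)).1 h
    exact h11 this
  have h0 : (11 : ZMod p) = ((11 : ℕ) : ZMod p) := by norm_num
  rw [h0, isSquare_neg_iff h2 _ h11']
  split_ifs with h
  · rw [ZMod.exists_sq_eq_prime_iff_of_mod_four_eq_three h (by norm_num) h11, not_not]
  · have h3 : p % 4 = 1 := by
      have := hp.out.eq_two_or_odd
      omega
    rw [ZMod.exists_sq_eq_prime_iff_of_mod_four_eq_one h3 (by norm_num)]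

theorem isSquare_thirteen {p : ℕ} [hp : Fact p.Prime] (h2 : p ≠ 2) :
    IsSquare (13 : ZMod p) ↔ IsSquare (p : ZMod 13) := by
  have : Fact (Nat.Prime 13) := ⟨by norm_num⟩
  have h0 : (13 : ZMod p) = ((13 : ℕ) : ZMod p) := by norm_num
  rw [h0, ← ZMod.exists_sq_eq_prime_iff_of_mod_four_eq_one (by norm_num) h2]

section eleven

variable {F : Type*} [Field F] [Fintype F] {k : Type*} [Field k] [Algebra F k] {p : ℕ} [hp : Fact p.Prime] [CharP F p]
  {c : k} {d : F}

theorem eleven_pow (h2 : p ≠ 2) (hc : c ^ 10 = 1) (hc2 : c ^ 2 ≠ 1)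
    (hd : algebraMap F k d = - (11 * (c - c⁻¹) ^ 2)) (hq : Fintype.card F % 5 = 1 ∨ Fintype.card F % 5 = 4) :
    algebraMap F k (d ^ (Fintype.card F / 2)) =
      (-11 : k) ^ (Fintype.card F / 2) * (if Fintype.card F % 5 = 1 then 1 else -1) := by
  have hc0 : c ≠ 0 := by
    rintro rfl
    rw [zero_pow (by norm_num)] at hc
    exact zero_ne_one hc
  have hs : c - c⁻¹ ≠ 0 := by
    intro h
    apply hc2
    have h3 := sub_eq_zero.1 h
    rw [sq]
    nth_rewrite 2 [h3]
    exact mul_inv_cancel₀ hc0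
  have hodd : Fintype.card F % 2 = 1 := by
    obtain ⟨n, -, hn⟩ := FiniteField.card F p
    rw [hn]
    exact Nat.odd_iff.1 ((hp.out.odd_of_ne_two h2).pow)
  have hck : CharP k p := charP_of_injective_algebraMap (algebraMap F k).injective p
  have hfr : (c - c⁻¹) ^ Fintype.card F = c ^ Fintype.card F - (c ^ Fintype.card F)⁻¹ := by
    obtain ⟨n, -, hn⟩ := FiniteField.card F p
    rw [hn, sub_pow_char_pow, inv_pow]
  rw [map_pow, hd]
  have h3 : (-(11 * (c - c⁻¹) ^ 2)) ^ (Fintype.card F / 2) =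
      (-11) ^ (Fintype.card F / 2) * (c - c⁻¹) ^ (2 * (Fintype.card F / 2)) := by
    rw [pow_mul, ← mul_pow]
    congr 1
    ring
  rw [h3]
  congr 1
  have h4 : (c - c⁻¹) ^ (2 * (Fintype.card F / 2)) * (c - c⁻¹) = (c - c⁻¹) ^ Fintype.card F := by
    rw [← pow_succ]
    congr 1
    omega
  apply mul_right_cancel₀ hs
  rw [h4, hfr]
  split_ifs with h
  · have h5 : c ^ Fintype.card F = c := by
      obtain ⟨m, hm⟩ : ∃ m, Fintype.card F = 10 * m + 1 := ⟨Fintype.card F / 10, by omega⟩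
      rw [hm, pow_add, pow_mul, hc, one_pow, one_mul, pow_one]
    rw [h5, one_mul]
  · have h5 : c ^ Fintype.card F = c⁻¹ := by
      obtain ⟨m, hm⟩ : ∃ m, Fintype.card F = 10 * m + 9 := ⟨Fintype.card F / 10, by omega⟩
      rw [hm, pow_add, pow_mul, hc, one_pow, one_mul]
      apply eq_inv_of_mul_eq_one_left
      rw [← pow_succ, hc]
    rw [h5, inv_inv]
    ring

omit [Fintype F] in
theorem d_ne (h11 : (11 : k) ≠ 0) (hc : c ^ 10 = 1) (hc2 : c ^ 2 ≠ 1)
    (hd : algebraMap F k d = - (11 * (c - c⁻¹) ^ 2)) : d ≠ 0 := by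
  have hc0 : c ≠ 0 := by
    rintro rfl
    rw [zero_pow (by norm_num)] at hc
    exact zero_ne_one hc
  rintro rfl
  rw [map_zero] at hd
  have h1 := neg_eq_zero.1 hd.symm
  rcases mul_eq_zero.1 h1 with h | h
  · exact h11 h
  · apply hc2
    have h3 := sub_eq_zero.1 ((pow_eq_zero_iff two_ne_zero).1 h)
    rw [sq]
    nth_rewrite 2 [h3]
    exact mul_inv_cancel₀ hc0

omit [CharP F p] in
theorem five_ne [CharP k p] (hc : c ^ 10 = 1) (hc2 : c ^ 2 ≠ 1) : p ≠ 5 := by
  rintro rfl
  apply hc2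
  have h1 : (c ^ 2 - 1) ^ 5 = 0 := by
    have h3 : (c ^ 2 - 1) ^ 5 = (c ^ 2) ^ 5 - 1 ^ 5 := sub_pow_char (c ^ 2) 1
    rw [h3, ← pow_mul, hc, one_pow, sub_self]
  exact sub_eq_zero.1 ((pow_eq_zero_iff (by norm_num)).1 h1)

theorem eleven_prime (h2 : p ≠ 2) (h11 : p ≠ 11) (hc : c ^ 10 = 1) (hc2 : c ^ 2 ≠ 1)
    (hd : algebraMap F k d = - (11 * (c - c⁻¹) ^ 2)) (hF : Fintype.card F = p) :
    (p % 5 = 1 ∧ (IsSquare d ↔ IsSquare (p : ZMod 11))) ∨ (p % 5 = 4 ∧ (IsSquare d ↔ ¬ IsSquare (p : ZMod 11))) ∨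
      (p % 5 = 2 ∨ p % 5 = 3) := by
  have hck : CharP k p := charP_of_injective_algebraMap (algebraMap F k).injective p
  have h5 := five_ne (p := p) hc hc2
  have h11k : (11 : k) ≠ 0 := by
    intro h
    have h3 : ((11 : ℕ) : k) = 0 := by exact_mod_cast h
    rw [CharP.cast_eq_zero_iff k p] at h3
    exact h11 ((Nat.prime_dvd_prime_iff_eq hp.out (by norm_num)).1 h3)
  have hd0 := d_ne h11k hc hc2 hd
  have hF2 : ringChar F ≠ 2 := by rw [ringChar.eq F p]; exact h2
  have h5' : p % 5 ≠ 0 := by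
    intro h
    exact h5 ((Nat.prime_dvd_prime_iff_eq (by norm_num) hp.out).1 (Nat.dvd_of_mod_eq_zero h)).symm
  -- `(-11)^(p/2)` in `k`
  have hleg : (-11 : k) ^ (p / 2) = if IsSquare (p : ZMod 11) then 1 else -1 := by
    classical
    let f := ZMod.castHom (dvd_refl p) k
    have h6 : (-11 : k) ^ (p / 2) = f ((-11 : ZMod p) ^ (p / 2)) := by
      rw [map_pow, map_neg]
      congr 2
      exact (map_natCast f 11).symm
    have h7 : (-11 : ZMod p) ≠ 0 := by
      intro h
      apply h11k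
      have := congrArg f h
      rw [map_neg, map_zero] at this
      have h8 : f 11 = 11 := map_natCast f 11
      rw [h8] at this
      exact neg_eq_zero.1 this
    have h8 : ringChar (ZMod p) ≠ 2 := by rw [ringChar.eq (ZMod p) p]; exact h2
    have h9 := FiniteField.isSquare_iff h8 h7
    rw [ZMod.card] at h9
    rw [h6]
    split_ifs with h
    · rw [h9.1 ((isSquare_neg_eleven h2 h11).2 h), map_one]
    · have h10 := ZMod.pow_div_two_eq_neg_one_or_one p h7
      rcases h10 with h10 | h10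
      · exact absurd ((isSquare_neg_eleven h2 h11).1 (h9.2 h10)) h
      · rw [h10, map_neg, map_one]
  have hne : (-1 : k) ≠ 1 := by
    intro h
    have h6 : ((2 : ℕ) : k) = 0 := by
      push_cast
      linear_combination -h
    rw [CharP.cast_eq_zero_iff k p] at h6
    exact h2 ((Nat.prime_dvd_prime_iff_eq hp.out Nat.prime_two).1 h6)
  have key : ∀ h : p % 5 = 1 ∨ p % 5 = 4, (IsSquare d ↔
      (if IsSquare (p : ZMod 11) then (1 : k) else -1) * (if p % 5 = 1 then 1 else -1) = 1) := by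
    intro h
    rw [FiniteField.isSquare_iff hF2 hd0]
    have h6 := eleven_pow (p := p) h2 hc hc2 hd (by rw [hF]; exact h)
    rw [hF, hleg] at h6
    rw [hF, ← h6]
    constructor
    · intro h7; rw [h7, map_one]
    · intro h7
      apply (algebraMap F k).injective
      rw [h7, map_one]
  have h6 : p % 5 = 1 ∨ p % 5 = 4 ∨ (p % 5 = 2 ∨ p % 5 = 3) := by omega
  rcases h6 with h6 | h6 | h6
  · left
    refine ⟨h6, ?_⟩
    rw [key (Or.inl h6), if_pos h6, mul_one]
    by_cases h : IsSquare (p : ZMod 11)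
    · simp [h]
    · simp [h, hne]
  · right; left
    refine ⟨h6, ?_⟩
    have h61 : ¬ p % 5 = 1 := by omega
    rw [key (Or.inr h6), if_neg h61]
    by_cases h : IsSquare (p : ZMod 11)
    · simp [h, hne]
    · simp [h]
  · right; right
    exact h6

theorem eleven_sq (h2 : p ≠ 2) (h11 : p ≠ 11) (hc : c ^ 10 = 1) (hc2 : c ^ 2 ≠ 1)
    (hd : algebraMap F k d = - (11 * (c - c⁻¹) ^ 2)) (hF : Fintype.card F = p ^ 2)
    (h5 : p % 5 = 2 ∨ p % 5 = 3) : ¬ IsSquare d := by
  have hck : CharP k p := charP_of_injective_algebraMap (algebraMap F k).injective p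
  have h11k : (11 : k) ≠ 0 := by
    intro h
    have h3 : ((11 : ℕ) : k) = 0 := by exact_mod_cast h
    rw [CharP.cast_eq_zero_iff k p] at h3
    exact h11 ((Nat.prime_dvd_prime_iff_eq hp.out (by norm_num)).1 h3)
  have hd0 := d_ne h11k hc hc2 hd
  have hF2 : ringChar F ≠ 2 := by rw [ringChar.eq F p]; exact h2
  have hmod : Fintype.card F % 5 = 4 := by
    rw [hF, Nat.pow_mod]
    rcases h5 with h | h <;> rw [h]
  rw [FiniteField.isSquare_iff hF2 hd0]
  intro h
  have h6 := eleven_pow (p := p) h2 hc hc2 hd (Or.inr hmod)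
  rw [h, map_one, if_neg (by omega), hF] at h6
  have hne : (-1 : k) ≠ 1 := by
    intro h
    have h6 : ((2 : ℕ) : k) = 0 := by
      push_cast
      linear_combination -h
    rw [CharP.cast_eq_zero_iff k p] at h6
    exact h2 ((Nat.prime_dvd_prime_iff_eq hp.out Nat.prime_two).1 h6)
  have h7 : (-11 : k) ^ (p ^ 2 / 2) = 1 := by
    have hodd : p % 2 = 1 := Nat.odd_iff.1 (hp.out.odd_of_ne_two h2)
    obtain ⟨m, hm⟩ : ∃ m, p = 2 * m + 1 := ⟨p / 2, by omega⟩
    have h8 : p ^ 2 / 2 = (p - 1) * (m + 1) := by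
      have h9 : p ^ 2 = 2 * ((p - 1) * (m + 1)) + 1 := by
        have h10 : p - 1 = 2 * m := by omega
        rw [h10]
        rw [hm]
        ring
      omega
    let f := ZMod.castHom (dvd_refl p) k
    have h9 : (-11 : k) ^ (p ^ 2 / 2) = f ((-11 : ZMod p) ^ (p ^ 2 / 2)) := by
      rw [map_pow, map_neg]
      congr 2
      exact (map_natCast f 11).symm
    have h10 : (-11 : ZMod p) ≠ 0 := by
      intro h
      apply h11k
      have := congrArg f h
      rw [map_neg, map_zero] at this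
      have h8 : f 11 = 11 := map_natCast f 11
      rw [h8] at this
      exact neg_eq_zero.1 this
    rw [h9, h8, pow_mul, ZMod.pow_card_sub_one_eq_one h10, one_pow, map_one]
  rw [h7, one_mul] at h6
  exact hne h6.symm

end eleven

end Cfsg.Agent.H114.Ty
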