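import Cfsg.Agent.H464.L2StageOne

/-!
# Products of character values and determinants of combinations of weight projections (helper114)
-/

set_option autoImplicit false
set_option linter.unusedSectionVars false

namespace Cfsg.Agent.H114.Ty

open Matrix Module Cfsg Cfsg.Agent.H464.Sl2

section Prod

variable {K : Type*} [Field K] [Fintype K] {k : Type*} [Field k]

theorem psi_pow (hr : (Fintype.card K).Prime) (ψ : AddChar K k) (b : K) : ψ b ^ Fintype.card K = 1 := by
  rw [← AddChar.map_nsmul_eq_pow]
  have : Fintype.card K • b = 0 := card_nsmul_eq_zero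
  rw [this, AddChar.map_zero_eq_one]

theorem psi_injective (hr : (Fintype.card K).Prime) {ψ : AddChar K k} (hψ : ψ.IsPrimitive) :
    Function.Injective ψ := by
  intro a b hab
  by_contra hne
  have hc : a - b ≠ 0 := sub_ne_zero.2 hne
  have h1 : ψ (a - b) = 1 := by
    rw [AddChar.map_sub_eq_div, hab, div_self]
    intro h0
    have := psi_pow hr ψ b
    rw [h0, zero_pow hr.ne_zero] at this
    exact zero_ne_one this
  have h2 : ∀ n : ℕ, ψ (n • (a - b)) = 1 := by
    intro n
    rw [AddChar.map_nsmul_eq_pow, h1, one_pow]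
  have := Fact.mk hr
  have hch : CharP K (Fintype.card K) := by
    have h3 := CharP.exists K
    obtain ⟨p, hp⟩ := h3
    obtain ⟨n, hpp, hn⟩ := FiniteField.card K p
    have h4 : p = Fintype.card K := by
      have h5 : p ∣ Fintype.card K := by rw [hn]; exact dvd_pow_self p n.ne_zero
      exact (Nat.prime_dvd_prime_iff_eq hpp hr).1 h5
    rwa [← h4]
  have h3 : ∀ x : K, ψ x = 1 := by
    intro x
    obtain ⟨m, hm⟩ : ∃ m : ZMod (Fintype.card K), (ZMod.ringEquivOfPrime K hr rfl) m = x / (a - b) :=
      (ZMod.ringEquivOfPrime K hr rfl).surjective _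
    have h4 : x = m.val • (a - b) := by
      rw [nsmul_eq_mul]
      have h5 : ((m.val : ℕ) : K) = x / (a - b) := by
        rw [← hm]
        conv_rhs => rw [← ZMod.natCast_zmod_val m]
        rw [map_natCast]
      rw [h5, div_mul_cancel₀ _ hc]
    rw [h4, h2]
  have h6 := hψ (a := (1 : K)) one_ne_zero
  apply h6
  ext x
  rw [AddChar.mulShift_apply, h3, AddChar.one_apply]

/-- `∏ (1 - ψ b) = r` -/
theorem prod_one_sub [DecidableEq K] (hr : (Fintype.card K).Prime) {ψ : AddChar K k} (hψ : ψ.IsPrimitive) :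
    ∏ b ∈ Finset.univ.erase (0 : K), (1 - ψ b) = (Fintype.card K : k) := by
  classical
  have hinj := psi_injective hr hψ
  have hpos : 0 < Fintype.card K := Fintype.card_pos
  have h1 : Polynomial.nthRootsFinset (Fintype.card K) (1 : k) = Finset.univ.image ψ := by
    symm
    apply Finset.eq_of_subset_of_card_le
    · intro x hx
      obtain ⟨b, -, rfl⟩ := Finset.mem_image.1 hx
      rw [Polynomial.mem_nthRootsFinset hpos]
      exact psi_pow hr ψ b
    · rw [Finset.card_image_of_injective _ hinj, Finset.card_univ]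
      unfold Polynomial.nthRootsFinset
      exact (Multiset.toFinset_card_le _).trans (Polynomial.card_nthRoots _ _)
  have hone : ψ (1 : K) ≠ 1 := fun h => one_ne_zero (hinj (h.trans (AddChar.map_zero_eq_one ψ).symm))
  have hprim : IsPrimitiveRoot (ψ 1) (Fintype.card K) := by
    have h2 : orderOf (ψ (1 : K)) = Fintype.card K := by
      have := Fact.mk hr
      exact orderOf_eq_prime (psi_pow hr ψ 1) hone
    rw [← h2]
    exact IsPrimitiveRoot.orderOf _
  have h2 := Polynomial.X_pow_sub_one_eq_prod (R := k) hpos hprim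
  rw [h1, Finset.prod_image (fun x _ y _ h => hinj h), ← Finset.mul_prod_erase _ _ (Finset.mem_univ (0 : K)),
    AddChar.map_zero_eq_one, ← mul_geom_sum] at h2
  have h3 : (Polynomial.X - 1 : Polynomial k) ≠ 0 := by
    intro h
    have := congrArg (Polynomial.eval 0) h
    simp at this
  rw [Polynomial.C_1] at h2
  have h4 := mul_left_cancel₀ h3 h2
  have h5 := congrArg (Polynomial.eval 1) h4
  rw [Polynomial.eval_prod, Polynomial.eval_finset_sum] at h5
  simp only [Polynomial.eval_pow, Polynomial.eval_X, one_pow, Finset.sum_const, Finset.card_range, nsmul_eq_mul,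
    mul_one, Polynomial.eval_sub, Polynomial.eval_C] at h5
  exact h5.symm

/-- `∏ (ψ b - ψ (-b)) = r` -/
theorem prod_sub_inv [DecidableEq K] (hr : (Fintype.card K).Prime) (h2 : Odd (Fintype.card K)) {ψ : AddChar K k}
    (hψ : ψ.IsPrimitive) :
    ∏ b ∈ Finset.univ.erase (0 : K), (ψ b - ψ (-b)) = (Fintype.card K : k) := by
  have h20 : (2 : K) ≠ 0 := by
    intro h
    have h3 : ringChar K = 2 := CharP.ringChar_of_prime_eq_zero Nat.prime_two (by exact_mod_cast h)
    have h4 := FiniteField.even_card_iff_char_two.1 h3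
    rcases h2 with ⟨m, hm⟩
    omega
  have h3 : ∀ b ∈ Finset.univ.erase (0 : K), (ψ b - ψ (-b)) = - ψ (-b) * (1 - ψ (2 * b)) := by
    intro b _
    have h4 : ψ (-b) * ψ (2 * b) = ψ b := by
      rw [← AddChar.map_add_eq_mul]; congr 1; ring
    linear_combination -h4
  rw [Finset.prod_congr rfl h3, Finset.prod_mul_distrib]
  have h5 : ∏ b ∈ Finset.univ.erase (0 : K), (1 - ψ (2 * b)) = ∏ b ∈ Finset.univ.erase (0 : K), (1 - ψ b) := by
    refine Finset.prod_bij (fun b _ => 2 * b) ?_ ?_ ?_ ?_
    · intro b hb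
      exact Finset.mem_erase.2 ⟨mul_ne_zero h20 (Finset.ne_of_mem_erase hb), Finset.mem_univ _⟩
    · intro a _ b _ h
      exact mul_left_cancel₀ h20 h
    · intro b hb
      refine ⟨b / 2, Finset.mem_erase.2 ⟨div_ne_zero (Finset.ne_of_mem_erase hb) h20, Finset.mem_univ _⟩, ?_⟩
      rw [mul_div_cancel₀ b h20]
    · intro b _
      rfl
  have h6 : ∏ b ∈ Finset.univ.erase (0 : K), (- ψ (-b)) = 1 := by
    have h7 : ∏ b ∈ Finset.univ.erase (0 : K), (ψ (-b)) = 1 := by
      have h8 : ∏ b ∈ Finset.univ.erase (0 : K), (ψ (-b)) = ∏ b ∈ Finset.univ.erase (0 : K), ψ b := by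
        refine Finset.prod_bij (fun b _ => -b) ?_ ?_ ?_ ?_
        · intro b hb
          exact Finset.mem_erase.2 ⟨neg_ne_zero.2 (Finset.ne_of_mem_erase hb), Finset.mem_univ _⟩
        · intro a _ b _ h
          exact neg_injective h
        · intro b hb
          exact ⟨-b, Finset.mem_erase.2 ⟨neg_ne_zero.2 (Finset.ne_of_mem_erase hb), Finset.mem_univ _⟩, neg_neg b⟩
        · intro b _
          rfl
      have h9 : (∏ b ∈ Finset.univ.erase (0 : K), (ψ (-b))) * ∏ b ∈ Finset.univ.erase (0 : K), ψ b = 1 := by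
        rw [← Finset.prod_mul_distrib]
        apply Finset.prod_eq_one
        intro b _
        rw [← AddChar.map_add_eq_mul, neg_add_cancel, AddChar.map_zero_eq_one]
      have h10 : (∏ b ∈ Finset.univ.erase (0 : K), (ψ (-b))) ^ Fintype.card K = 1 := by
        rw [← Finset.prod_pow]
        exact Finset.prod_eq_one fun b _ => psi_pow hr ψ _
      rw [← h8, ← sq] at h9
      obtain ⟨m, hm⟩ := h2
      rw [hm, pow_succ, pow_mul, h9, one_pow, one_mul] at h10
      exact h10
    have h8 : ∀ b ∈ Finset.univ.erase (0 : K), (- ψ (-b)) = (-1) * ψ (-b) := fun b _ => by ring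
    rw [Finset.prod_congr rfl h8, Finset.prod_mul_distrib, h7, mul_one, Finset.prod_const,
      Finset.card_erase_of_mem (Finset.mem_univ _), Finset.card_univ]
    obtain ⟨m, hm⟩ := h2
    rw [hm, Nat.add_sub_cancel, pow_mul]
    simp
  rw [h5, h6, one_mul, prod_one_sub hr hψ]

end Prod

section Det

variable {K : Type*} [Field K] [Fintype K] {k : Type*} [Field k] {V : Type*} [AddCommGroup V] [Module k V]
  [FiniteDimensional k V]

/-- The determinant of a diagonal endomorphism. -/
theorem det_of_basis {κ : Type*} [Fintype κ] [DecidableEq κ] (B : Basis κ k V) (T : Module.End k V) (c : κ → k)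
    (h : ∀ i, T (B i) = c i • B i) : LinearMap.det T = ∏ i, c i := by
  rw [← LinearMap.det_toMatrix B]
  have h1 : LinearMap.toMatrix B B T = Matrix.diagonal c := by
    ext i j
    rw [LinearMap.toMatrix_apply, h, map_smul, Basis.repr_self, Finsupp.smul_single, smul_eq_mul, mul_one,
      Matrix.diagonal_apply, Finsupp.single_apply]
    by_cases hij : i = j
    · rw [if_pos hij, if_pos hij.symm, hij]
    · rw [if_neg hij, if_neg fun h => hij h.symm]
  rw [h1, Matrix.det_diagonal]

end Det

end Cfsg.Agent.H114.Ty
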